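import Groth.Agent.FlatMisc.GenericFreeLoc
import Mathlib.AlgebraicGeometry.Morphisms.Flat
import Mathlib.AlgebraicGeometry.Morphisms.FinitePresentation
import Mathlib.AlgebraicGeometry.Morphisms.FiniteType

/-! Generic flatness over a reduced base. -/

set_option autoImplicit false

universe u

open AlgebraicGeometry CategoryTheory Limits TopologicalSpace TensorProduct

namespace Groth.Agent.FlatMisc.GenericFlat

variable {X S : Scheme.{u}} (f : X ⟶ S) [LocallyOfFiniteType f]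

theorem exists_piece {V : S.Opens} (hV : IsAffineOpen V) [IsReduced S] {U : X.Opens}
    (hU : IsAffineOpen U) (e : U ≤ f ⁻¹ᵁ V) {a : Γ(S, V)} (ha : a ≠ 0) :
    ∃ g : Γ(S, V), a ∣ g ∧ g ≠ 0 ∧ ∀ g' : Γ(S, V), g ∣ g' →
      Flat (f.resLE (S.basicOpen g') (U ⊓ f ⁻¹ᵁ S.basicOpen g') inf_le_right) ∧
      LocallyOfFinitePresentation (f.resLE (S.basicOpen g') (U ⊓ f ⁻¹ᵁ S.basicOpen g') inf_le_right) := by
  algebraize [(f.appLE V U e).hom]
  have hft : Algebra.FiniteType Γ(S, V) Γ(X, U) := f.finiteType_appLE hV hU e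
  have hred : _root_.IsReduced Γ(S, V) := inferInstance
  obtain ⟨f₁, haf, hf₁, h₁⟩ := GenericFree.genFree (R := Γ(S, V)) Γ(X, U) Γ(X, U) a ha
  obtain ⟨f₂, h12, hf₂, h₂⟩ := GenericFree.exists_algebra_finitePresentation (S := Γ(X, U)) hf₁
  refine ⟨f₂, haf.trans h12, hf₂, fun g hg => ?_⟩
  have hD : X.basicOpen ((f.appLE V U e).hom g) = U ⊓ f ⁻¹ᵁ S.basicOpen g :=
    Scheme.basicOpen_appLE f U V e g
  have eD : X.basicOpen ((f.appLE V U e).hom g) ≤ f ⁻¹ᵁ S.basicOpen g := hD.trans_le inf_le_right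
  suffices h : Flat (f.resLE _ _ eD) ∧ LocallyOfFinitePresentation (f.resLE _ _ eD) from
    ⟨(Scheme.Hom.resLE_congr f eD rfl hD @Flat).mp h.1,
      (Scheme.Hom.resLE_congr f eD rfl hD @LocallyOfFinitePresentation).mp h.2⟩
  have : IsAffine (S.basicOpen g).toScheme := hV.basicOpen _
  have : IsAffine (X.basicOpen ((f.appLE V U e).hom g)).toScheme := hU.basicOpen _
  rw [HasRingHomProperty.iff_of_isAffine (P := @Flat),
    HasRingHomProperty.iff_of_isAffine (P := @LocallyOfFinitePresentation),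
    RingHom.Flat.respectsIso.arrow_mk_iso_iff (arrowResLEAppIso f _ _ eD),
    RingHom.finitePresentation_respectsIso.arrow_mk_iso_iff (arrowResLEAppIso f _ _ eD)]
  have := hV.isLocalization_basicOpen g
  have : IsLocalization.Away (algebraMap Γ(S, V) Γ(X, U) g)
      Γ(X, X.basicOpen ((f.appLE V U e).hom g)) := hU.isLocalization_basicOpen _
  letI : Algebra Γ(S, S.basicOpen g) Γ(X, X.basicOpen ((f.appLE V U e).hom g)) :=
    (f.appLE _ _ eD).hom.toAlgebra
  letI : Algebra Γ(S, V) Γ(X, X.basicOpen ((f.appLE V U e).hom g)) :=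
    (f.appLE V _ (le_trans (X.basicOpen_le _) e)).hom.toAlgebra
  have : IsScalarTower Γ(S, V) Γ(S, S.basicOpen g) Γ(X, X.basicOpen ((f.appLE V U e).hom g)) := by
    refine IsScalarTower.of_algebraMap_eq' ?_
    show (f.appLE V _ _).hom = (f.appLE _ _ eD).hom.comp
      (S.presheaf.map (homOfLE (S.basicOpen_le g)).op).hom
    rw [← CommRingCat.hom_comp, Scheme.Hom.map_appLE]
  have : IsScalarTower Γ(S, V) Γ(X, U) Γ(X, X.basicOpen ((f.appLE V U e).hom g)) := by
    refine IsScalarTower.of_algebraMap_eq' ?_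
    show (f.appLE V _ _).hom = (X.presheaf.map
      (homOfLE (X.basicOpen_le ((f.appLE V U e).hom g))).op).hom.comp (f.appLE V U e).hom
    rw [← CommRingCat.hom_comp, Scheme.Hom.appLE_map]
  have : IsLocalization (Algebra.algebraMapSubmonoid Γ(X, U) (Submonoid.powers g))
      Γ(X, X.basicOpen ((f.appLE V U e).hom g)) := by
    rw [Algebra.algebraMapSubmonoid_powers]
    exact ‹IsLocalization.Away (algebraMap Γ(S, V) Γ(X, U) g) _›
  constructor
  · show Module.Flat Γ(S, S.basicOpen g) Γ(X, X.basicOpen ((f.appLE V U e).hom g))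
    have : IsLocalizedModule (Submonoid.powers g)
        (IsScalarTower.toAlgHom Γ(S, V) Γ(X, U)
          Γ(X, X.basicOpen ((f.appLE V U e).hom g))).toLinearMap :=
      isLocalizedModule_iff_isLocalization.mpr inferInstance
    have := (h₁.of_dvd (h12.trans hg)).free_of_isLocalizedModule (R' := Γ(S, S.basicOpen g))
      (IsScalarTower.toAlgHom Γ(S, V) Γ(X, U) Γ(X, X.basicOpen ((f.appLE V U e).hom g))).toLinearMap
    infer_instance
  · show Algebra.FinitePresentation Γ(S, S.basicOpen g) Γ(X, X.basicOpen ((f.appLE V U e).hom g))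
    have hfp := h₂ g hg
    have hpo2 : Algebra.IsPushout Γ(S, V) Γ(S, S.basicOpen g) Γ(X, U)
        Γ(X, X.basicOpen ((f.appLE V U e).hom g)) :=
      (Algebra.isPushout_of_isLocalization (R := Γ(S, V)) (Submonoid.powers g) Γ(S, S.basicOpen g)
        Γ(X, U) Γ(X, X.basicOpen ((f.appLE V U e).hom g))).symm
    have h3 : Algebra.FinitePresentation Γ(S, S.basicOpen g)
        (Γ(S, S.basicOpen g) ⊗[Γ(S, V)] Γ(X, U)) := by
      let e₀ : Localization.Away g ≃ₐ[Γ(S, V)] Γ(S, S.basicOpen g) :=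
        IsLocalization.algEquiv (Submonoid.powers g) _ _
      letI : Algebra (Localization.Away g) Γ(S, S.basicOpen g) := e₀.toAlgHom.toRingHom.toAlgebra
      have : IsScalarTower Γ(S, V) (Localization.Away g) Γ(S, S.basicOpen g) :=
        IsScalarTower.of_algebraMap_eq fun r => (e₀.commutes r).symm
      exact Algebra.FinitePresentation.equiv
        (Algebra.TensorProduct.cancelBaseChange Γ(S, V) (Localization.Away g)
          Γ(S, S.basicOpen g) Γ(S, S.basicOpen g) Γ(X, U))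
    exact Algebra.FinitePresentation.equiv
      (Algebra.IsPushout.equiv Γ(S, V) Γ(S, S.basicOpen g) Γ(X, U)
        Γ(X, X.basicOpen ((f.appLE V U e).hom g)))

theorem exists_open [IsReduced S] [QuasiCompact f] (W : S.Opens) (hW : (W : Set S).Nonempty) :
    ∃ W' : S.Opens, W' ≤ W ∧ (W' : Set S).Nonempty ∧ Flat (f ∣_ W') ∧
      LocallyOfFinitePresentation (f ∣_ W') := by
  obtain ⟨x, hx⟩ := hW
  obtain ⟨_, ⟨V, hV, rfl⟩, hxV, hVW⟩ :=
    S.isBasis_affineOpens.exists_subset_of_mem_open hx W.2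
  obtain ⟨s, hs, hcov⟩ := isCompact_iff_finite_and_eq_biUnion_affineOpens.mp
    (f.isCompact_preimage hV.isCompact : IsCompact ((f ⁻¹ᵁ V : X.Opens) : Set X))
  have hle : ∀ U ∈ s, (U : X.Opens) ≤ f ⁻¹ᵁ V := fun U hU =>
    hcov.symm ▸ le_iSup₂_of_le (f := fun (i : X.affineOpens) (_ : i ∈ s) => (i : X.Opens)) U hU le_rfl
  have key : ∀ t : Set X.affineOpens, t.Finite → (∀ U ∈ t, U ∈ s) →
      ∃ g : Γ(S, V), g ≠ 0 ∧ ∀ U ∈ t, ∀ g', g ∣ g' →
        Flat (f.resLE (S.basicOpen g') ((U : X.Opens) ⊓ f ⁻¹ᵁ S.basicOpen g') inf_le_right) ∧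
        LocallyOfFinitePresentation
          (f.resLE (S.basicOpen g') ((U : X.Opens) ⊓ f ⁻¹ᵁ S.basicOpen g') inf_le_right) := by
    intro t ht
    induction t, ht using Set.Finite.induction_on with
    | empty =>
      refine fun _ => ⟨1, fun h => ?_, fun U hU => absurd hU (Set.notMem_empty U)⟩
      have h1 : x ∈ S.basicOpen (1 : Γ(S, V)) := by
        rw [Scheme.basicOpen_of_isUnit _ isUnit_one]; exact hxV
      rw [h, Scheme.basicOpen_zero] at h1
      exact h1
    | @insert U t _ _ ih =>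
      intro hts
      obtain ⟨g, hg, h⟩ := ih fun U' hU' => hts U' (Set.mem_insert_of_mem _ hU')
      obtain ⟨g₂, hgg, hg₂, h₂⟩ :=
        exists_piece f hV U.2 (hle U (hts U (Set.mem_insert _ _))) hg
      refine ⟨g₂, hg₂, fun U' hU' g' hg' => ?_⟩
      rcases Set.mem_insert_iff.mp hU' with rfl | hU'
      · exact h₂ g' hg'
      · exact h U' hU' g' (hgg.trans hg')
  obtain ⟨g, hg, h⟩ := key s hs fun _ hU => hU
  have hne : (S.basicOpen g : Set S).Nonempty := by
    rw [Set.nonempty_iff_ne_empty]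
    intro h0
    refine hg (((basicOpen_eq_bot_iff g).mp) (Opens.ext (by simpa using h0)))
  refine ⟨S.basicOpen g, le_trans (S.basicOpen_le g) hVW, hne, ?_⟩
  let O : s → (f ⁻¹ᵁ S.basicOpen g).toScheme.Opens := fun U =>
    (X.homOfLE (inf_le_right : ((U : X.affineOpens) : X.Opens) ⊓ f ⁻¹ᵁ S.basicOpen g ≤ _)).opensRange
  have htop : iSup O = ⊤ := by
    refine eq_top_iff.mpr fun y _ => ?_
    have : y.1 ∈ f ⁻¹ᵁ V := S.basicOpen_le g y.2
    rw [hcov] at this
    simp only [Opens.mem_iSup] at this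
    obtain ⟨U, hU, hyU⟩ := this
    refine Opens.mem_iSup.mpr ⟨⟨U, hU⟩, ⟨⟨y.1, hyU, y.2⟩, Subtype.ext ?_⟩⟩
    exact Scheme.homOfLE_apply _ _
  have hres : ∀ (P : MorphismProperty Scheme.{u}) [P.RespectsIso] (U : s),
      P (f.resLE (S.basicOpen g) (((U : X.affineOpens) : X.Opens) ⊓ f ⁻¹ᵁ S.basicOpen g) inf_le_right) →
      P ((O U).ι ≫ f ∣_ S.basicOpen g) := by
    intro P _ U hP
    rw [← MorphismProperty.cancel_left_of_respectsIso P (X.homOfLE (inf_le_right :
      ((U : X.affineOpens) : X.Opens) ⊓ f ⁻¹ᵁ S.basicOpen g ≤ _)).isoOpensRange.hom,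
      ← Category.assoc, Scheme.Hom.isoOpensRange_hom_ι]
    exact hP
  exact ⟨IsZariskiLocalAtSource.of_iSup_eq_top O htop fun U => hres @Flat U (h U U.2 g dvd_rfl).1,
    IsZariskiLocalAtSource.of_iSup_eq_top O htop fun U =>
      hres @LocallyOfFinitePresentation U (h U U.2 g dvd_rfl).2⟩

end Groth.Agent.FlatMisc.GenericFlat
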