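import Groth.Agent.FlatMisc.GenericFree
import Mathlib.RingTheory.Localization.Module
import Mathlib.RingTheory.Localization.BaseChange
import Mathlib.RingTheory.Localization.Away.Basic
import Mathlib.Algebra.Module.FinitePresentation
import Mathlib.LinearAlgebra.Basis.Basic
import Mathlib.RingTheory.Flat.Basic
import Mathlib.RingTheory.Flat.Localization

/-! Consequences of generic freeness for localizations away from an element. -/

set_option autoImplicit false

universe u

open TensorProduct

namespace Groth.Agent.FlatMisc.GenericFree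

variable {R : Type u} [CommRing R] {M : Type u} [AddCommGroup M] [Module R M]

theorem FreeAt.free_of_isLocalizedModule {f : R} (h : FreeAt f M) {R' M' : Type u}
    [CommRing R'] [Algebra R R'] [IsLocalization.Away f R'] [AddCommGroup M'] [Module R M']
    [Module R' M'] [IsScalarTower R R' M'] (g : M →ₗ[R] M')
    [IsLocalizedModule (Submonoid.powers f) g] : Module.Free R' M' := by
  classical
  obtain ⟨ι, v, hv, hs⟩ := h
  have hli : LinearIndependent R' (g ∘ v) := by
    rw [linearIndependent_iff']
    intro s c hc i hi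
    obtain ⟨⟨_, e, rfl⟩, he⟩ := IsLocalization.exist_integer_multiples (Submonoid.powers f) s c
    choose d hd using he
    replace hd : ∀ j (hj : j ∈ s), algebraMap R R' (d j hj) = f ^ e • c j := hd
    let D : ι →₀ R := Finsupp.onFinset s (fun j => if hj : j ∈ s then d j hj else 0)
      (fun j hj => by by_contra h; exact hj (dif_neg h))
    have hD : g (Finsupp.linearCombination R v D) = 0 := by
      rw [Finsupp.linearCombination_apply, Finsupp.onFinset_sum]
      rotate_left
      · exact fun _ => zero_smul _ _
      rw [map_sum]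
      calc ∑ j ∈ s, g ((if hj : j ∈ s then d j hj else 0) • v j)
          = f ^ e • ∑ j ∈ s, c j • (g ∘ v) j := by
            rw [Finset.smul_sum]
            refine Finset.sum_congr rfl fun j hj => ?_
            rw [dif_pos hj, map_smul, ← algebraMap_smul R' (d j hj), hd j hj, smul_assoc]
            rfl
        _ = 0 := by rw [hc, smul_zero]
    obtain ⟨⟨_, k, rfl⟩, hk⟩ :=
      IsLocalizedModule.exists_of_eq (S := Submonoid.powers f) (f := g) (x₁ := _) (x₂ := 0)
        (hD.trans (map_zero g).symm)
    rw [Submonoid.smul_def, Submonoid.smul_def, smul_zero, ← map_smul] at hk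
    have hfd := DFunLike.congr_fun (hv _ hk) i
    simp only [D, Finsupp.coe_smul, Pi.smul_apply, Finsupp.onFinset_apply, dif_pos hi, smul_eq_mul,
      Finsupp.coe_zero, Pi.zero_apply] at hfd
    have hu : IsUnit (algebraMap R R' f) := IsLocalization.Away.algebraMap_isUnit f
    have h0 := congrArg (algebraMap R R') hfd
    rw [map_mul, map_mul, map_pow, map_zero, hd i hi, Algebra.smul_def, map_pow] at h0
    exact (hu.pow e).mul_right_eq_zero.mp ((hu.pow k).mul_right_eq_zero.mp (hu.mul_right_eq_zero.mp h0))
  have hsp : ⊤ ≤ Submodule.span R' (Set.range (g ∘ v)) := by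
    intro y _
    obtain ⟨⟨m, ⟨_, k, rfl⟩⟩, hy⟩ := IsLocalizedModule.surj (Submonoid.powers f) g y
    obtain ⟨l, hl⟩ := hs m
    have hmem : f ^ l • f ^ k • y ∈ Submodule.span R' (Set.range (g ∘ v)) := by
      rw [Submonoid.smul_def] at hy
      rw [hy, ← map_smul, Set.range_comp]
      exact Submodule.span_le_restrictScalars R R' _
        (by rw [← Submodule.map_span]; exact Submodule.mem_map_of_mem hl)
    rw [← mul_smul, ← algebraMap_smul R' (f ^ l * f ^ k)] at hmem
    have hu : IsUnit (algebraMap R R' (f ^ l * f ^ k)) := by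
      rw [← pow_add, map_pow]; exact (IsLocalization.Away.algebraMap_isUnit f).pow _
    exact (Submodule.smul_mem_iff_of_isUnit _ hu).mp hmem
  exact Module.Free.of_basis (Module.Basis.mk hli hsp)

theorem FreeAt.free_tensor {f : R} (h : FreeAt f M) :
    Module.Free (Localization.Away f) (Localization.Away f ⊗[R] M) :=
  h.free_of_isLocalizedModule (TensorProduct.mk R (Localization.Away f) M 1)

theorem FreeAt.flat_of_isLocalizedModule {f : R} (h : FreeAt f M) {R' M' : Type u}
    [CommRing R'] [Algebra R R'] [IsLocalization.Away f R'] [AddCommGroup M'] [Module R M']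
    [Module R' M'] [IsScalarTower R R' M'] (g : M →ₗ[R] M')
    [IsLocalizedModule (Submonoid.powers f) g] : Module.Flat R M' := by
  have := h.free_of_isLocalizedModule (R' := R') g
  have : Module.Flat R R' := IsLocalization.flat R' (Submonoid.powers f)
  exact Module.Flat.trans R R' M'

variable {S : Type u} [CommRing S] [Algebra R S] [Algebra.FiniteType R S]

/-- A finite module is generically finitely presented. -/
theorem exists_finitePresentation [IsReduced R] (M : Type u) [AddCommGroup M] [Module S M]
    [Module R M] [IsScalarTower R S M] [Module.Finite S M] {a : R} (ha : a ≠ 0) :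
    ∃ f : R, a ∣ f ∧ f ≠ 0 ∧ ∀ g : R, f ∣ g →
      Module.FinitePresentation (Localization.Away (algebraMap R S g))
        (LocalizedModule (Submonoid.powers (algebraMap R S g)) M) := by
  obtain ⟨r, π, hπ⟩ := Module.Finite.exists_fin' S M
  obtain ⟨f, haf, hf, G, hGf, hGK, hG⟩ := genFG S (Fin r → S) (LinearMap.ker π) a ha
  refine ⟨f, haf, hf, fun g ⟨c, hc⟩ => ?_⟩
  subst hc
  have : Module.FinitePresentation S ((Fin r → S) ⧸ Submodule.span S G) :=
    Module.finitePresentation_of_surjective _ (Submodule.mkQ_surjective _) (by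
      rw [Submodule.ker_mkQ]; exact Submodule.fg_span hGf)
  let q : ((Fin r → S) ⧸ Submodule.span S G) →ₗ[S] M :=
    (Submodule.span S G).liftQ π (Submodule.span_le.mpr hGK)
  have hq : Function.Surjective q := fun m => by
    obtain ⟨e, rfl⟩ := hπ m; exact ⟨Submodule.Quotient.mk e, rfl⟩
  let P := Submonoid.powers (algebraMap R S (f * c))
  let F : LocalizedModule P ((Fin r → S) ⧸ Submodule.span S G) →ₗ[Localization P] LocalizedModule P M :=
    (IsLocalizedModule.map P (LocalizedModule.mkLinearMap P _) (LocalizedModule.mkLinearMap P _) q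
      ).extendScalarsOfIsLocalization P (Localization P)
  have hF : Function.Bijective F := by
    refine ⟨?_, ?_⟩
    · rw [injective_iff_map_eq_zero]
      intro y hy
      obtain ⟨⟨e, s⟩, rfl⟩ := IsLocalizedModule.mk'_surjective P (LocalizedModule.mkLinearMap P _) y
      simp only [Function.uncurry_apply_pair, F, LinearMap.extendScalarsOfIsLocalization_apply',
        IsLocalizedModule.map_mk', IsLocalizedModule.mk'_eq_zero'] at hy ⊢
      obtain ⟨⟨_, k, rfl⟩, hk⟩ := hy
      obtain ⟨e, rfl⟩ := Submodule.Quotient.mk_surjective _ e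
      have hker : (algebraMap R S (f * c)) ^ k • e ∈ LinearMap.ker π := by
        rw [LinearMap.mem_ker, map_smul]; exact hk
      obtain ⟨l, hl⟩ := hG _ hker
      refine ⟨⟨(algebraMap R S (f * c)) ^ (l + k), l + k, rfl⟩, ?_⟩
      rw [Submonoid.smul_def, ← Submodule.Quotient.mk_smul, Submodule.Quotient.mk_eq_zero]
      show (algebraMap R S (f * c)) ^ (l + k) • e ∈ Submodule.span S G
      rw [pow_add,
        mul_smul, map_mul, mul_pow, ← map_pow, mul_comm, mul_smul, algebraMap_smul]
      exact Submodule.smul_mem _ _ (by rwa [map_mul] at hl)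
    · intro y
      obtain ⟨⟨m, s⟩, rfl⟩ := IsLocalizedModule.mk'_surjective P (LocalizedModule.mkLinearMap P _) y
      obtain ⟨e, rfl⟩ := hq m
      exact ⟨IsLocalizedModule.mk' (LocalizedModule.mkLinearMap P _) e s, by
        simp [F, IsLocalizedModule.map_mk']⟩
  exact Module.FinitePresentation.of_equiv (LinearEquiv.ofBijective F hF)

/-- A surjection with kernel killed by powers of `f` becomes bijective after inverting `f`. -/
theorem lTensor_away_bijective {N L : Type u} [AddCommGroup N] [Module R N] [AddCommGroup L]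
    [Module R L] (f : R) (q : N →ₗ[R] L) (hq : Function.Surjective q)
    (hker : ∀ x, q x = 0 → ∃ k : ℕ, f ^ k • x = 0) :
    Function.Bijective (q.lTensor (Localization.Away f)) := by
  refine ⟨?_, LinearMap.lTensor_surjective _ hq⟩
  rw [injective_iff_map_eq_zero]
  intro y hy
  obtain ⟨⟨z, v⟩, hzv⟩ := IsLocalizedModule.surj (Submonoid.powers f)
    (TensorProduct.mk R (Localization.Away f) N 1) y
  have h1 : TensorProduct.mk R (Localization.Away f) L 1 (q z) =
      TensorProduct.mk R (Localization.Away f) L 1 0 := by
    have h2 := congrArg (q.lTensor (Localization.Away f)) hzv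
    rw [Submonoid.smul_def, map_smul, hy, smul_zero] at h2
    rw [map_zero]
    exact h2.symm
  obtain ⟨⟨_, k, rfl⟩, hk⟩ := IsLocalizedModule.exists_of_eq (S := Submonoid.powers f) h1
  rw [Submonoid.smul_def, Submonoid.smul_def, smul_zero, ← map_smul] at hk
  obtain ⟨l, hl⟩ := hker _ hk
  refine (IsLocalizedModule.smul_inj (TensorProduct.mk R (Localization.Away f) N 1)
    (⟨f ^ (l + k), l + k, rfl⟩ * v) _ _).mp ?_
  rw [smul_zero, mul_smul, hzv, Submonoid.smul_def, ← map_smul]
  show TensorProduct.mk R (Localization.Away f) N 1 (f ^ (l + k) • z) = 0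
  rw [pow_add, mul_smul, hl, map_zero]

/-- The algebra map induced by `q` has the same underlying function as `q.lTensor`. -/
theorem map_bijective_of_lTensor (A : Type u) [CommRing A] [Algebra R A] {N L : Type u} [CommRing N]
    [Algebra R N] [CommRing L] [Algebra R L] (q : N →ₐ[R] L)
    (h : Function.Bijective (q.toLinearMap.lTensor A)) :
    Function.Bijective (Algebra.TensorProduct.map (AlgHom.id A A) q) := by
  have e : (Algebra.TensorProduct.map (AlgHom.id A A) q : A ⊗[R] N → A ⊗[R] L) =
      q.toLinearMap.lTensor A := funext fun y => by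
    induction y using TensorProduct.induction_on with
    | zero => simp
    | tmul a x => rfl
    | add x y hx hy => rw [map_add, map_add, hx, hy]
  rw [e]
  exact h

/-- A finite type algebra is generically finitely presented. -/
theorem exists_algebra_finitePresentation [IsReduced R] {a : R} (ha : a ≠ 0) :
    ∃ f : R, a ∣ f ∧ f ≠ 0 ∧ ∀ g : R, f ∣ g →
      Algebra.FinitePresentation (Localization.Away g) (Localization.Away g ⊗[R] S) := by
  obtain ⟨n, π, hπ⟩ := Algebra.FiniteType.iff_quotient_mvPolynomial''.mp ‹Algebra.FiniteType R S›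
  obtain ⟨f, haf, hf, G, hGf, hGK, hG⟩ :=
    genFG (MvPolynomial (Fin n) R) (MvPolynomial (Fin n) R) (RingHom.ker π) a ha
  refine ⟨f, haf, hf, fun g ⟨c, hc⟩ => ?_⟩
  subst hc
  have : Algebra.FinitePresentation R (MvPolynomial (Fin n) R ⧸ Ideal.span G) :=
    .quotient (Submodule.fg_span hGf)
  let q : (MvPolynomial (Fin n) R ⧸ Ideal.span G) →ₐ[R] S :=
    Ideal.Quotient.liftₐ _ π fun x hx => (Ideal.span_le.mpr hGK) hx
  have hq : Function.Surjective q := fun s => by
    obtain ⟨e, rfl⟩ := hπ s; exact ⟨Ideal.Quotient.mk _ e, rfl⟩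
  have hQ : Function.Bijective (q.toLinearMap.lTensor (Localization.Away (f * c))) := by
    refine lTensor_away_bijective (f * c) q.toLinearMap hq fun x hx => ?_
    obtain ⟨e, rfl⟩ := Ideal.Quotient.mk_surjective x
    obtain ⟨l, hl⟩ := hG e (RingHom.mem_ker.mpr hx)
    refine ⟨l, ?_⟩
    rw [← Ideal.Quotient.mkₐ_eq_mk R, ← map_smul, Ideal.Quotient.mkₐ_eq_mk,
      Ideal.Quotient.eq_zero_iff_mem, mul_pow, mul_comm, mul_smul]
    exact Submodule.smul_of_tower_mem _ _ hl
  exact Algebra.FinitePresentation.equiv
    (AlgEquiv.ofBijective _ (map_bijective_of_lTensor (Localization.Away (f * c)) q hQ))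

end Groth.Agent.FlatMisc.GenericFree
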