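import Groth.Agent.FlatMisc.FibreDimOpen
import Groth.Agent.DimLift.Basic
import Groth.Prelude.Def_Flat
import Mathlib.AlgebraicGeometry.Morphisms.FiniteType
import Mathlib.RingTheory.Spectrum.Prime.Topology
import Mathlib.AlgebraicGeometry.Properties
import Mathlib.AlgebraicGeometry.Morphisms.Proper

/-! Upper semicontinuity of the fibre dimension on the source. -/

set_option autoImplicit false

universe u

open AlgebraicGeometry CategoryTheory TopologicalSpace Topology

attribute [local instance] specializationOrder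

namespace Groth.Agent.FlatMisc.FibreDimScheme

/-- Chains of points bound the dimension from below. -/
theorem length_le_topDim {Z : Type u} [TopologicalSpace Z] [T0Space Z] {k : ℕ} (pt : Fin (k + 1) → Z)
    (hpt : ∀ i j, i < j → pt j ⤳ pt i ∧ pt i ≠ pt j) : (k : WithBot ℕ∞) ≤ topologicalKrullDim Z := by
  let l : LTSeries (IrreducibleCloseds Z) := LTSeries.mk k
    (fun i => ⟨closure {pt i}, isIrreducible_singleton.closure, isClosed_closure⟩) fun i j hij => by
      obtain ⟨h1, h2⟩ := hpt i j hij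
      refine lt_of_le_of_ne ?_ fun he => h2 ?_
      · show closure {pt i} ⊆ closure {pt j}
        exact specializes_iff_closure_subset.mp h1
      · have h3 : closure {pt i} = closure ({pt j} : Set Z) :=
          congrArg (fun s : IrreducibleCloseds Z => (s : Set Z)) he
        exact ((specializes_iff_closure_subset.mpr h3.ge).antisymm h1).eq
  exact le_iSup (fun l : LTSeries (IrreducibleCloseds Z) => (l.length : WithBot ℕ∞)) l

/-- In a sober space the chains of points compute the dimension. -/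
theorem topDim_le_of_chains {Z : Type u} [TopologicalSpace Z] [T0Space Z] [QuasiSober Z] (n : ℕ)
    (h : ∀ (k : ℕ) (pt : Fin (k + 1) → Z), (∀ i j, i < j → pt j ⤳ pt i ∧ pt i ≠ pt j) → k ≤ n) :
    topologicalKrullDim Z ≤ n := by
  rw [DimLift.topDim_eq_krullDim_points]
  refine iSup_le fun l => ?_
  exact_mod_cast h l.length (fun i => l i) fun i j hij => ⟨(l.strictMono hij).le, (l.strictMono hij).ne⟩

/-- The dimension of an open piece of a fibre of `Spec B → Spec A` is at most the length of its chains. -/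
theorem topDim_piece_le {A B : Type u} [CommRing A] [CommRing B] [Algebra A B] (r : B)
    (p : PrimeSpectrum A) (n : ℕ)
    (h : ∀ l : LTSeries (PrimeSpectrum B),
      (∀ i, PrimeSpectrum.comap (algebraMap A B) (l i) = p) → (∀ i, r ∉ (l i).asIdeal) → l.length ≤ n) :
    topologicalKrullDim {Q : PrimeSpectrum B | PrimeSpectrum.comap (algebraMap A B) Q = p ∧ r ∉ Q.asIdeal} ≤ n := by
  set S := {Q : PrimeSpectrum B | PrimeSpectrum.comap (algebraMap A B) Q = p ∧ r ∉ Q.asIdeal}
  let Fb := PrimeSpectrum.comap (algebraMap A B) ⁻¹' {p}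
  have : QuasiSober Fb := (PrimeSpectrum.preimageHomeomorphFiber A B p).isClosedEmbedding.quasiSober
  let j : S → Fb := fun Q => ⟨Q.1, Q.2.1⟩
  have hj : IsOpenEmbedding j := by
    refine ⟨⟨IsInducing.of_comp (by fun_prop) continuous_subtype_val IsInducing.subtypeVal,
      fun Q Q' hh => Subtype.ext (congrArg (fun z : Fb => z.1) hh)⟩, ?_⟩
    have : Set.range j = Subtype.val ⁻¹' (PrimeSpectrum.basicOpen r : Set (PrimeSpectrum B)) := by
      ext Q
      exact ⟨fun ⟨Q', hQ'⟩ => hQ' ▸ Q'.2.2, fun hQ => ⟨⟨Q.1, Q.2, hQ⟩, rfl⟩⟩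
    rw [this]
    exact (PrimeSpectrum.basicOpen r).2.preimage continuous_subtype_val
  have : QuasiSober S := hj.quasiSober
  refine topDim_le_of_chains n fun k pt hpt => ?_
  let l₂ : LTSeries (PrimeSpectrum B) := LTSeries.mk k (fun i => (pt i.rev).1) fun i j hij => by
    obtain ⟨h1, h2⟩ := hpt _ _ (Fin.rev_lt_rev.mpr hij)
    exact lt_of_le_of_ne ((PrimeSpectrum.le_iff_specializes _ _).mpr ((subtype_specializes_iff _ _).mp h1))
      fun he => h2 (Subtype.ext he.symm)
  exact_mod_cast h l₂ (fun i => (pt i.rev).2.1) fun i => (pt i.rev).2.2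

variable {X S : Scheme.{u}} (f : X ⟶ S)

theorem localDim_homeo {Z W : Type u} [TopologicalSpace Z] [TopologicalSpace W] (e : Z ≃ₜ W) (z : Z) :
    FlatMor.localDim W (e z) ≤ FlatMor.localDim Z z :=
  le_iInf fun U => iInf_le_of_le ⟨⟨e.symm ⁻¹' U.1, U.1.2.preimage e.symm.continuous⟩, by simpa using U.2⟩ (by
    refine IsInducing.topologicalKrullDim_le (f := fun w : (e.symm ⁻¹' U.1 : Set W) => (⟨e.symm w, w.2⟩ : U.1)) ?_
    exact (IsInducing.of_comp (by fun_prop) continuous_subtype_val (e.symm.isInducing.comp IsInducing.subtypeVal)))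

theorem fibreDimAt_eq (x : X) :
    FlatMor.fibreDimAt f x = FlatMor.localDim ↥(f ⁻¹' {f x}) ⟨x, rfl⟩ := by
  let e := f.fiberHomeo (f x)
  have he : e (f.asFiber x) = ⟨x, rfl⟩ := Subtype.ext (by
    show f.fiberι (f x) (f.asFiber x) = x
    exact f.fiberι_asFiber x)
  refine le_antisymm ?_ ?_
  · have h := localDim_homeo e.symm (e (f.asFiber x))
    rw [e.symm_apply_apply, he] at h
    exact h
  · have h := localDim_homeo e (f.asFiber x)
    rw [he] at h
    exact h

theorem isOpen_fibreDimAt_le [LocallyOfFiniteType f] (n : ℕ) :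
    IsOpen {x : X | FlatMor.fibreDimAt f x ≤ n} := by
  rw [isOpen_iff_forall_mem_open]
  intro x hx
  rw [Set.mem_ofPred_eq, fibreDimAt_eq] at hx
  have : Nonempty {U : Opens ↥(f ⁻¹' {f x}) // (⟨x, rfl⟩ : f ⁻¹' {f x}) ∈ U} := ⟨⟨⊤, trivial⟩⟩
  obtain ⟨⟨O, hxO⟩, hO⟩ := ciInf_mem fun U : {U : Opens ↥(f ⁻¹' {f x}) // (⟨x, rfl⟩ : f ⁻¹' {f x}) ∈ U} =>
    topologicalKrullDim (U.1 : Set ↥(f ⁻¹' {f x}))
  replace hO : topologicalKrullDim (O : Set ↥(f ⁻¹' {f x})) ≤ n := le_trans (le_of_eq hO) hx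
  obtain ⟨O', hO'o, hO'⟩ := isOpen_induced_iff.mp O.2
  obtain ⟨_, ⟨V, hV, rfl⟩, hxV, -⟩ :=
    S.isBasis_affineOpens.exists_subset_of_mem_open (Set.mem_univ (f x)) isOpen_univ
  obtain ⟨_, ⟨U, hU, rfl⟩, hxU, hUV⟩ := X.isBasis_affineOpens.exists_subset_of_mem_open hxV (f ⁻¹ᵁ V).2
  replace hV : IsAffineOpen V := hV
  replace hU : IsAffineOpen U := hU
  algebraize [(f.appLE V U hUV).hom]
  have : Algebra.FiniteType Γ(S, V) Γ(X, U) := f.finiteType_appLE hV hU hUV
  have hcomm : ∀ Q : PrimeSpectrum Γ(X, U), f (hU.fromSpec Q) =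
      hV.fromSpec (PrimeSpectrum.comap (algebraMap Γ(S, V) Γ(X, U)) Q) := fun Q =>
    (congr($(IsAffineOpen.SpecMap_appLE_fromSpec f hV hU hUV) Q)).symm
  obtain ⟨P, rfl⟩ : x ∈ Set.range hU.fromSpec := by rw [hU.range_fromSpec]; exact hxU
  have hmemO : (hU.fromSpec P) ∈ O' := by
    have h1 : (⟨hU.fromSpec P, rfl⟩ : f ⁻¹' {f (hU.fromSpec P)}) ∈ Subtype.val ⁻¹' O' := hO' ▸ hxO
    exact h1
  obtain ⟨_, ⟨_, ⟨g, rfl⟩, rfl⟩, hPg, hgO⟩ := PrimeSpectrum.isBasis_basic_opens.exists_subset_of_mem_open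
    (show P ∈ hU.fromSpec ⁻¹' O' from hmemO) (hO'o.preimage hU.fromSpec.continuous)
  obtain ⟨r, hr, hbound⟩ := FibreDimOpen.exists_bound (A := Γ(S, V)) P n g hPg fun l hl hlg => by
    let pt : Fin (l.length + 1) → (O : Set ↥(f ⁻¹' {f (hU.fromSpec P)})) := fun i =>
      ⟨⟨hU.fromSpec (l i), show f _ = f _ by rw [hcomm, hcomm, hl i]⟩, by
        have h1 : hU.fromSpec (l i) ∈ O' := hgO (hlg i)
        have h2 : (⟨hU.fromSpec (l i), show f _ = f _ by rw [hcomm, hcomm, hl i]⟩ :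
            f ⁻¹' {f (hU.fromSpec P)}) ∈ Subtype.val ⁻¹' O' := h1
        exact (Set.ext_iff.mp hO' _).mp h2⟩
    haveI : T0Space ↥(f ⁻¹' {f (hU.fromSpec P)}) := Subtype.t0Space
    haveI : T0Space (O : Set ↥(f ⁻¹' {f (hU.fromSpec P)})) := Subtype.t0Space
    exact_mod_cast (length_le_topDim (fun i => pt i.rev) fun i j hij => by
      have h1 := l.strictMono (Fin.rev_lt_rev.mpr hij)
      refine ⟨?_, fun he => h1.ne ?_⟩
      · exact (subtype_specializes_iff _ _).mpr ((subtype_specializes_iff _ _).mpr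
          (((PrimeSpectrum.le_iff_specializes _ _).mp h1.le).map hU.fromSpec.continuous))
      · exact hU.fromSpec.isOpenEmbedding.injective
          (congrArg (fun w : (O : Set ↥(f ⁻¹' {f (hU.fromSpec P)})) => w.1.1) he).symm).trans hO
  refine ⟨hU.fromSpec '' (PrimeSpectrum.basicOpen r : Set (PrimeSpectrum Γ(X, U))), ?_,
    hU.fromSpec.isOpenEmbedding.isOpenMap _ (PrimeSpectrum.basicOpen r).2, ⟨P, hr, rfl⟩⟩
  rintro _ ⟨Q, hQ, rfl⟩
  rw [Set.mem_ofPred_eq, fibreDimAt_eq]
  refine iInf_le_of_le ⟨⟨Subtype.val ⁻¹' (hU.fromSpec '' (PrimeSpectrum.basicOpen r : Set (PrimeSpectrum Γ(X, U)))),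
    (hU.fromSpec.isOpenEmbedding.isOpenMap _ (PrimeSpectrum.basicOpen r).2).preimage continuous_subtype_val⟩,
    ⟨Q, hQ, rfl⟩⟩ ?_
  refine le_trans ?_ (topDim_piece_le (A := Γ(S, V)) r (PrimeSpectrum.comap (algebraMap Γ(S, V) Γ(X, U)) Q) n
    fun l hl hlr => hbound l (fun i => (hl i).trans (hl 0).symm) hlr)
  let back : (Subtype.val ⁻¹' (hU.fromSpec '' (PrimeSpectrum.basicOpen r : Set (PrimeSpectrum Γ(X, U)))) :
      Set ↥(f ⁻¹' {f (hU.fromSpec Q)})) →
      {Q' : PrimeSpectrum Γ(X, U) | PrimeSpectrum.comap (algebraMap Γ(S, V) Γ(X, U)) Q' =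
        PrimeSpectrum.comap (algebraMap Γ(S, V) Γ(X, U)) Q ∧ r ∉ Q'.asIdeal} := fun w =>
    ⟨w.2.choose, hV.fromSpec.isOpenEmbedding.injective
      ((hcomm _).symm.trans ((congrArg f w.2.choose_spec.2).trans (w.1.2.trans (hcomm Q)))), w.2.choose_spec.1⟩
  have hback : ∀ w, hU.fromSpec (back w).1 = w.1.1 := fun w => w.2.choose_spec.2
  refine IsInducing.topologicalKrullDim_le (f := back) ?_
  have hind : IsInducing (fun Q' : {Q' : PrimeSpectrum Γ(X, U) | PrimeSpectrum.comap (algebraMap Γ(S, V) Γ(X, U)) Q' =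
      PrimeSpectrum.comap (algebraMap Γ(S, V) Γ(X, U)) Q ∧ r ∉ Q'.asIdeal} => hU.fromSpec Q'.1) :=
    hU.fromSpec.isOpenEmbedding.isInducing.comp IsInducing.subtypeVal
  refine (hind.of_comp_iff (f := back)).mp ?_
  have : (fun Q' => hU.fromSpec Q'.1) ∘ back = Subtype.val ∘ Subtype.val := funext hback
  rw [this]
  exact IsInducing.subtypeVal.comp IsInducing.subtypeVal

end Groth.Agent.FlatMisc.FibreDimScheme

namespace Groth.Agent.FlatMisc.FibreDimScheme

variable {X S : Scheme.{u}} (f : X ⟶ S)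

theorem topDim_fiber_le_iff (s : S) (n : ℕ) :
    topologicalKrullDim (f.fiber s) ≤ n ↔ ∀ x : X, f x = s → FlatMor.fibreDimAt f x ≤ n := by
  constructor
  · rintro h x rfl
    unfold FlatMor.fibreDimAt FlatMor.localDim
    refine iInf_le_of_le ⟨⊤, trivial⟩ (le_trans ?_ h)
    exact (IsInducing.subtypeVal (t := ((⊤ : Opens ↥(f.fiber (f x))) : Set ↥(f.fiber (f x))))).topologicalKrullDim_le
  · intro h
    refine topDim_le_of_chains n fun k pt hpt => ?_
    set x := f.fiberι s (pt 0)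
    have hx : f x = s := by
      have : x ∈ f ⁻¹' {s} := f.range_fiberι s ▸ Set.mem_range_self (pt 0)
      exact this
    have hx' := h x hx
    rw [fibreDimAt_eq] at hx'
    have : Nonempty {U : Opens ↥(f ⁻¹' {f x}) // (⟨x, rfl⟩ : f ⁻¹' {f x}) ∈ U} := ⟨⟨⊤, trivial⟩⟩
    obtain ⟨⟨O, hxO⟩, hO⟩ := ciInf_mem fun U : {U : Opens ↥(f ⁻¹' {f x}) // (⟨x, rfl⟩ : f ⁻¹' {f x}) ∈ U} =>
      topologicalKrullDim (U.1 : Set ↥(f ⁻¹' {f x}))
    replace hO : topologicalKrullDim (O : Set ↥(f ⁻¹' {f x})) ≤ n := le_trans (le_of_eq hO) hx'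
    let q : Fin (k + 1) → ↥(f ⁻¹' {f x}) := fun i => ⟨f.fiberι s (pt i), by
      have : f.fiberι s (pt i) ∈ f ⁻¹' {s} := f.range_fiberι s ▸ Set.mem_range_self (pt i)
      exact (show f (f.fiberι s (pt i)) = s from this).trans hx.symm⟩
    have hq : ∀ i, q i ∈ O := fun i => by
      rcases eq_or_lt_of_le (Fin.zero_le i) with h0 | h0
      · rw [← h0]; exact hxO
      · exact ((subtype_specializes_iff (q i) (⟨x, rfl⟩ : f ⁻¹' {f x})).mpr
          ((hpt 0 i h0).1.map (f.fiberι s).continuous)).mem_open O.2 hxO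
    haveI : T0Space ↥(f ⁻¹' {f x}) := Subtype.t0Space
    haveI : T0Space (O : Set ↥(f ⁻¹' {f x})) := Subtype.t0Space
    exact_mod_cast (length_le_topDim (fun i => (⟨q i, hq i⟩ : (O : Set ↥(f ⁻¹' {f x})))) fun i j hij =>
      ⟨(subtype_specializes_iff _ _).mpr ((subtype_specializes_iff _ _).mpr
          ((hpt i j hij).1.map (f.fiberι s).continuous)),
        fun he => (hpt i j hij).2 ((f.fiberι s).isEmbedding.injective
          (congrArg (fun w : (O : Set ↥(f ⁻¹' {f x})) => w.1.1) he))⟩).trans hO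

theorem isOpen_topDim_fiber_le [IsProper f] (c : WithBot ℕ∞) :
    IsOpen {s : S | topologicalKrullDim (f.fiber s) ≤ c} := by
  induction c with
  | bot =>
    have : {s : S | topologicalKrullDim (f.fiber s) ≤ ⊥} = (Set.range f)ᶜ := by
      ext s
      rw [Set.mem_ofPred_eq, le_bot_iff, Set.mem_compl_iff]
      constructor
      · rintro h ⟨x, rfl⟩
        have h1 : (0 : WithBot ℕ∞) ≤ topologicalKrullDim (f.fiber (f x)) :=
          length_le_topDim (k := 0) (fun _ => f.asFiber x) fun i j hij => absurd hij (by omega)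
        rw [h] at h1
        exact absurd h1 (by simp)
      · intro h
        have : IsEmpty (f.fiber s) := ⟨fun w => h ⟨f.fiberι s w, (by
          have : f.fiberι s w ∈ f ⁻¹' {s} := f.range_fiberι s ▸ Set.mem_range_self w
          exact this)⟩⟩
        have : IsEmpty (IrreducibleCloseds (f.fiber s)) := ⟨fun Z => IsEmpty.false Z.2.nonempty.some⟩
        exact Order.krullDim_eq_bot
    rw [this]
    exact f.isClosedMap.isClosed_range.isOpen_compl
  | coe c =>
    induction c using ENat.recTopCoe with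
    | top => simp
    | coe n =>
      have : {s : S | topologicalKrullDim (f.fiber s) ≤ ((n : ℕ∞) : WithBot ℕ∞)} =
          (f '' {x : X | FlatMor.fibreDimAt f x ≤ n}ᶜ)ᶜ := by
        ext s
        rw [Set.mem_ofPred_eq, show (((n : ℕ∞)) : WithBot ℕ∞) = (n : WithBot ℕ∞) from rfl, topDim_fiber_le_iff]
        simp only [Set.mem_compl_iff, Set.mem_image, Set.mem_ofPred_eq, not_exists, not_and]
        exact ⟨fun h x hx hfx => hx (h x hfx), fun h x hfx => by_contra fun hx => h x hx hfx⟩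
      rw [this]
      exact (f.isClosedMap _ (isOpen_fibreDimAt_le f n).isClosed_compl).isOpen_compl

end Groth.Agent.FlatMisc.FibreDimScheme
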