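import Groth.Prelude.Def_FlatCA
import Mathlib.RingTheory.LocalRing.ResidueField.Fiber

set_option autoImplicit false

universe u

attribute [local instance] Algebra.TensorProduct.rightAlgebra

namespace Groth.Agent.FlatMisc.Fiber

/-- A prime over `p` is the contraction of its extension to the fibre ring over `p`. -/
theorem comap_fiberIdeal {R S : Type u} [CommRing R] [CommRing S] [Algebra R S] (p : Ideal R)
    [p.IsPrime] (q : Ideal S) [hq : q.IsPrime] [q.LiesOver p] :
    (FlatCA.fiberIdeal p q).comap
      (Algebra.TensorProduct.includeRight (R := R) (A := p.ResidueField) (B := S)).toRingHom = q := by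
  let Q := PrimeSpectrum.primesOverOrderIsoFiber R S p ⟨q, hq, ‹_›⟩
  have hQ : Q.asIdeal.comap
      (Algebra.TensorProduct.includeRight (R := R) (A := p.ResidueField) (B := S)).toRingHom = q := by
    have := congrArg (fun x : p.primesOver S => (x : Ideal S))
      ((PrimeSpectrum.primesOverOrderIsoFiber R S p).symm_apply_apply ⟨q, hq, ‹_›⟩)
    exact this
  refine le_antisymm ?_ Ideal.le_comap_map
  conv_rhs => rw [← hQ]
  exact Ideal.comap_mono (Ideal.map_le_iff_le_comap.mpr hQ.ge)

/-- Elements killing `N` lie in every prime of the relative assassin. -/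
theorem annihilator_le {R S : Type u} [CommRing R] [CommRing S] [Algebra R S] (p : Ideal R)
    [p.IsPrime] (q : Ideal S) [q.IsPrime] [q.LiesOver p] (N : Type u) [AddCommGroup N] [Module S N]
    [Module R N] [IsScalarTower R S N]
    (h : FlatCA.fiberIdeal p q ∈ associatedPrimes (p.Fiber S) (FlatCA.fiberMod p S N)) :
    Module.annihilator S N ≤ q := by
  intro s hs
  rw [← comap_fiberIdeal p q, Ideal.mem_comap]
  apply IsAssociatedPrime.annihilator_le h
  rw [Submodule.mem_annihilator]
  intro x _
  have key : ∀ z : TensorProduct S (p.Fiber S) N,
      (Algebra.TensorProduct.includeRight (R := R) (A := p.ResidueField) (B := S) s) • z = 0 := by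
    intro z
    induction z using TensorProduct.induction_on with
    | zero => exact smul_zero _
    | add a b ha hb => rw [smul_add, ha, hb, add_zero]
    | tmul z n =>
      rw [TensorProduct.smul_tmul', smul_eq_mul]
      have : (Algebra.TensorProduct.includeRight (R := R) (A := p.ResidueField) (B := S) s) * z = s • z := by
        rw [Algebra.smul_def]
        rfl
      rw [this, TensorProduct.smul_tmul, Module.mem_annihilator.mp hs n, TensorProduct.tmul_zero]
  exact key x

end Groth.Agent.FlatMisc.Fiber
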