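import Groth.Agent.FlatMisc.SchemePushout
import Mathlib.AlgebraicGeometry.ResidueField

/-!
Compatible affine opens for pushouts along a closed immersion.
-/

set_option autoImplicit false

universe u

open CategoryTheory AlgebraicGeometry Limits TopologicalSpace Opposite

namespace Groth.Agent.FlatMisc.PushoutCovers

variable {X Y Z : Scheme.{u}} (i : Z ⟶ X) (j : Z ⟶ Y)

theorem match_basic [IsClosedImmersion i] {U : X.Opens} (hU : IsAffineOpen U) {V : Y.Opens}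
    (h : Γ(Y, V)) (e : i ⁻¹ᵁ U ≤ j ⁻¹ᵁ V) (hle : j ⁻¹ᵁ Y.basicOpen h ≤ i ⁻¹ᵁ U) :
    ∃ U' : X.Opens, IsAffineOpen U' ∧ i ⁻¹ᵁ U' = j ⁻¹ᵁ Y.basicOpen h := by
  obtain ⟨g, hg⟩ := i.app_surjective U hU (j.appLE V (i ⁻¹ᵁ U) e h)
  refine ⟨X.basicOpen g, hU.basicOpen g, ?_⟩
  rw [Scheme.preimage_basicOpen, hg, Scheme.Hom.appLE, CommRingCat.comp_apply, Scheme.basicOpen_res,
    ← Scheme.preimage_basicOpen]
  exact inf_eq_right.mpr hle

/-- A non-vanishing coefficient gives a factorization valid at every point over `y`. -/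
theorem exists_cofactor {A : Type u} [CommRing A] (P : A → Prop) (k : ℕ) :
    ∀ p : Polynomial A, P (p.coeff k) → ∃ (m : ℕ) (Q : Polynomial A), P (Q.coeff 0) ∧
      ∀ {K : Type u} [CommRing K] (ψ : A →+* K), (∀ a, ¬ P a → ψ a = 0) →
        ∀ ξ : K, p.eval₂ ψ ξ = ξ ^ m * Q.eval₂ ψ ξ := by
  induction k with
  | zero => exact fun p hp => ⟨0, p, hp, fun ψ _ ξ => by rw [pow_zero, one_mul]⟩
  | succ k ih =>
    intro p hp
    by_cases h0 : P (p.coeff 0)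
    · exact ⟨0, p, h0, fun ψ _ ξ => by rw [pow_zero, one_mul]⟩
    · obtain ⟨m, Q, hQ, hQ'⟩ := ih p.divX (by rwa [Polynomial.coeff_divX])
      refine ⟨m + 1, Q, hQ, fun ψ hψ ξ => ?_⟩
      conv_lhs => rw [← Polynomial.divX_mul_X_add p]
      rw [Polynomial.eval₂_add, Polynomial.eval₂_mul, Polynomial.eval₂_C, Polynomial.eval₂_X,
        hψ _ h0, add_zero, hQ' ψ hψ, pow_succ]
      ring

/-- Two functions vanishing outside `j ⁻¹ᵁ V` combine to one without common zero on the fibre. -/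
theorem exists_combine [IsIntegralHom j] {V : Y.Opens} (hV : IsAffineOpen V) {y : Y} (hy : y ∈ V)
    {O : Z.Opens} (hO : IsAffineOpen O) (hle : j ⁻¹ᵁ V ≤ O) (f₁ f₂ : Γ(Z, O))
    (h₁ : Z.basicOpen f₁ ≤ j ⁻¹ᵁ V) (h₂ : Z.basicOpen f₂ ≤ j ⁻¹ᵁ V) :
    ∃ d : Γ(Z, O), Z.basicOpen d ≤ j ⁻¹ᵁ V ∧
      ∀ q, j q = y → (q ∈ Z.basicOpen f₁ ∨ q ∈ Z.basicOpen f₂) → q ∈ Z.basicOpen d := by
  let x := Z.presheaf.map (homOfLE hle).op f₁
  obtain ⟨p, hp, hp0⟩ := j.isIntegral_app V hV x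
  obtain ⟨m, Q, hQ, hQ'⟩ := exists_cofactor (fun a => y ∈ Y.basicOpen a) p.natDegree p (by
    show y ∈ Y.basicOpen (p.coeff p.natDegree)
    rw [hp.coeff_natDegree, Y.basicOpen_one]
    exact hy)
  let s := Z.presheaf.map (homOfLE h₂).op (Q.eval₂ (j.app V).hom x)
  letI := (Z.presheaf.map (homOfLE (Z.basicOpen_le f₂)).op).hom.toAlgebra
  haveI : IsLocalization.Away f₂ Γ(Z, Z.basicOpen f₂) := hO.isLocalization_basicOpen f₂
  obtain ⟨N, c, hc⟩ := IsLocalization.Away.surj f₂ s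
  refine ⟨f₁ + c * f₂, ?_, fun q hq h => ?_⟩
  · refine (Z.basicOpen_add_le _ _).trans (sup_le h₁ ?_)
    rw [Z.basicOpen_mul]
    exact inf_le_right.trans h₂
  have hqV : q ∈ j ⁻¹ᵁ V := by
    show j q ∈ V
    rw [hq]
    exact hy
  have hqO : q ∈ O := hle hqV
  let ev := Z.evaluation O q hqO
  let ev' := Z.evaluation (j ⁻¹ᵁ V) q hqV
  have hres : ∀ (W : Z.Opens) (hW : W ≤ O) (hqW : q ∈ W) (a : Γ(Z, O)),
      Z.evaluation W q hqW (Z.presheaf.map (homOfLE hW).op a) = ev a := fun W hW hqW a =>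
    congrArg (Z.residue q) (Z.presheaf.germ_res_apply (homOfLE hW) q hqW a)
  have hψ : ∀ a, y ∈ Y.basicOpen a ↔ ev' (j.app V a) ≠ 0 := fun a => by
    rw [Scheme.evaluation_ne_zero_iff_mem_basicOpen, ← Scheme.preimage_basicOpen]
    show _ ↔ j q ∈ Y.basicOpen a
    rw [hq]
  have hmul : ev f₁ ^ m * Q.eval₂ (ev'.hom.comp (j.app V).hom) (ev f₁) = 0 := by
    rw [← hQ' (ev'.hom.comp (j.app V).hom) (fun a ha => not_not.mp (mt (hψ a).mpr ha)) (ev f₁),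
      show ev f₁ = ev'.hom x from (hres _ hle hqV f₁).symm, ← Polynomial.hom_eval₂, hp0, map_zero]
  have hQev : ev' (Q.eval₂ (j.app V).hom x) = Q.eval₂ (ev'.hom.comp (j.app V).hom) (ev f₁) := by
    rw [show ev f₁ = ev'.hom x from (hres _ hle hqV f₁).symm]
    exact Polynomial.hom_eval₂ _ _ _ _
  have hone : ev f₁ = 0 → Q.eval₂ (ev'.hom.comp (j.app V).hom) (ev f₁) ≠ 0 := fun h0 => by
    rw [h0, Polynomial.eval₂_at_zero]
    exact (hψ _).mp hQ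
  have hzero : ev f₁ ≠ 0 → Q.eval₂ (ev'.hom.comp (j.app V).hom) (ev f₁) = 0 := fun h0 =>
    (mul_eq_zero.mp hmul).resolve_left (pow_ne_zero _ h0)
  have hcv : ev f₂ ≠ 0 → ev c = ev' (Q.eval₂ (j.app V).hom x) * ev f₂ ^ N := fun h0 => by
    have hq2 : q ∈ Z.basicOpen f₂ := (Z.evaluation_ne_zero_iff_mem_basicOpen q hqO f₂).mp h0
    rw [← hres _ (Z.basicOpen_le f₂) hq2 c, ← hres _ (Z.basicOpen_le f₂) hq2 f₂]
    refine (congrArg (Z.evaluation _ q hq2) hc).symm.trans ?_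
    rw [map_mul, map_pow]
    congr 1
    exact congrArg (Z.residue q) (Z.presheaf.germ_res_apply (homOfLE h₂) q hq2 _)
  rw [← Z.evaluation_ne_zero_iff_mem_basicOpen q hqO] at h ⊢
  show ev (f₁ + c * f₂) ≠ 0
  rw [map_add, map_mul]
  by_cases h0 : ev f₁ = 0
  · have h2 : ev f₂ ≠ 0 := h.elim (absurd h0) fun h =>
      (Z.evaluation_ne_zero_iff_mem_basicOpen q hqO f₂).mpr h
    rw [h0, zero_add, hcv h2, hQev]
    exact mul_ne_zero (mul_ne_zero (hone h0) (pow_ne_zero _ h2)) h2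
  · by_cases h2 : ev f₂ = 0
    · rwa [h2, mul_zero, add_zero]
    · rwa [hcv h2, hQev, hzero h0, zero_mul, zero_mul, add_zero]

theorem exists_cover_integral [IsClosedImmersion i] [IsIntegralHom j] (y : Y) {U : X.Opens}
    (hU : IsAffineOpen U) (hsub : j ⁻¹' {y} ⊆ i ⁻¹' (U : Set X)) :
    ∃ (U' : X.Opens) (V : Y.Opens), IsAffineOpen U' ∧ IsAffineOpen V ∧ y ∈ V ∧ i ⁻¹ᵁ U' = j ⁻¹ᵁ V := by
  have hO := hU.preimage i
  have hclosed : ∀ W : Z.Opens, j ⁻¹' {y} ⊆ (W : Set Z) → ∃ W' : Y.Opens, y ∈ W' ∧ j ⁻¹ᵁ W' ≤ W :=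
    fun W hW => ⟨⟨(j '' (W : Set Z)ᶜ)ᶜ, (j.isClosedMap _ W.isOpen.isClosed_compl).isOpen_compl⟩,
      fun ⟨q, hq, hqy⟩ => hq (hW hqy), fun q hq => not_not.mp fun h => hq ⟨q, h, rfl⟩⟩
  obtain ⟨W₀, hyW₀, hW₀⟩ := hclosed (i ⁻¹ᵁ U) hsub
  obtain ⟨V, hV, hyV, hVW⟩ := exists_isAffineOpen_mem_and_subset hyW₀
  have hle : j ⁻¹ᵁ V ≤ i ⁻¹ᵁ U := le_trans (j.preimage_mono hVW) hW₀
  obtain ⟨g, hgV, hg⟩ : ∃ g : Γ(Z, i ⁻¹ᵁ U), Z.basicOpen g ≤ j ⁻¹ᵁ V ∧ j ⁻¹' {y} ⊆ Z.basicOpen g := by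
    refine IsCompact.induction_on (j.isCompact_preimage_singleton y)
      (p := fun S => ∃ g : Γ(Z, i ⁻¹ᵁ U), Z.basicOpen g ≤ j ⁻¹ᵁ V ∧ S ∩ j ⁻¹' {y} ⊆ Z.basicOpen g)
      ⟨0, by rw [Scheme.basicOpen_zero]; exact bot_le, by rw [Set.empty_inter]; exact Set.empty_subset _⟩
      (fun S T hST ⟨g, h1, h2⟩ => ⟨g, h1, (Set.inter_subset_inter_left _ hST).trans h2⟩) ?_ ?_ |>.imp
      fun g hg => ⟨hg.1, by rw [← Set.inter_self (j ⁻¹' {y})]; exact hg.2⟩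
    · rintro S T ⟨g₁, h1, h1'⟩ ⟨g₂, h2, h2'⟩
      obtain ⟨d, hd, hd'⟩ := exists_combine j hV hyV hO hle g₁ g₂ h1 h2
      exact ⟨d, hd, fun q hq => hd' q hq.2 (hq.1.imp (fun h => h1' ⟨h, hq.2⟩) fun h => h2' ⟨h, hq.2⟩)⟩
    · intro q hq
      have hqV : q ∈ j ⁻¹ᵁ V := by
        show j q ∈ V
        rw [show j q = y from hq]
        exact hyV
      obtain ⟨g, hg1, hg2⟩ := hO.exists_basicOpen_le ⟨q, hqV⟩ (hle hqV)
      exact ⟨_, mem_nhdsWithin_of_mem_nhds ((Z.basicOpen g).isOpen.mem_nhds hg2), g, hg1, Set.inter_subset_left⟩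
  obtain ⟨g', rfl⟩ := i.app_surjective U hU g
  rw [← Scheme.preimage_basicOpen] at hgV hg
  obtain ⟨W₁, hyW₁, hW₁⟩ := hclosed (i ⁻¹ᵁ X.basicOpen g') hg
  obtain ⟨h, hh, hyh⟩ := hV.exists_basicOpen_le ⟨y, hyW₁⟩ hyV
  obtain ⟨U', hU', e⟩ := match_basic i j (hU.basicOpen g') h hgV
    (le_trans (j.preimage_mono hh) hW₁)
  exact ⟨U', _, hU', hV.basicOpen h, hyh, e⟩

theorem exists_cover_closed [IsClosedImmersion i] [IsClosedImmersion j] (y : Y) :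
    ∃ (U' : X.Opens) (V : Y.Opens), IsAffineOpen U' ∧ IsAffineOpen V ∧ y ∈ V ∧ i ⁻¹ᵁ U' = j ⁻¹ᵁ V := by
  by_cases hy : y ∈ Set.range j
  · obtain ⟨z, rfl⟩ := hy
    obtain ⟨U, hU, hzU, -⟩ := exists_isAffineOpen_mem_and_subset (U := (⊤ : X.Opens)) (x := i z) trivial
    refine exists_cover_integral i j (j z) hU fun q hq => ?_
    rw [show q = z from j.isClosedEmbedding.injective hq]
    exact hzU
  · exact exists_cover_integral i j y (isAffineOpen_bot X) fun q hq => absurd ⟨q, hq⟩ hy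

end Groth.Agent.FlatMisc.PushoutCovers
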