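import Groth.Agent.FlatMisc.SchemePushoutAffine
import Groth.Agent.PinchLib.Pushout
import Mathlib.AlgebraicGeometry.Morphisms.ClosedImmersion
import Mathlib.AlgebraicGeometry.Morphisms.Integral
import Mathlib.Geometry.RingedSpace.LocallyRingedSpace.HasColimits
import Mathlib.CategoryTheory.Limits.Types.Pushouts

/-!
Pushouts of schemes along a closed immersion, when compatible affine opens cover.
-/

set_option autoImplicit false
set_option linter.unusedSectionVars false

universe u

open CategoryTheory AlgebraicGeometry Limits TopologicalSpace Opposite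

namespace Groth.Agent.FlatMisc.SchemePushout

/-- The presheafed space of a locally ringed space, as a functor. -/
noncomputable abbrev toPs : LocallyRingedSpace.{u} ⥤ PresheafedSpace.{_, _, u} CommRingCat.{u} :=
  LocallyRingedSpace.forgetToSheafedSpace ⋙ SheafedSpace.forgetToPresheafedSpace

section Restrict

variable {P : LocallyRingedSpace.{u}} (U : Opens P) {S : Scheme.{u}} (f : S.toLocallyRingedSpace ⟶ P)

/-- The restriction of a locally ringed space to an open. -/
noncomputable abbrev res : LocallyRingedSpace.{u} := P.restrict U.isOpenEmbedding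

/-- The preimage of an open as a scheme. -/
noncomputable abbrev preS : S.Opens := (Opens.map f.base).obj U

theorem range_subset :
    Set.range ((preS U f).ι.toLRSHom ≫ f).base ⊆ Set.range (P.ofRestrict U.isOpenEmbedding).base := by
  rintro _ ⟨x, rfl⟩
  have hx : (preS U f).ι x ∈ preS U f := by
    show (preS U f).ι x ∈ (preS U f)
    exact (Scheme.Opens.range_ι (preS U f)).subset ⟨x, rfl⟩
  exact ⟨⟨_, hx⟩, rfl⟩

/-- The restriction of a morphism. -/
noncomputable def resHom : (preS U f).toScheme.toLocallyRingedSpace ⟶ res U :=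
  LocallyRingedSpace.IsOpenImmersion.lift (P.ofRestrict U.isOpenEmbedding)
    ((preS U f).ι.toLRSHom ≫ f) (range_subset U f)

theorem resHom_fac : resHom U f ≫ P.ofRestrict U.isOpenEmbedding = (preS U f).ι.toLRSHom ≫ f :=
  LocallyRingedSpace.IsOpenImmersion.lift_fac _ _ _

/-- The image of an open of the restriction. -/
noncomputable abbrev img (V : Opens (res U)) : Opens P := U.isOpenEmbedding.functor.obj V

theorem preimage_img (V : Opens (res U)) :
    (Opens.map (P.ofRestrict U.isOpenEmbedding).base).obj (img U V) = V :=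
  Opens.ext (Set.preimage_image_eq _ U.isOpenEmbedding.injective)

theorem preimage_resHom (V : Opens (res U)) :
    (Opens.map (resHom U f).base).obj V = (preS U f).ι ⁻¹ᵁ ((Opens.map f.base).obj (img U V)) :=
  (congrArg (fun W => (Opens.map (resHom U f).base).obj W) (preimage_img U V)).symm.trans
    (congrArg (fun k : (preS U f).toScheme.toLocallyRingedSpace ⟶ P => (Opens.map k.base).obj (img U V))
      (resHom_fac U f))

theorem app_resHom (V : Opens (res U)) (r : P.presheaf.obj (op (img U V))) :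
    (resHom U f).c.app (op V) r = (preS U f).ι.appLE ((Opens.map f.base).obj (img U V))
      ((Opens.map (resHom U f).base).obj V) (preimage_resHom U f V).le (f.c.app (op (img U V)) r) := by
  have key : ∀ (k k' : (preS U f).toScheme.toLocallyRingedSpace ⟶ P) (_ : k = k') (O : (preS U f).toScheme.Opens)
      (e : O ≤ (Opens.map k.base).obj (img U V)) (e' : O ≤ (Opens.map k'.base).obj (img U V)),
      (preS U f).toScheme.presheaf.map (homOfLE e).op (k.c.app (op (img U V)) r) =
        (preS U f).toScheme.presheaf.map (homOfLE e').op (k'.c.app (op (img U V)) r) := by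
    rintro k k' rfl O e e'
    rfl
  have h := key _ _ (resHom_fac U f) ((Opens.map (resHom U f).base).obj V)
    (le_of_eq (congrArg (fun W => (Opens.map (resHom U f).base).obj W) (preimage_img U V)).symm)
    (preimage_resHom U f V).le
  refine Eq.trans ?_ h
  have hr : r = (res U).presheaf.map (eqToHom (preimage_img U V).symm).op
      ((P.ofRestrict U.isOpenEmbedding).c.app (op (img U V)) r) := by
    show r = P.presheaf.map _ (P.presheaf.map _ r)
    rw [← CommRingCat.comp_apply, ← P.presheaf.map_comp]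
    refine (congrArg (fun k => k r) (P.presheaf.map_id (op (img U V)))).symm.trans ?_
    exact congrArg (fun g => P.presheaf.map g r) (Subsingleton.elim _ _)
  refine (congrArg ((resHom U f).c.app (op V)) hr).trans ?_
  refine (ConcreteCategory.congr_hom ((resHom U f).c.naturality (eqToHom (preimage_img U V).symm).op) _).trans ?_
  exact congrArg (fun g => (preS U f).toScheme.presheaf.map g _) (Subsingleton.elim _ _)

theorem bijective_appLE (V : Opens (res U)) :
    Function.Bijective ((preS U f).ι.appLE ((Opens.map f.base).obj (img U V))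
      ((Opens.map (resHom U f).base).obj V) (preimage_resHom U f V).le) := by
  haveI : IsIso ((preS U f).ι.app ((Opens.map f.base).obj (img U V))) := by
    refine Scheme.Hom.isIso_app _ _ ?_
    rw [Scheme.Opens.opensRange_ι]
    intro x hx
    obtain ⟨p, _, hp⟩ := hx
    show f.base x ∈ U
    rw [← hp]
    exact p.2
  have : IsIso ((preS U f).ι.appLE ((Opens.map f.base).obj (img U V))
      ((Opens.map (resHom U f).base).obj V) (preimage_resHom U f V).le) := by
    unfold Scheme.Hom.appLE
    rw [show (homOfLE (preimage_resHom U f V).le) = eqToHom (preimage_resHom U f V) from Subsingleton.elim _ _]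
    infer_instance
  exact ConcreteCategory.bijective_of_isIso _

end Restrict

variable {X Y Z : Scheme.{u}} (i : Z ⟶ X) (j : Z ⟶ Y) {P : LocallyRingedSpace.{u}}
  {a : X.toLocallyRingedSpace ⟶ P} {b : Y.toLocallyRingedSpace ⟶ P}
  (hpo : IsPushout i.toLRSHom j.toLRSHom a b)

include hpo in
theorem preimage_eq (W : Opens P) :
    i ⁻¹ᵁ ((Opens.map a.base).obj W) = j ⁻¹ᵁ ((Opens.map b.base).obj W) :=
  congrArg (fun k : Z.toLocallyRingedSpace ⟶ P => (Opens.map k.base).obj W) hpo.w

include hpo in
theorem sections_injective (W : Opens P) (x y : P.presheaf.obj (op W))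
    (hX : a.c.app (op W) x = a.c.app (op W) y) (hY : b.c.app (op W) x = b.c.app (op W) y) : x = y :=
  PinchLib.pushout_sections_injective (hpo.map toPs) W x y hX hY

include hpo in
theorem sections_exists (W : Opens P) (s : Γ(X, (Opens.map a.base).obj W))
    (t : Γ(Y, (Opens.map b.base).obj W))
    (h : i.appLE _ (i ⁻¹ᵁ ((Opens.map a.base).obj W)) le_rfl s =
      j.appLE _ (i ⁻¹ᵁ ((Opens.map a.base).obj W)) (preimage_eq i j hpo W).le t) :
    ∃ r : P.presheaf.obj (op W), a.c.app (op W) r = s ∧ b.c.app (op W) r = t := by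
  refine PinchLib.pushout_sections_exists (hpo.map toPs) W (preimage_eq i j hpo W) s t ?_
  have h' := congrArg (Z.presheaf.map (eqToHom (preimage_eq i j hpo W).symm).op) h
  rw [← CommRingCat.comp_apply, ← CommRingCat.comp_apply, Scheme.Hom.appLE_map, Scheme.Hom.appLE_map] at h'
  refine Eq.trans ?_ (h'.trans ?_)
  · show ((i.app ((Opens.map a.base).obj W)) ≫ Z.presheaf.map (eqToHom (preimage_eq i j hpo W).symm).op) s = _
    rfl
  · rw [Scheme.Hom.appLE_eq_app]
    rfl

include hpo in
theorem jointly_surjective (p : P) : (∃ x, a.base x = p) ∨ ∃ y, b.base y = p := by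
  have h := hpo.map (LocallyRingedSpace.forgetToSheafedSpace ⋙ SheafedSpace.forget CommRingCat.{u} ⋙ forget TopCat.{u})
  rcases Types.eq_or_eq_of_isPushout h p with ⟨x, hx⟩ | ⟨y, hy⟩
  · exact Or.inl ⟨x, hx⟩
  · exact Or.inr ⟨y, hy⟩

include hpo in
theorem exists_open (WX : X.Opens) (WY : Y.Opens) (e : i ⁻¹ᵁ WX = j ⁻¹ᵁ WY) :
    ∃ W : Opens P, (Opens.map a.base).obj W = WX ∧ (Opens.map b.base).obj W = WY := by
  have h := hpo.map toPs
  have hw : (toPs.map i.toLRSHom) ≫ PinchLib.toSier (Y := toPs.obj X.toLocallyRingedSpace) WX 0 =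
      (toPs.map j.toLRSHom) ≫ PinchLib.toSier (Y := toPs.obj Y.toLocallyRingedSpace) WY 0 := by
    rw [PinchLib.comp_toSier, PinchLib.comp_toSier]
    refine PinchLib.toSier_congr e _ _ ?_
    erw [map_zero, map_zero, map_zero]
    rfl
  refine ⟨(Opens.map (h.desc _ _ hw).base).obj PinchLib.sierOpen, ?_, ?_⟩
  · exact congrArg (fun k : toPs.obj X.toLocallyRingedSpace ⟶ PinchLib.sier =>
      (Opens.map k.base).obj PinchLib.sierOpen) (h.inl_desc _ _ hw)
  · exact congrArg (fun k : toPs.obj Y.toLocallyRingedSpace ⟶ PinchLib.sier =>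
      (Opens.map k.base).obj PinchLib.sierOpen) (h.inr_desc _ _ hw)

include hpo in
theorem local_affine_aux [IsClosedImmersion i] (U : Opens P)
    (hX : IsAffineOpen ((Opens.map a.base).obj U)) (hY : IsAffineOpen ((Opens.map b.base).obj U)) :
    IsIso (res U).toΓSpec := by
  haveI : IsAffine (preS U a).toScheme := hX
  haveI : IsAffine (preS U b).toScheme := hY
  let ZU : Z.Opens := i ⁻¹ᵁ preS U a
  haveI : IsAffine ZU.toScheme := hX.preimage i
  let i' : ZU.toScheme ⟶ (preS U a).toScheme := i.resLE _ ZU le_rfl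
  let j' : ZU.toScheme ⟶ (preS U b).toScheme := j.resLE _ ZU (preimage_eq i j hpo U).le
  haveI : IsClosedImmersion i' := by
    show IsClosedImmersion (i.resLE _ _ le_rfl)
    rw [Scheme.Hom.resLE_eq_morphismRestrict]
    exact IsZariskiLocalAtTarget.restrict ‹_› _
  refine SchemePushoutAffine.isIso_toΓSpec i' j' (resHom U a) (resHom U b) ?_ ?_ ?_ ?_
    (IsClosedImmersion.isAffine_surjective_of_isAffine i').2
  · intro q
    rcases jointly_surjective i j hpo ((P.ofRestrict U.isOpenEmbedding).base q) with ⟨x, hx⟩ | ⟨y, hy⟩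
    · have hxU : x ∈ preS U a := by
        show a.base x ∈ U
        rw [hx]
        exact q.2
      refine Or.inl ⟨⟨x, hxU⟩, U.isOpenEmbedding.injective ?_⟩
      exact (congrArg (fun k : (preS U a).toScheme.toLocallyRingedSpace ⟶ P => k.base ⟨x, hxU⟩)
        (resHom_fac U a)).trans hx
    · have hyU : y ∈ preS U b := by
        show b.base y ∈ U
        rw [hy]
        exact q.2
      refine Or.inr ⟨⟨y, hyU⟩, U.isOpenEmbedding.injective ?_⟩
      exact (congrArg (fun k : (preS U b).toScheme.toLocallyRingedSpace ⟶ P => k.base ⟨y, hyU⟩)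
        (resHom_fac U b)).trans hy
  · rw [← cancel_mono (P.ofRestrict U.isOpenEmbedding), Category.assoc, Category.assoc,
      resHom_fac, resHom_fac]
    have h1 : i'.toLRSHom ≫ (preS U a).ι.toLRSHom = ZU.ι.toLRSHom ≫ i.toLRSHom :=
      congrArg Scheme.Hom.toLRSHom (Scheme.Hom.resLE_comp_ι i _)
    have h2 : j'.toLRSHom ≫ (preS U b).ι.toLRSHom = ZU.ι.toLRSHom ≫ j.toLRSHom :=
      congrArg Scheme.Hom.toLRSHom (Scheme.Hom.resLE_comp_ι j _)
    rw [reassoc_of% h1, reassoc_of% h2, hpo.w]
  · intro V r r' ha hb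
    refine sections_injective i j hpo (img U V) r r' ?_ ?_
    · exact (bijective_appLE U a V).1 ((app_resHom U a V r).symm.trans (ha.trans (app_resHom U a V r')))
    · exact (bijective_appLE U b V).1 ((app_resHom U b V r).symm.trans (hb.trans (app_resHom U b V r')))
  · intro V e s' t' h
    obtain ⟨s, rfl⟩ := (bijective_appLE U a V).2 s'
    obtain ⟨t, rfl⟩ := (bijective_appLE U b V).2 t'
    obtain ⟨r, hrs, hrt⟩ := sections_exists i j hpo (img U V) s t (by
      let A := (Opens.map a.base).obj (img U V)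
      let O := i' ⁻¹ᵁ (Opens.map (resHom U a).base).obj V
      let B := (Opens.map b.base).obj (img U V)
      have e1 : O = ZU.ι ⁻¹ᵁ (i ⁻¹ᵁ A) := by
        show i' ⁻¹ᵁ _ = _
        rw [preimage_resHom, ← Scheme.Hom.comp_preimage, Scheme.Hom.resLE_comp_ι]
        rfl
      have hinj : Function.Injective (ZU.ι.appLE (i ⁻¹ᵁ A) O e1.le) := by
        haveI : IsIso (ZU.ι.app (i ⁻¹ᵁ A)) := by
          refine Scheme.Hom.isIso_app _ _ ?_
          rw [Scheme.Opens.opensRange_ι]
          intro z hz
          obtain ⟨p, _, hp⟩ := hz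
          show a.base (i z) ∈ U
          rw [← hp]
          exact p.2
        have : IsIso (ZU.ι.appLE (i ⁻¹ᵁ A) O e1.le) := by
          unfold Scheme.Hom.appLE
          rw [show (homOfLE e1.le) = eqToHom e1 from Subsingleton.elim _ _]
          infer_instance
        exact (ConcreteCategory.bijective_of_isIso _).1
      have key : ∀ {S S' : Scheme.{u}} (k k' : S ⟶ S') (_ : k = k') (W : S'.Opens) (W' : S.Opens)
          (l : W' ≤ k ⁻¹ᵁ W) (l' : W' ≤ k' ⁻¹ᵁ W) (z : Γ(S', W)),
          k.appLE W W' l z = k'.appLE W W' l' z := by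
        rintro S S' k k' rfl W W' l l' z
        rfl
      apply hinj
      have hA := key _ _ (Scheme.Hom.resLE_comp_ι i (le_refl ZU)) A O
        (le_of_eq (congrArg (fun W => i' ⁻¹ᵁ W) (preimage_resHom U a V))) e1.le s
      have hB := key _ _ (Scheme.Hom.resLE_comp_ι j (preimage_eq i j hpo U).le) B O
        (le_of_eq (e.trans (congrArg (fun W => j' ⁻¹ᵁ W) (preimage_resHom U b V))))
        (e1.le.trans (ZU.ι.preimage_mono (preimage_eq i j hpo (img U V)).le)) t
      rw [← CommRingCat.comp_apply, ← CommRingCat.comp_apply, Scheme.Hom.appLE_comp_appLE,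
        Scheme.Hom.appLE_comp_appLE]
      rw [← CommRingCat.comp_apply, ← CommRingCat.comp_apply, Scheme.Hom.appLE_comp_appLE,
        Scheme.Hom.appLE_comp_appLE] at h
      exact hA.symm.trans (h.trans hB))
    exact ⟨r, by rw [app_resHom, hrs], by rw [app_resHom, hrt]⟩

theorem bijective_map_eqToHom {T : Scheme.{u}} {U V : T.Opens} (e : U = V) :
    Function.Bijective (T.presheaf.map (eqToHom e).op) := by
  subst e
  rw [eqToHom_refl, op_id, T.presheaf.map_id]
  exact Function.bijective_id

theorem surjective_appTop {S T : Scheme.{u}} (f : S ⟶ T) (W : T.Opens) (h : Function.Surjective (f.app W)) :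
    Function.Surjective (f ∣_ W).appTop := by
  have hO : ∀ O : T.Opens, O = W → Function.Surjective (f.app O) := fun O e => e ▸ h
  rw [morphismRestrict_appTop]
  exact (bijective_map_eqToHom (image_morphismRestrict_preimage f W ⊤)).2.comp (hO _ (Scheme.Opens.ι_image_top _))

theorem isIntegral_appTop {S T : Scheme.{u}} (f : S ⟶ T) (W : T.Opens) (h : (f.app W).hom.IsIntegral) :
    (f ∣_ W).appTop.hom.IsIntegral := by
  have hO : ∀ O : T.Opens, O = W → (f.app O).hom.IsIntegral := fun O e => e ▸ h
  rw [morphismRestrict_appTop]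
  exact (hO _ (Scheme.Opens.ι_image_top _)).trans _ _ (RingHom.isIntegral_of_surjective _ (bijective_map_eqToHom (image_morphismRestrict_preimage f W ⊤)).2)

/-- Pushouts exist when compatible affine opens cover. -/
theorem exists_pushout [IsClosedImmersion i]
    (hc : ∀ y : Y, ∃ (U : X.Opens) (V : Y.Opens), IsAffineOpen U ∧ IsAffineOpen V ∧ y ∈ V ∧
      i ⁻¹ᵁ U = j ⁻¹ᵁ V) :
    ∃ (P : Scheme.{u}) (a : X ⟶ P) (b : Y ⟶ P), IsPushout i j a b ∧ IsPullback i j a b ∧
      IsClosedImmersion b ∧ (IsIntegralHom j → IsIntegralHom a) ∧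
      (IsClosedImmersion j → IsClosedImmersion a) ∧
      ∀ p : P, (∃ x, a x = p) ∨ ∃ y, b y = p := by
  have hpo := IsPushout.of_hasPushout (C := LocallyRingedSpace.{u}) i.toLRSHom j.toLRSHom
  set PL := pushout i.toLRSHom j.toLRSHom
  set aL := pushout.inl i.toLRSHom j.toLRSHom
  set bL := pushout.inr i.toLRSHom j.toLRSHom
  have cov : ∀ p : PL, ∃ W : Opens PL, p ∈ W ∧ IsAffineOpen ((Opens.map aL.base).obj W) ∧
      IsAffineOpen ((Opens.map bL.base).obj W) := by
    intro p
    have hy : ∀ y : Y, ∃ W : Opens PL, bL.base y ∈ W ∧ IsAffineOpen ((Opens.map aL.base).obj W) ∧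
        IsAffineOpen ((Opens.map bL.base).obj W) := by
      intro y
      obtain ⟨U, V, hU, hV, hy, e⟩ := hc y
      obtain ⟨W, hWa, hWb⟩ := exists_open i j hpo U V e
      refine ⟨W, ?_, hWa ▸ hU, hWb ▸ hV⟩
      show y ∈ (Opens.map bL.base).obj W
      rw [hWb]
      exact hy
    rcases jointly_surjective i j hpo p with ⟨x, rfl⟩ | ⟨y, rfl⟩
    · by_cases hx : x ∈ Set.range i
      · obtain ⟨z, rfl⟩ := hx
        have : aL.base (i z) = bL.base (j z) :=
          congrArg (fun k : Z.toLocallyRingedSpace ⟶ PL => k.base z) hpo.w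
        rw [this]
        exact hy (j z)
      · obtain ⟨U, hU, hxU, hle⟩ := exists_isAffineOpen_mem_and_subset
          (U := ⟨(Set.range i)ᶜ, i.isClosedEmbedding.isClosed_range.isOpen_compl⟩) hx
        obtain ⟨W, hWa, hWb⟩ := exists_open i j hpo U ⊥ (by
          ext z
          exact iff_of_false (fun h => hle h ⟨z, rfl⟩) (fun h => h))
        refine ⟨W, ?_, hWa ▸ hU, hWb ▸ isAffineOpen_bot Y⟩
        show x ∈ (Opens.map aL.base).obj W
        rw [hWa]
        exact hxU
    · exact hy y
  let P : Scheme.{u} :=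
    { toLocallyRingedSpace := PL
      local_affine := fun p => by
        obtain ⟨W, hp, ha, hb⟩ := cov p
        have h := local_affine_aux i j hpo W ha hb
        exact ⟨⟨W, hp⟩, LocallyRingedSpace.Γ.obj (op (res W)), ⟨@asIso _ _ _ _ _ h⟩⟩ }
  let a : X ⟶ P := ⟨aL⟩
  let b : Y ⟶ P := ⟨bL⟩
  have hsq : IsPushout i j a b := by
    refine IsPushout.of_map Scheme.forgetToLocallyRingedSpace ?_ hpo
    exact Scheme.forgetToLocallyRingedSpace.map_injective hpo.w
  let W : P → P.Opens := fun p => (cov p).choose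
  have hmem : ∀ p, p ∈ W p := fun p => (cov p).choose_spec.1
  have hWa : ∀ p, IsAffineOpen (a ⁻¹ᵁ W p) := fun p => (cov p).choose_spec.2.1
  have hWb : ∀ p, IsAffineOpen (b ⁻¹ᵁ W p) := fun p => (cov p).choose_spec.2.2
  have hW : ∀ p : P, IsAffineOpen (W p) := fun p => by
    haveI := local_affine_aux i j hpo (W p) (hWa p) (hWb p)
    show IsAffine (W p).toScheme
    exact IsAffine.of_isIso ((Scheme.forgetToLocallyRingedSpace.preimageIso
      (X := (W p).toScheme) (Y := Spec (LocallyRingedSpace.Γ.obj (op (res (W p)))))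
      (@asIso _ _ _ _ _ (local_affine_aux i j hpo (W p) (hWa p) (hWb p)))).hom)
  have hsup : ⨆ p : P, (W p) = ⊤ :=
    top_le_iff.mp fun p _ => Opens.mem_iSup.mpr ⟨p, hmem p⟩
  let WA : P → P.affineOpens := fun p => ⟨W p, hW p⟩
  have eW : ∀ p, i ⁻¹ᵁ a ⁻¹ᵁ W p = j ⁻¹ᵁ b ⁻¹ᵁ W p := fun p => preimage_eq i j hpo (W p)
  have bsurj : ∀ p, Function.Surjective (b.app (W p)) := fun p t => by
    obtain ⟨s, hs⟩ := i.app_surjective (a ⁻¹ᵁ W p) (hWa p) (j.appLE _ _ (eW p).le t)
    obtain ⟨r, -, hr⟩ := sections_exists i j hpo (W p) s t (by rw [Scheme.Hom.appLE_eq_app]; exact hs)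
    exact ⟨r, hr⟩
  have hb : IsClosedImmersion b := by
    refine (HasAffineProperty.iff_of_iSup_eq_top (P := @IsClosedImmersion) WA hsup).mpr fun p => ?_
    refine ⟨hWb p, ?_⟩
    exact surjective_appTop b (W p) (bsurj p)
  refine ⟨P, a, b, hsq, ?_, hb, fun hj => ?_, fun hj => ?_, jointly_surjective i j hpo⟩
  · haveI := hb
    have hker : i.ker ≤ (pullback.fst a b).ker := by
      refine Scheme.IdealSheafData.le_of_iSup_eq_top (fun p => ⟨a ⁻¹ᵁ W p, hWa p⟩) ?_ fun p u hu => ?_
      · show ⨆ p, a ⁻¹ᵁ W p = ⊤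
        rw [← Scheme.Hom.preimage_iSup, hsup, Scheme.Hom.preimage_top]
      · rw [Scheme.Hom.ker_apply, RingHom.mem_ker] at hu ⊢
        obtain ⟨r, hru, hr0⟩ := sections_exists i j hpo (W p) u 0 (by
          rw [Scheme.Hom.appLE_eq_app, map_zero]; exact hu)
        rw [← hru]
        have key : ∀ {S : Scheme.{u}} (k k' : S ⟶ P) (_ : k = k'), k'.app (W p) r = 0 → k.app (W p) r = 0 := by
          rintro S k k' rfl h
          exact h
        refine key _ _ (pullback.condition (f := a) (g := b)) ?_
        show (pullback.snd a b).app _ (b.app (W p) r) = 0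
        rw [show b.app (W p) r = 0 from hr0, map_zero]
    let ψ := IsClosedImmersion.lift i (pullback.fst a b) hker
    have hψ : ψ ≫ i = pullback.fst a b := IsClosedImmersion.lift_fac _ _ _
    have hψ' : ψ ≫ j = pullback.snd a b := by
      rw [← cancel_mono b, Category.assoc, ← hsq.w, reassoc_of% hψ, pullback.condition]
    refine IsPullback.of_iso_pullback ⟨hsq.w⟩
      ⟨pullback.lift i j hsq.w, ψ, ?_, ?_⟩ (pullback.lift_fst _ _ _) (pullback.lift_snd _ _ _)
    · rw [← cancel_mono i, Category.assoc, hψ, pullback.lift_fst, Category.id_comp]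
    · apply pullback.hom_ext
      · rw [Category.assoc, pullback.lift_fst, hψ, Category.id_comp]
      · rw [Category.assoc, pullback.lift_snd, hψ', Category.id_comp]
  · refine (HasAffineProperty.iff_of_iSup_eq_top (P := @IsIntegralHom) WA hsup).mpr fun p => ⟨hWa p, ?_⟩
    refine isIntegral_appTop a (W p) ?_
    intro s
    let θ : Γ(X, a ⁻¹ᵁ W p) →+* Γ(Z, j ⁻¹ᵁ b ⁻¹ᵁ W p) :=
      (i.app (a ⁻¹ᵁ W p) ≫ Z.presheaf.map (eqToHom (eW p).symm).op).hom
    obtain ⟨q, hq, hq0⟩ := j.isIntegral_app (b ⁻¹ᵁ W p) (hWb p) (θ s)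
    obtain ⟨q', hq', -, hmon⟩ := Polynomial.lifts_and_natDegree_eq_and_monic (f := (b.app (W p)).hom)
      ((Polynomial.mem_lifts _).mpr (Polynomial.map_surjective _ (bsurj p) q)) hq
    have hθ : θ.comp (a.app (W p)).hom = (j.app (b ⁻¹ᵁ W p)).hom.comp (b.app (W p)).hom := by
      have key : ∀ (k k' : Z ⟶ P) (e : k = k'),
          k.app (W p) ≫ Z.presheaf.map (eqToHom (congrArg (fun f => f ⁻¹ᵁ W p) e.symm)).op = k'.app (W p) := by
        rintro k k' rfl
        simp
      exact congrArg CommRingCat.Hom.hom (key _ _ hsq.w)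
    let e := Polynomial.eval₂ (a.app (W p)).hom s q' * s
    have he : i.app (a ⁻¹ᵁ W p) e = 0 := by
      have h1 : θ e = 0 := by
        rw [map_mul, Polynomial.hom_eval₂, hθ, ← Polynomial.eval₂_map, hq', hq0, zero_mul]
      have h2 := congrArg (Z.presheaf.map (eqToHom (eW p)).op) h1
      rw [map_zero] at h2
      refine Eq.trans ?_ h2
      show _ = Z.presheaf.map _ (Z.presheaf.map _ (i.app (a ⁻¹ᵁ W p) e))
      rw [← CommRingCat.comp_apply, ← Z.presheaf.map_comp]
      exact (congrArg (fun k => k (i.app (a ⁻¹ᵁ W p) e)) (Z.presheaf.map_id _)).symm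
    obtain ⟨r, hr, -⟩ := sections_exists i j hpo (W p) e 0 (by
      rw [Scheme.Hom.appLE_eq_app, map_zero]; exact he)
    refine ⟨q' * Polynomial.X - Polynomial.C r, ?_, ?_⟩
    · rcases subsingleton_or_nontrivial Γ(P, W p) with h0 | h0
      · exact Polynomial.monic_of_subsingleton _
      refine (hmon.mul Polynomial.monic_X).sub_of_left ?_
      refine lt_of_le_of_lt Polynomial.degree_C_le ?_
      rw [Polynomial.degree_mul_X, Polynomial.degree_eq_natDegree hmon.ne_zero]
      exact_mod_cast Nat.succ_pos _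
    · rw [Polynomial.eval₂_sub, Polynomial.eval₂_mul, Polynomial.eval₂_X, Polynomial.eval₂_C, sub_eq_zero]
      exact hr.symm
  · refine (HasAffineProperty.iff_of_iSup_eq_top (P := @IsClosedImmersion) WA hsup).mpr fun p => ⟨hWa p, ?_⟩
    refine surjective_appTop a (W p) ?_
    intro s
    obtain ⟨t, ht⟩ := j.app_surjective (b ⁻¹ᵁ W p) (hWb p)
      (Z.presheaf.map (eqToHom (eW p).symm).op (i.app (a ⁻¹ᵁ W p) s))
    obtain ⟨r, hr, -⟩ := sections_exists i j hpo (W p) s t (by
      rw [Scheme.Hom.appLE_eq_app]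
      show _ = Z.presheaf.map (homOfLE _).op (j.app _ t)
      rw [ht, ← CommRingCat.comp_apply, ← Z.presheaf.map_comp]
      exact (congrArg (fun k => k (i.app (a ⁻¹ᵁ W p) s)) (Z.presheaf.map_id _)).symm)
    exact ⟨r, hr⟩

end Groth.Agent.FlatMisc.SchemePushout
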