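import Groth.Agent.FlatMisc.ValuationFP
import Mathlib.RingTheory.EssentialFiniteness
import Mathlib.RingTheory.Localization.Integer
import Mathlib.RingTheory.Flat.TorsionFree

/-! Flat finite modules over essentially finite type algebras over a valuation ring are finitely
presented. -/

set_option autoImplicit false

universe u

open MvPolynomial

namespace Groth.Agent.FlatMisc.ValuationEFT

theorem finitePresentation {A B : Type u} [CommRing A] [IsDomain A] [ValuationRing A] [CommRing B]
    [Algebra A B] [Algebra.EssFiniteType A B] (M : Type u) [AddCommGroup M] [Module B M] [Module A M]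
    [IsScalarTower A B M] [Module.Finite B M] (h : ∀ (a : A) (m : M), a • m = 0 → a = 0 ∨ m = 0) :
    Module.FinitePresentation B M := by
  classical
  let S₀ := Algebra.EssFiniteType.subalgebra A B
  obtain ⟨n, f, hf⟩ := Algebra.FiniteType.iff_quotient_mvPolynomial''.mp
    (inferInstance : Algebra.FiniteType A S₀)
  let φ : MvPolynomial (Fin n) A →ₐ[A] B := S₀.val.comp f
  let : Module (MvPolynomial (Fin n) A) M := Module.compHom M φ.toRingHom
  have hsmul : ∀ (p : MvPolynomial (Fin n) A) (m : M), p • m = φ p • m := fun _ _ => rfl
  have : IsScalarTower A (MvPolynomial (Fin n) A) M := ⟨fun a p m => by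
    rw [hsmul, hsmul, map_smul, smul_assoc]⟩
  obtain ⟨r, π, hπ⟩ := Module.Finite.exists_fin' B M
  let π₀ : (Fin r → MvPolynomial (Fin n) A) →ₗ[MvPolynomial (Fin n) A] M :=
    { toFun := fun v => π (fun i => φ (v i))
      map_add' := fun v w => by
        rw [← map_add]; congr 1; funext i; exact map_add φ _ _
      map_smul' := fun p v => by
        rw [RingHom.id_apply, hsmul, ← map_smul]; congr 1; funext i; exact map_mul φ _ _ }
  obtain ⟨T, hT⟩ := ValuationFP.fg_of_saturated π₀ h
  let dv : (Fin r → MvPolynomial (Fin n) A) → (Fin r → B) := fun v i => φ (v i)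
  refine Module.finitePresentation_of_surjective π hπ ⟨T.image dv, le_antisymm ?_ fun v hv => ?_⟩
  · refine Submodule.span_le.mpr fun x hx => ?_
    obtain ⟨w, hw, rfl⟩ := Finset.mem_image.mp hx
    have hw' : w ∈ LinearMap.ker π₀ := hT ▸ Submodule.subset_span hw
    exact hw'
  · have hspan : ∀ w, π₀ w = 0 → dv w ∈ Submodule.span B ((T.image dv : Finset _) : Set (Fin r → B)) := by
      intro w hw
      have hw' : w ∈ Submodule.span (MvPolynomial (Fin n) A) (T : Set (Fin r → MvPolynomial (Fin n) A)) :=
        hT.symm ▸ hw
      induction hw' using Submodule.span_induction with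
      | mem x hx => exact Submodule.subset_span (Finset.mem_coe.mpr (Finset.mem_image_of_mem dv hx))
      | zero =>
        have : dv (0 : Fin r → MvPolynomial (Fin n) A) = 0 := funext fun i => map_zero φ
        rw [this]
        exact Submodule.zero_mem _
      | add x y hx hy ihx ihy =>
        have : dv (x + y) = dv x + dv y := funext fun i => map_add φ _ _
        rw [this]
        exact Submodule.add_mem _ (ihx (hT.le hx)) (ihy (hT.le hy))
      | smul p x hx ihx =>
        have : dv (p • x) = φ p • dv x := funext fun i => map_mul φ _ _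
        rw [this]
        exact Submodule.smul_mem _ _ (ihx (hT.le hx))
    obtain ⟨⟨b, hb⟩, hint⟩ := IsLocalization.exist_integer_multiples
      (Algebra.EssFiniteType.submonoid A B) Finset.univ v
    have hu : IsUnit (algebraMap S₀ B b) := hb
    choose x hx using fun i => hint i (Finset.mem_univ i)
    choose w hw using fun i => hf (x i)
    have hwv : dv w = algebraMap S₀ B b • v := by
      funext i
      show S₀.val (f (w i)) = _
      rw [hw i, Pi.smul_apply, smul_eq_mul]
      exact (hx i).trans (Algebra.smul_def _ _)
    have hw0 : π₀ w = 0 := by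
      show π (dv w) = 0
      rw [hwv, map_smul, LinearMap.mem_ker.mp hv, smul_zero]
    have := hspan w hw0
    rw [hwv] at this
    obtain ⟨u, hu'⟩ := hu
    have h2 := Submodule.smul_mem _ (↑u⁻¹ : B) this
    rwa [← mul_smul, ← hu', Units.inv_mul, one_smul] at h2

end Groth.Agent.FlatMisc.ValuationEFT
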