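import Groth.Agent.WeakAss.Basic
import Mathlib.RingTheory.Flat.Stability
import Mathlib.RingTheory.Flat.Localization
import Mathlib.RingTheory.Ideal.GoingUp
import Mathlib.RingTheory.LocalRing.Module
import Mathlib.RingTheory.QuasiFinite.Basic
import Mathlib.RingTheory.Localization.BaseChange
import Mathlib.LinearAlgebra.TensorProduct.Pi

/-! Weakly associated primes along finite flat and étale ring maps. -/

set_option autoImplicit false

open TensorProduct

namespace Groth.Agent.FlatMisc.WeakAssFlat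

universe u

open Groth.Agent.WeakAss (mem_ann mem_weakAss_iff minimalPrimes_iff)

variable {A B : Type u} [CommRing A] [CommRing B] [Algebra A B]
  {M : Type u} [AddCommGroup M] [Module A M]

theorem ann_one_tmul [Module.Flat A B] (m : M) (b : B)
    (hb : b • ((1 : B) ⊗ₜ[A] m) = 0) :
    b ∈ (Submodule.span A {m}).annihilator.map (algebraMap A B) := by
  let φ : A →ₗ[A] M := LinearMap.toSpanSingleton A M m
  have hex : Function.Exact (LinearMap.ker φ).subtype φ := LinearMap.exact_subtype_ker_map φ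
  have h := Module.Flat.lTensor_exact B hex
  have hb' : φ.lTensor B (b ⊗ₜ 1) = 0 := by
    rw [LinearMap.lTensor_tmul]
    simpa [φ, smul_tmul', smul_eq_mul] using hb
  obtain ⟨y, hy⟩ := (h _).mp hb'
  have key : ∀ y : B ⊗[A] LinearMap.ker φ,
      TensorProduct.rid A B ((LinearMap.ker φ).subtype.lTensor B y) ∈
        (Submodule.span A {m}).annihilator.map (algebraMap A B) := by
    intro y
    induction y with
    | zero => simp
    | tmul c a =>
      rw [LinearMap.lTensor_tmul, TensorProduct.rid_tmul, Algebra.smul_def]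
      refine Ideal.mul_mem_right _ _ (Ideal.mem_map_of_mem _ (mem_ann.mpr ?_))
      have := LinearMap.mem_ker.mp a.2
      simpa only [φ, Submodule.coe_subtype, LinearMap.toSpanSingleton_apply] using this
    | add x y hx hy => simp only [map_add]; exact add_mem hx hy
  have := key y
  rw [hy, TensorProduct.rid_tmul, one_smul] at this
  exact this

theorem mem_of_mem [Module.Flat A B] (p : Ideal A) [p.IsPrime] (t : Ideal B) [t.IsPrime]
    [t.LiesOver p] (hmin : t ∈ (p.map (algebraMap A B)).minimalPrimes)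
    (h : p ∈ FlatCA.weakAss A M) : t ∈ FlatCA.weakAss B (B ⊗[A] M) := by
  obtain ⟨m, hm, hp⟩ := mem_weakAss_iff.mp h
  refine mem_weakAss_iff.mpr ⟨1 ⊗ₜ m, fun b hb => ?_, fun f hf => ?_⟩
  · refine hmin.1.2 (Ideal.map_mono (fun a ha => hm a (mem_ann.mp ha)) (ann_one_tmul m b hb))
  · obtain ⟨s, hs, n, hn⟩ := minimalPrimes_iff.mp hmin |>.2 f hf
    have key : ∀ y ∈ p.map (algebraMap A B),
        ∃ c : B, c ∉ t ∧ ∃ k : ℕ, (c * y ^ k) • ((1 : B) ⊗ₜ[A] m) = 0 := by
      intro y hy
      induction hy using Submodule.span_induction with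
      | mem x hx =>
        obtain ⟨a, ha, rfl⟩ := hx
        obtain ⟨c, hc, k, hk⟩ := hp a ha
        refine ⟨algebraMap A B c, fun h' => hc ?_, k, ?_⟩
        · rw [t.over_def p]; exact h'
        · rw [← map_pow, ← map_mul, algebraMap_smul, ← TensorProduct.tmul_smul, hk,
            TensorProduct.tmul_zero]
      | zero => exact ⟨1, t.one_notMem, 1, by simp⟩
      | smul r x _ hx =>
        obtain ⟨c, hc, k, hk⟩ := hx
        exact ⟨c, hc, k, by
          rw [smul_eq_mul, mul_pow, mul_left_comm, mul_smul, hk, smul_zero]⟩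
      | add x y _ _ hx hy =>
        obtain ⟨c, hc, k, hk⟩ := hx
        obtain ⟨d, hd, l, hl⟩ := hy
        refine ⟨c * d, ‹t.IsPrime›.mul_notMem hc hd, k + l, ?_⟩
        rw [add_pow, Finset.mul_sum, Finset.sum_smul]
        refine Finset.sum_eq_zero fun i hi => ?_
        rcases le_total k i with hki | hki
        · obtain ⟨j, rfl⟩ := Nat.exists_eq_add_of_le hki
          rw [show c * d * (x ^ (k + j) * y ^ (k + l - (k + j)) * ((k + l).choose (k + j) : B)) =
            d * x ^ j * y ^ (k + l - (k + j)) * ((k + l).choose (k + j) : B) * (c * x ^ k) by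
              rw [pow_add]; ring, mul_smul, hk, smul_zero]
        · have : l ≤ k + l - i := by omega
          obtain ⟨j, hj⟩ := Nat.exists_eq_add_of_le this
          rw [hj, show c * d * (x ^ i * y ^ (l + j) * ((k + l).choose i : B)) =
            c * x ^ i * y ^ j * ((k + l).choose i : B) * (d * y ^ l) by
              rw [pow_add]; ring, mul_smul, hl, smul_zero]
    obtain ⟨c, hc, k, hk⟩ := key _ hn
    refine ⟨c * s ^ k, ‹t.IsPrime›.mul_notMem hc fun h' => hs (‹t.IsPrime›.mem_of_pow_mem k h'),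
      n * k, ?_⟩
    rw [pow_mul, mul_assoc, ← mul_pow]
    exact hk

/-- Incomparability gives minimality over the extended prime. -/
theorem mem_minimalPrimes_map (p : Ideal A) [p.IsPrime] (t : Ideal B) [t.IsPrime] [t.LiesOver p]
    [Algebra.QuasiFinite A B] : t ∈ (p.map (algebraMap A B)).minimalPrimes := by
  refine ⟨⟨‹_›, Ideal.map_le_iff_le_comap.mpr (t.over_def p).le⟩, fun q hq hqt => ?_⟩
  have := hq.1
  have hu : q.under A = t.under A := by
    refine le_antisymm (Ideal.comap_mono hqt) ?_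
    rw [← t.over_def p]
    exact Ideal.map_le_iff_le_comap.mp hq.2
  exact (Algebra.QuasiFinite.eq_of_le_of_under_eq (R := A) q t hqt hu).ge

theorem exists_killer (p : Ideal A) [p.IsPrime] [Module.Finite A B] (t : Ideal B) [t.IsPrime]
    [t.LiesOver p] {N : Type*} [AddCommGroup N] [Module B N] (z : N)
    (hz : t ∈ (Submodule.span B {z}).annihilator.minimalPrimes) :
    ∃ g : B, (∀ b : B, b • g • z = 0 → b ∈ t) ∧
      ∀ a ∈ p, ∃ s : A, s ∉ p ∧ ∃ n : ℕ, (algebraMap A B (s * a ^ n)) • g • z = 0 := by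
  classical
  have hfin : (p.primesOver B).Finite := Algebra.QuasiFinite.finite_primesOver p
  have hle : ∀ b : B, b • z = 0 → b ∈ t := fun b hb => hz.1.2 (mem_ann.mpr hb)
  have key : ∀ Q : Ideal B, Q ∈ p.primesOver B → Q ≠ t →
      ∃ g : B, g ∉ t ∧ ∃ u : B, u ∉ Q ∧ u • g • z = 0 := by
    rintro Q ⟨hQ, hQp⟩ hne
    by_contra hc
    push Not at hc
    let K : Ideal B :=
      { carrier := {g | ∃ u : B, u ∉ Q ∧ u • g • z = 0}
        zero_mem' := ⟨1, Q.one_notMem, by simp⟩
        add_mem' := by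
          rintro g h ⟨u, hu, hu'⟩ ⟨v, hv, hv'⟩
          refine ⟨u * v, hQ.mul_notMem hu hv, ?_⟩
          rw [add_smul, smul_add, mul_smul u v (h • z), hv', smul_zero, add_zero, mul_comm,
            mul_smul, hu', smul_zero]
        smul_mem' := by
          rintro c g ⟨u, hu, hu'⟩
          exact ⟨u, hu, by rw [smul_eq_mul, mul_smul, smul_comm u c, hu', smul_zero]⟩ }
    have hKt : K ≤ t := by
      rintro g ⟨u, hu, hu'⟩
      by_contra hg
      exact hc g hg u hu hu'
    obtain ⟨q, hq, hqt⟩ := Ideal.exists_minimalPrimes_le hKt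
    have := hq.1.1
    have hqQ : q ≤ Q := by
      intro x hx
      by_contra hxQ
      obtain ⟨s, hs, n, u, hu, hu'⟩ := (minimalPrimes_iff.mp hq).2 x hx
      refine hs (hq.1.2 ⟨u * x ^ n, hQ.mul_notMem hu fun h' => hxQ (hQ.mem_of_pow_mem n h'), ?_⟩)
      rw [← hu']
      simp only [← mul_smul]
      congr 1
      ring
    have htq : t ≤ q := hz.2 ⟨hq.1.1, fun b hb => hq.1.2
      ⟨1, Q.one_notMem, by rw [one_smul]; exact mem_ann.mp hb⟩⟩ hqt
    have hu : t.under A = Q.under A := by rw [← t.over_def p, ← Q.over_def p]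
    exact hne (Algebra.QuasiFinite.eq_of_le_of_under_eq (R := A) t Q (htq.trans hqQ) hu).symm
  choose! g hg u hu hug using key
  let G := ∏ Q ∈ hfin.toFinset.filter (· ≠ t), g Q
  have hG : G ∉ t := fun h => by
    obtain ⟨Q, hQ, hQ'⟩ := ‹t.IsPrime›.prod_mem_iff.mp h
    rw [Finset.mem_filter, hfin.mem_toFinset] at hQ
    exact hg Q hQ.1 hQ.2 hQ'
  refine ⟨G, fun b hb => ?_, fun a ha => ?_⟩
  · rw [← mul_smul] at hb
    exact (‹t.IsPrime›.mem_or_mem (hle _ hb)).resolve_right hG
  · by_contra hc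
    push Not at hc
    obtain ⟨q, hq, hIq, hd⟩ := Ideal.exists_le_prime_disjoint (Submodule.span B {G • z}).annihilator
      ((p.primeCompl ⊔ Submonoid.powers a).map (algebraMap A B))
      (Set.disjoint_left.mpr fun x hx hxs => by
        obtain ⟨y, hy, rfl⟩ := hxs
        obtain ⟨s, hs, _, ⟨n, rfl⟩, rfl⟩ := Submonoid.mem_sup.mp hy
        exact hc s hs n (mem_ann.mp hx))
    have hqp : q.comap (algebraMap A B) ≤ p := fun x hx => by
      by_contra hxp
      exact Set.disjoint_left.mp hd hx ⟨x, Submonoid.mem_sup_left hxp, rfl⟩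
    obtain ⟨Q, hqQ, hQ, hQp⟩ := Ideal.exists_ideal_over_prime_of_isIntegral p q hqp
    by_cases hQt : Q = t
    · subst hQt
      have : Q ≤ q := hz.2 ⟨hq, fun b hb => hIq (mem_ann.mpr (by
        rw [smul_comm, mem_ann.mp hb, smul_zero]))⟩ hqQ
      refine Set.disjoint_left.mp hd (this ?_)
        ⟨a, Submonoid.mem_sup_right (Submonoid.mem_powers a), rfl⟩
      rw [← hQp] at ha
      exact ha
    · have hmem : Q ∈ p.primesOver B := ⟨hQ, ⟨hQp.symm⟩⟩
      obtain ⟨c, hc'⟩ : g Q ∣ G :=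
        Finset.dvd_prod_of_mem g (Finset.mem_filter.mpr ⟨hfin.mem_toFinset.mpr hmem, hQt⟩)
      refine hu Q hmem hQt (hqQ (hIq (mem_ann.mpr ?_)))
      rw [hc', mul_comm, mul_smul c, smul_comm (u Q), hug Q hmem hQt, smul_zero]

theorem mem_of_mem_of_finite [Module.Finite A B] [Module.Flat A B] (p : Ideal A) [p.IsPrime]
    (t : Ideal B) [t.IsPrime] [t.LiesOver p] (h : t ∈ FlatCA.weakAss B (B ⊗[A] M)) :
    p ∈ FlatCA.weakAss A M := by
  obtain ⟨z, hz⟩ := h
  obtain ⟨g, hg1, hg2⟩ := exists_killer p t z hz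
  by_contra hp
  have hT : ∀ m : M, (∀ a ∈ p, ∃ s : A, s ∉ p ∧ ∃ n : ℕ, (s * a ^ n) • m = 0) →
      ∃ s : A, s ∉ p ∧ s • m = 0 := by
    intro m hm
    by_contra hc
    push Not at hc
    exact hp (mem_weakAss_iff.mpr ⟨m, fun a ha => by
      by_contra hap
      exact hc a hap ha, hm⟩)
  classical
  let Ap := Localization.AtPrime p
  have : Module.Free Ap (Ap ⊗[A] B) := Module.free_of_flat_of_isLocalRing
  let bas := Module.Free.chooseBasis Ap (Ap ⊗[A] B)
  let e : Ap ⊗[A] (B ⊗[A] M) ≃ₗ[A]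
      (Module.Free.ChooseBasisIndex Ap (Ap ⊗[A] B) → Ap ⊗[A] M) :=
    (TensorProduct.assoc A Ap B M).symm ≪≫ₗ
      LinearEquiv.rTensor M (bas.equivFun.restrictScalars A) ≪≫ₗ TensorProduct.piLeft A M (fun _ => Ap)
  have h0 : e (1 ⊗ₜ (g • z)) = 0 := by
    funext i
    obtain ⟨⟨m, v⟩, hmv⟩ :=
      IsLocalizedModule.surj p.primeCompl (TensorProduct.mk A Ap M 1) (e (1 ⊗ₜ (g • z)) i)
    have hm : ∀ a ∈ p, ∃ s : A, s ∉ p ∧ ∃ n : ℕ, (s * a ^ n) • m = 0 := by
      intro a ha
      obtain ⟨s, hs, n, hn⟩ := hg2 a ha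
      have : TensorProduct.mk A Ap M 1 ((s * a ^ n) • m) = TensorProduct.mk A Ap M 1 0 := by
        rw [map_smul, ← hmv, smul_comm (s * a ^ n) (m, v).2, ← Pi.smul_apply (s * a ^ n) (e (1 ⊗ₜ (g • z))) i, ← map_smul,
          ← TensorProduct.tmul_smul, ← algebraMap_smul (R := A) B (s * a ^ n) (g • z), hn,
          TensorProduct.tmul_zero, map_zero, map_zero, Pi.zero_apply, smul_zero]
      obtain ⟨c, hc⟩ := IsLocalizedModule.exists_of_eq (S := p.primeCompl) this
      refine ⟨c * s, ‹p.IsPrime›.mul_notMem c.2 hs, n, ?_⟩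
      rw [mul_assoc, mul_smul]
      simpa [Submonoid.smul_def] using hc
    obtain ⟨s, hs, hsm⟩ := hT m hm
    refine (IsLocalizedModule.smul_inj (TensorProduct.mk A Ap M 1) (⟨s, hs⟩ * v) _ _).mp ?_
    rw [Pi.zero_apply, smul_zero, mul_smul, hmv, Submonoid.smul_def, ← map_smul, hsm, map_zero]
  rw [← map_zero e, e.injective.eq_iff] at h0
  obtain ⟨c, hc⟩ := IsLocalizedModule.exists_of_eq (S := p.primeCompl)
    (f := TensorProduct.mk A Ap (B ⊗[A] M) 1) (x₁ := g • z) (x₂ := 0)
    (by simpa using h0)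
  refine c.2 ?_
  rw [Submonoid.smul_def, Submonoid.smul_def, smul_zero, ← algebraMap_smul (R := A) B] at hc
  have := hg1 _ hc
  rwa [← Ideal.mem_comap, ← Ideal.under_def, ← t.over_def p] at this

theorem mem_iff_of_finite [Module.Finite A B] [Module.Flat A B] (p : Ideal A) [p.IsPrime]
    (t : Ideal B) [t.IsPrime] [t.LiesOver p] :
    t ∈ FlatCA.weakAss B (B ⊗[A] M) ↔ p ∈ FlatCA.weakAss A M :=
  ⟨mem_of_mem_of_finite p t, mem_of_mem p t (mem_minimalPrimes_map p t)⟩

/-- Weakly associated primes of a tensor product along a localisation of the algebra. -/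
theorem mem_iff_of_isLocalization {C C' : Type u} [CommRing C] [CommRing C'] [Algebra A C]
    [Algebra A C'] [Algebra C C'] [IsScalarTower A C C'] (S : Submonoid C) [IsLocalization S C']
    (q : Ideal C') [q.IsPrime] :
    q ∈ FlatCA.weakAss C' (C' ⊗[A] M) ↔
      q.comap (algebraMap C C') ∈ FlatCA.weakAss C (C ⊗[A] M) := by
  let e := TensorProduct.AlgebraTensorModule.cancelBaseChange A C C' C' M
  have he : q ∈ FlatCA.weakAss C' (C' ⊗[A] M) ↔
      q ∈ FlatCA.weakAss C' (C' ⊗[C] (C ⊗[A] M)) :=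
    ⟨fun h => WeakAss.weakAss_mono (f := e.symm.toLinearMap) e.symm.injective h,
      fun h => WeakAss.weakAss_mono (f := e.toLinearMap) e.injective h⟩
  have hd : Disjoint (S : Set C) (q.comap (algebraMap C C') : Set C) :=
    Set.disjoint_left.mpr fun s hs hsq => ‹q.IsPrime›.ne_top
      (Ideal.eq_top_of_isUnit_mem _ hsq (IsLocalization.map_units C' ⟨s, hs⟩))
  let i := IsLocalizedModule.iso S (TensorProduct.mk C C' (C ⊗[A] M) 1)
  rw [he, ← WeakAss.mem_weakAss_comap_iff (R := C) S q,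
    ← WeakAss.mem_weakAss_localizedModule_iff (M := C ⊗[A] M) S hd]
  exact ⟨fun h => WeakAss.weakAss_mono (f := i.symm.toLinearMap) i.symm.injective h,
    fun h => WeakAss.weakAss_mono (f := i.toLinearMap) i.injective h⟩

end Groth.Agent.FlatMisc.WeakAssFlat
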