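import Groth.Agent.FlatMisc.FibreDimScheme
import Groth.Agent.DimSpec.Core
import Mathlib.AlgebraicGeometry.Morphisms.Flat

/-!
For a flat morphism locally of finite type the fibre dimension can only grow along generizations
in the target.
-/

set_option autoImplicit false

universe u

open AlgebraicGeometry CategoryTheory TopologicalSpace Topology
open scoped TensorProduct

namespace Groth.Agent.FlatMisc.FlatFibreDimGen

section Algebra

variable {A R : Type u} [CommRing A] [CommRing R] [Algebra A R]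

/-- Algebraic independence at a prime propagates to a suitable generization, for flat algebras. -/
theorem indep_of_flat [Module.Flat A R] (p p' : Ideal A) [p.IsPrime] [p'.IsPrime] (h : p' ≤ p)
    (q : Ideal R) [q.IsPrime] (hq : q.comap (algebraMap A R) = p) {n : ℕ} (a : Fin n → R)
    (ha : DimSpec.Indep p q a) :
    ∃ q' : PrimeSpectrum R, q'.asIdeal ≤ q ∧ q'.comap (algebraMap A R) = ⟨p', inferInstance⟩ ∧
      DimSpec.Indep p' q'.asIdeal a := by
  classical
  let C := Localization.AtPrime q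
  haveI : Module.Flat A C := Module.Flat.trans A R C
  let v : PUnit.{u+1} → (R →+* C) := fun _ => algebraMap R C
  have hvA : ∀ i, (v i).comp (algebraMap A R) = algebraMap A C := fun _ =>
    (IsScalarTower.algebraMap_eq A R C).symm
  have hd : DimSpec.Dense' (C := fun _ : PUnit.{u+1} => C) v p a := fun Q hQ => by
    refine ⟨PUnit.unit, IsLocalRing.maximalIdeal C, inferInstance, ?_, fun hm => ha Q hQ ?_⟩
    · rw [← Ideal.comap_comap]
      show ((IsLocalRing.maximalIdeal C).comap (algebraMap R C)).comap (algebraMap A R) = p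
      have : (IsLocalRing.maximalIdeal C).comap (algebraMap R C) = q := Localization.AtPrime.under_maximalIdeal
      rw [this, hq]
    · exact (IsLocalization.AtPrime.to_map_mem_maximal_iff C q _).mp hm
  obtain ⟨V, φ, hφ, hφp⟩ := DimSpec.exists_valuation p p' h
  have hgen : DimSpec.Gen (C := fun _ : PUnit.{u+1} => C) v V φ := by
    intro i L _ ψ χ hψ hc
    letI : Algebra A V := φ.toAlgebra
    letI : Algebra A L := (ψ.comp φ).toAlgebra
    have hχ : ∀ x : A, χ (algebraMap A C x) = ψ (φ x) := fun x => by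
      rw [← hvA i]
      exact (RingHom.congr_fun hc x).symm
    let ψ' : V →ₐ[A] L :=
      { toRingHom := ψ
        commutes' := fun _ => rfl }
    let χ' : C →ₐ[A] L :=
      { toRingHom := χ
        commutes' := hχ }
    let π : V ⊗[A] C →ₐ[A] L := Algebra.TensorProduct.lift ψ' χ' fun _ _ => mul_comm _ _
    have hπV : π.toRingHom.comp (algebraMap V (V ⊗[A] C)) = ψ := RingHom.ext fun x => by
      show π (x ⊗ₜ 1) = ψ x
      simp [π, ψ', χ']
    haveI : (RingHom.ker π.toRingHom).IsPrime := RingHom.ker_isPrime _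
    haveI : (RingHom.ker π.toRingHom).LiesOver (IsLocalRing.maximalIdeal V) := ⟨by
      rw [← hψ, ← hπV, ← RingHom.comap_ker]⟩
    obtain ⟨q', hq'le, hq', hq'0⟩ := Ideal.exists_ideal_le_liesOver_of_le (p := (⊥ : Ideal V))
      (q := IsLocalRing.maximalIdeal V) (RingHom.ker π.toRingHom) bot_le
    refine ⟨V ⊗[A] C, inferInstance, algebraMap V _, (Algebra.TensorProduct.includeRight).toRingHom,
      π.toRingHom, q', hq', ?_, hπV, ?_, hq'le, hq'0.over.symm⟩
    · rw [hvA i]
      refine RingHom.ext fun x => ?_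
      show (φ x) ⊗ₜ[A] (1 : C) = (1 : V) ⊗ₜ[A] (algebraMap A C x)
      rw [Algebra.algebraMap_eq_smul_one, TensorProduct.tmul_smul, TensorProduct.smul_tmul', Algebra.smul_def,
        mul_one]
      rfl
    · refine RingHom.ext fun x => ?_
      show π (1 ⊗ₜ x) = χ x
      simp [π, ψ', χ']
  have hd' := DimSpec.indep_of_gen p p' v V φ hφ hφp hgen a hd
  -- one prime avoiding all of them
  let J : Ideal C := p'.map (algebraMap A C)
  haveI : IsDomain (A ⧸ p') := Ideal.Quotient.isDomain _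
  haveI : (RingHom.ker (MvPolynomial.map (σ := Fin n) (Ideal.Quotient.mk p'))).IsPrime := RingHom.ker_isPrime _
  let M : Submonoid C := ((RingHom.ker (MvPolynomial.map (σ := Fin n) (Ideal.Quotient.mk p'))).primeCompl.map
    (MvPolynomial.aeval a).toRingHom.toMonoidHom).map (algebraMap R C).toMonoidHom
  have hne : ∀ Q : MvPolynomial (Fin n) A,
      Q ∉ RingHom.ker (MvPolynomial.map (Ideal.Quotient.mk p')) ↔ ∃ m, Q.coeff m ∉ p' := fun Q => by
    rw [RingHom.mem_ker, MvPolynomial.ext_iff, not_forall]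
    simp only [MvPolynomial.coeff_map, MvPolynomial.coeff_zero, Ideal.Quotient.eq_zero_iff_mem]
  have hdisj : Disjoint (J : Set C) (M : Set C) := by
    rw [Set.disjoint_left]
    rintro _ hJ ⟨_, ⟨Q, hQ, rfl⟩, rfl⟩
    obtain ⟨i, y, hy, hyp, hyQ⟩ := hd' Q ((hne Q).mp hQ)
    refine hyQ ((Ideal.map_le_iff_le_comap.mpr ?_) hJ)
    exact le_of_eq (by rw [← hvA i]; exact hyp.symm)
  obtain ⟨y, hy, hJy, hdy⟩ := Ideal.exists_le_prime_disjoint J M hdisj
  haveI := hy
  refine ⟨⟨y.comap (algebraMap R C), Ideal.comap_isPrime _ _⟩, ?_, PrimeSpectrum.ext (le_antisymm ?_ ?_), ?_⟩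
  · calc y.comap (algebraMap R C) ≤ (IsLocalRing.maximalIdeal C).comap (algebraMap R C) :=
          Ideal.comap_mono (IsLocalRing.le_maximalIdeal hy.ne_top)
      _ = q := Localization.AtPrime.under_maximalIdeal
  · intro x hx
    by_contra hx'
    refine Set.disjoint_left.mp hdy (show algebraMap R C (algebraMap A R x) ∈ y from hx)
      ⟨algebraMap A R x, ⟨MvPolynomial.C x, (hne _).mpr ⟨0, by simpa using hx'⟩, MvPolynomial.aeval_C _ _⟩, rfl⟩
  · intro x hx
    show algebraMap R C (algebraMap A R x) ∈ y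
    rw [← IsScalarTower.algebraMap_apply]
    exact hJy (Ideal.mem_map_of_mem _ hx)
  · intro Q hQ hmem
    exact Set.disjoint_left.mp hdy (show algebraMap R C (MvPolynomial.aeval a Q) ∈ y from hmem)
      ⟨_, ⟨Q, (hne Q).mpr hQ, rfl⟩, rfl⟩

end Algebra

variable {X S : Scheme.{u}} (f : X ⟶ S)

/-- A chain of points in a fibre generizing `z` bounds the fibre dimension at `z` from below. -/
theorem length_le_fibreDimAt {k : ℕ} (pt : Fin (k + 1) → X) (z : X) (hfib : ∀ i, f (pt i) = f z)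
    (hz : ∀ i, pt i ⤳ z) (hpt : ∀ i j, i < j → pt j ⤳ pt i ∧ pt i ≠ pt j) :
    (k : WithBot ℕ∞) ≤ FlatMor.fibreDimAt f z := by
  rw [FibreDimScheme.fibreDimAt_eq]
  refine le_iInf fun O => ?_
  let w : Fin (k + 1) → ↥(f ⁻¹' {f z}) := fun i => ⟨pt i, hfib i⟩
  have hw : ∀ i, w i ∈ O.1 := fun i =>
    ((subtype_specializes_iff (w i) (⟨z, rfl⟩ : f ⁻¹' {f z})).mpr (hz i)).mem_open O.1.2 O.2
  haveI : T0Space ↥(f ⁻¹' {f z}) := Subtype.t0Space
  haveI : T0Space (O.1 : Set ↥(f ⁻¹' {f z})) := Subtype.t0Space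
  exact FibreDimScheme.length_le_topDim (fun i => (⟨w i, hw i⟩ : (O.1 : Set ↥(f ⁻¹' {f z})))) fun i j hij =>
    ⟨(subtype_specializes_iff _ _).mpr ((subtype_specializes_iff _ _).mpr (hpt i j hij).1),
      fun he => (hpt i j hij).2 (congrArg (fun x : (O.1 : Set ↥(f ⁻¹' {f z})) => x.1.1) he)⟩

/-- If all points over a generization `η` of `s` have fibre dimension at most `n`, so have those over `s`. -/
theorem fibreDimAt_le_of_generization [Flat f] [LocallyOfFiniteType f] {s η : S} (h : η ⤳ s) (n : ℕ)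
    (hle : ∀ x, f x = η → FlatMor.fibreDimAt f x ≤ n) (x : X) (hx : f x = s) :
    FlatMor.fibreDimAt f x ≤ n := by
  subst hx
  obtain ⟨_, ⟨V, hV, rfl⟩, hxV, -⟩ :=
    S.isBasis_affineOpens.exists_subset_of_mem_open (Set.mem_univ (f x)) isOpen_univ
  obtain ⟨_, ⟨U, hU, rfl⟩, hxU, hUV⟩ := X.isBasis_affineOpens.exists_subset_of_mem_open hxV (f ⁻¹ᵁ V).2
  replace hV : IsAffineOpen V := hV
  replace hU : IsAffineOpen U := hU
  algebraize [(f.appLE V U hUV).hom]
  have : Algebra.FiniteType Γ(S, V) Γ(X, U) := f.finiteType_appLE hV hU hUV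
  have : Module.Flat Γ(S, V) Γ(X, U) := Flat.flat_appLE f hV hU hUV
  have hcomm : ∀ Q : PrimeSpectrum Γ(X, U), f (hU.fromSpec Q) =
      hV.fromSpec (PrimeSpectrum.comap (algebraMap Γ(S, V) Γ(X, U)) Q) := fun Q =>
    (congr($(IsAffineOpen.SpecMap_appLE_fromSpec f hV hU hUV) Q)).symm
  obtain ⟨P, rfl⟩ : x ∈ Set.range hU.fromSpec := by rw [hU.range_fromSpec]; exact hxU
  obtain ⟨p', hp'⟩ : η ∈ Set.range hV.fromSpec := by rw [hV.range_fromSpec]; exact h.mem_open V.2 hxV
  set p := PrimeSpectrum.comap (algebraMap Γ(S, V) Γ(X, U)) P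
  have hle' : p'.asIdeal ≤ p.asIdeal := by
    refine (PrimeSpectrum.le_iff_specializes p' p).mpr (hV.fromSpec.isOpenEmbedding.isInducing.specializes_iff.mp ?_)
    rw [hp', ← hcomm P]; exact h
  rw [FibreDimScheme.fibreDimAt_eq]
  refine iInf_le_of_le ⟨⟨Subtype.val ⁻¹' (U : Set X), U.2.preimage continuous_subtype_val⟩, hxU⟩ ?_
  refine le_trans ?_ (FibreDimScheme.topDim_piece_le (A := Γ(S, V)) (1 : Γ(X, U)) p n fun l hl _ => ?_)
  · have hmem : ∀ w : (Subtype.val ⁻¹' (U : Set X) : Set ↥(f ⁻¹' {f (hU.fromSpec P)})),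
        ∃ Q, hU.fromSpec Q = w.1.1 := fun w => by
      have : w.1.1 ∈ Set.range hU.fromSpec := by rw [hU.range_fromSpec]; exact w.2
      exact this
    let back : (Subtype.val ⁻¹' (U : Set X) : Set ↥(f ⁻¹' {f (hU.fromSpec P)})) →
        {Q : PrimeSpectrum Γ(X, U) | PrimeSpectrum.comap (algebraMap Γ(S, V) Γ(X, U)) Q = p ∧
          (1 : Γ(X, U)) ∉ Q.asIdeal} := fun w =>
      ⟨(hmem w).choose, hV.fromSpec.isOpenEmbedding.injective
        ((hcomm _).symm.trans ((congrArg f (hmem w).choose_spec).trans (w.1.2.trans (hcomm P)))),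
        fun h1 => (hmem w).choose.isPrime.ne_top ((Ideal.eq_top_iff_one _).mpr h1)⟩
    refine IsInducing.topologicalKrullDim_le (f := back) ?_
    have hind : IsInducing (fun Q : {Q : PrimeSpectrum Γ(X, U) |
        PrimeSpectrum.comap (algebraMap Γ(S, V) Γ(X, U)) Q = p ∧ (1 : Γ(X, U)) ∉ Q.asIdeal} => hU.fromSpec Q.1) :=
      hU.fromSpec.isOpenEmbedding.isInducing.comp IsInducing.subtypeVal
    refine (hind.of_comp_iff (f := back)).mp ?_
    have : (fun Q => hU.fromSpec Q.1) ∘ back = Subtype.val ∘ Subtype.val := funext fun w => (hmem w).choose_spec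
    rw [this]
    exact IsInducing.subtypeVal.comp IsInducing.subtypeVal
  obtain ⟨a, ha⟩ := DimSpec.exists_indep_of_chain p.asIdeal l hl
  obtain ⟨q', -, hq', ha'⟩ := indep_of_flat p.asIdeal p'.asIdeal hle' l.head.asIdeal
    (congrArg PrimeSpectrum.asIdeal (hl 0)) a ha
  obtain ⟨L, hLlen, hL⟩ := DimSpec.exists_chain_of_indep p'.asIdeal q' hq' a ha'
  have hfib : ∀ j, f (hU.fromSpec (L j)) = η := fun j => by
    rw [hcomm, (hL j).2]; exact hp'
  have h2 := (length_le_fibreDimAt f (fun i => hU.fromSpec (L i.rev)) (hU.fromSpec L.last)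
    (fun i => (hfib _).trans (hfib _).symm)
    (fun i => ((PrimeSpectrum.le_iff_specializes _ _).mp (L.monotone (Fin.le_last _))).map
      hU.fromSpec.continuous) fun i j hij => by
      have h1 := L.strictMono (Fin.rev_lt_rev.mpr hij)
      exact ⟨((PrimeSpectrum.le_iff_specializes _ _).mp h1.le).map hU.fromSpec.continuous,
        fun he => h1.ne (hU.fromSpec.isOpenEmbedding.injective he.symm)⟩).trans (hle _ (hfib _))
  rw [hLlen] at h2
  exact_mod_cast h2

end Groth.Agent.FlatMisc.FlatFibreDimGen
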