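import Groth.Agent.FlatMisc.GenericFreeLoc
import Groth.Agent.LocFlat.Basic
import Groth.Agent.CAlg48.SepGen
import Groth.Agent.FBase.Point
import Groth.Agent.AGFHull.Reduced
import Groth.Agent.FlatDVR.Main
import Mathlib.RingTheory.Smooth.Locus
import Mathlib.RingTheory.Localization.BaseChange
import Mathlib.RingTheory.Flat.Stability

/-! Geometrically reduced generic fibre spreads out. -/

set_option autoImplicit false

universe u

open TensorProduct

namespace Groth.Agent.FlatMisc.GeomRedSpread

variable {A B : Type u} [CommRing A] [IsDomain A] [CommRing B] [Algebra A B]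

attribute [local instance] Algebra.TensorProduct.rightAlgebra in
/-- An element which is a nonzerodivisor and whose complement is smooth. -/
theorem exists_smooth_away [Algebra.FinitePresentation A B] [Module.Flat A B]
    (h : _root_.IsReduced (AlgebraicClosure (FractionRing A) ⊗[A] B)) :
    ∃ b : B, (∀ x, b * x = 0 → x = 0) ∧ Algebra.Smooth A (Localization.Away b) := by
  classical
  let K := FractionRing A
  let L := B ⊗[A] K
  let M : Submonoid B := Algebra.algebraMapSubmonoid B (nonZeroDivisors A)
  have hloc : IsLocalization M L := IsLocalization.tensor _ (nonZeroDivisors A)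
  have : Algebra.IsGeometricallyReduced K (K ⊗[A] B) := by
    rw [Algebra.isGeometricallyReduced_field_iff]
    exact isReduced_of_injective (Algebra.TensorProduct.cancelBaseChange A K K (AlgebraicClosure K) B)
      (Algebra.TensorProduct.cancelBaseChange A K K (AlgebraicClosure K) B).injective
  let e : L ≃ₐ[K] K ⊗[A] B :=
    AlgEquiv.ofRingEquiv (f := (Algebra.TensorProduct.comm A B K).toRingEquiv) fun k => by
      show (Algebra.TensorProduct.comm A B K) ((1 : B) ⊗ₜ[A] k) = k ⊗ₜ[A] (1 : B)
      rfl
  have : Algebra.IsGeometricallyReduced K L :=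
    Algebra.IsGeometricallyReduced.of_injective e.toAlgHom e.injective
  have : Algebra.FiniteType K L := Algebra.FiniteType.equiv (inferInstanceAs (Algebra.FiniteType K (K ⊗[A] B))) e.symm
  have : IsNoetherianRing L := Algebra.FiniteType.isNoetherianRing K L
  have : _root_.IsReduced L := Algebra.isReduced_of_isGeometricallyReduced K
  have : IsScalarTower A K L := IsScalarTower.of_algebraMap_eq fun a => by
    show algebraMap A (B ⊗[A] K) a = Algebra.TensorProduct.includeRight (algebraMap A K a)
    exact (AlgHom.commutes (Algebra.TensorProduct.includeRight : K →ₐ[A] B ⊗[A] K) a).symm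
  have : Algebra.FormallySmooth A K := Algebra.FormallySmooth.of_isLocalization (nonZeroDivisors A)
  have hsm : ∀ P : Ideal L, P ∈ minimalPrimes L →
      ∃ Q : PrimeSpectrum B, Q.asIdeal = P.comap (algebraMap B L) ∧ Q ∈ Algebra.smoothLocus A B := by
    intro P hP
    have hPp : P.IsPrime := hP.1.1
    refine ⟨⟨P.comap (algebraMap B L), inferInstance⟩, rfl, ?_⟩
    let T := Localization.AtPrime P
    letI : Field T := (Groth.Agent.FlatDVR.isField_localization_minimal P hP).toField
    have : Algebra.EssFiniteType L T := Algebra.EssFiniteType.of_isLocalization T P.primeCompl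
    have : Algebra.EssFiniteType K T := Algebra.EssFiniteType.comp K L T
    have : Algebra.IsGeometricallyReduced K T :=
      Groth.Agent.FBase.Point.isGeometricallyReduced_of_isLocalization P.primeCompl T
    have : Algebra.FormallySmooth K T := Groth.Agent.CAlg48.SepGen.formallySmooth K T
    have : Algebra.FormallySmooth A T := Algebra.FormallySmooth.comp A K T
    have : IsLocalization.AtPrime T (P.comap (algebraMap B L)) :=
      IsLocalization.isLocalization_isLocalization_atPrime_isLocalization M _ P
    show Algebra.FormallySmooth A (Localization.AtPrime (P.comap (algebraMap B L)))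
    exact Algebra.FormallySmooth.of_equiv
      ((IsLocalization.algEquiv (P.comap (algebraMap B L)).primeCompl T _).restrictScalars A)
  obtain ⟨J, hJ⟩ : ∃ J : Ideal B, (Algebra.smoothLocus A B)ᶜ = PrimeSpectrum.zeroLocus (J : Set B) := by
    obtain ⟨J, hJ⟩ := (PrimeSpectrum.isClosed_iff_zeroLocus_ideal _).mp
      (Algebra.isOpen_smoothLocus (R := A) (A := B)).isClosed_compl
    exact ⟨J, hJ⟩
  have hfin : (minimalPrimes L).Finite := minimalPrimes.finite_of_isNoetherianRing L
  obtain ⟨b, hbJ, hb⟩ : ∃ b ∈ J, ∀ P ∈ minimalPrimes L, algebraMap B L b ∉ P := by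
    by_contra hcon
    push Not at hcon
    have hsub : (J : Set B) ⊆ ⋃ P ∈ (hfin.toFinset : Set (Ideal L)),
        (P.comap (algebraMap B L) : Set B) := fun x hx => by
      obtain ⟨P, hP, hxP⟩ := hcon x hx
      exact Set.mem_biUnion (hfin.mem_toFinset.mpr hP) hxP
    obtain ⟨P, hP, hJP⟩ := (Ideal.subset_union_prime (f := fun P : Ideal L => P.comap (algebraMap B L))
      ⊥ ⊥ (fun P hP _ _ => by
        have : P.IsPrime := (hfin.mem_toFinset.mp hP).1.1
        exact inferInstance)).mp hsub
    obtain ⟨Q, hQ, hQs⟩ := hsm P (hfin.mem_toFinset.mp hP)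
    have : Q ∈ (Algebra.smoothLocus A B)ᶜ := by
      rw [hJ, PrimeSpectrum.mem_zeroLocus, hQ]
      exact hJP
    exact this hQs
  refine ⟨b, fun x hx => ?_, ?_⟩
  · have h1 : algebraMap B L x = 0 := by
      have hnil : algebraMap B L x ∈ nilradical L := by
        rw [nilradical, ← Ideal.sInf_minimalPrimes, Ideal.mem_sInf]
        intro P hP
        refine (hP.1.1.mem_or_mem (x := algebraMap B L b) ?_).resolve_left (hb P hP)
        rw [← map_mul, hx, map_zero]
        exact P.zero_mem
      rwa [nilradical_eq_zero, Submodule.zero_eq_bot, Ideal.mem_bot] at hnil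
    obtain ⟨⟨_, a, ha, rfl⟩, hax⟩ := (IsLocalization.map_eq_zero_iff M L x).mp h1
    have hinj : Function.Injective (fun y : B => a • y) :=
      Module.Flat.isSMulRegular_of_nonZeroDivisors ha
    exact hinj (by simp only [smul_zero]; rw [Algebra.smul_def]; exact hax)
  · refine Algebra.basicOpen_subset_smoothLocus_iff_smooth.mp fun Q hQ => ?_
    by_contra hQs
    have : Q ∈ (Algebra.smoothLocus A B)ᶜ := hQs
    rw [hJ, PrimeSpectrum.mem_zeroLocus] at this
    exact hQ (this hbJ)

theorem exists_reduced_fibres [Algebra.FinitePresentation A B] [Module.Flat A B]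
    (h : _root_.IsReduced (AlgebraicClosure (FractionRing A) ⊗[A] B)) :
    ∃ a : A, a ≠ 0 ∧ ∀ (κ : Type u) [Field κ] [Algebra A κ], algebraMap A κ a ≠ 0 →
      _root_.IsReduced (κ ⊗[A] B) := by
  obtain ⟨b, hb, hsmooth⟩ := exists_smooth_away h
  obtain ⟨a, -, ha, hQ⟩ := GenericFree.genFree (R := A) B (B ⧸ Ideal.span {b}) 1 one_ne_zero
  refine ⟨a, ha, fun κ _ _ haκ => ?_⟩
  let Aa := Localization.Away a
  let μ : B →ₗ[A] B := LinearMap.mulLeft A b
  let π : B →ₗ[A] B ⧸ Ideal.span {b} := (Ideal.Quotient.mkₐ A _).toLinearMap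
  have hex : Function.Exact μ π := fun y => by
    show Ideal.Quotient.mk _ y = 0 ↔ _
    rw [Ideal.Quotient.eq_zero_iff_mem, Ideal.mem_span_singleton']
    exact ⟨fun ⟨c, hc⟩ => ⟨c, by simpa [μ, mul_comm] using hc⟩,
      fun ⟨c, hc⟩ => ⟨c, by simpa [μ, mul_comm] using hc⟩⟩
  have hπ : Function.Surjective π := Ideal.Quotient.mk_surjective
  have : Module.Flat A Aa := IsLocalization.flat Aa (Submonoid.powers a)
  have : Module.Free Aa (Aa ⊗[A] (B ⧸ Ideal.span {b})) := hQ.free_tensor
  have : Module.Flat A (Aa ⊗[A] (B ⧸ Ideal.span {b})) := Module.Flat.trans A Aa _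
  have hinj := LocFlat.lTensor_injective_of_flat_coker (μ.lTensor Aa) (π.lTensor Aa)
    (lTensor_exact Aa hex hπ) (LinearMap.lTensor_surjective Aa hπ)
    (Module.Flat.lTensor_preserves_injective_linearMap μ ((injective_iff_map_eq_zero μ).mpr hb)) κ
  let φ : Aa →ₐ[A] κ := IsLocalization.liftAlgHom (M := Submonoid.powers a) (f := Algebra.ofId A κ) fun y => by
    obtain ⟨n, hn⟩ := y.2
    show IsUnit (algebraMap A κ y.1)
    rw [← hn, map_pow]
    exact (isUnit_iff_ne_zero.mpr haκ).pow n
  let ι : κ ⊗[A] B →ₗ[A] κ ⊗[A] (Aa ⊗[A] B) := (TensorProduct.mk A Aa B 1).lTensor κ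
  let r : κ ⊗[A] (Aa ⊗[A] B) →ₗ[A] κ ⊗[A] B :=
    ((LinearMap.mul' A κ) ∘ₗ (φ.toLinearMap.lTensor κ)).rTensor B ∘ₗ (TensorProduct.assoc A κ Aa B).symm.toLinearMap
  have hr : ∀ z, r (ι z) = z := fun z => by
    induction z using TensorProduct.induction_on with
    | zero => simp
    | tmul k x => simp [r, ι]
    | add x y hx hy => rw [map_add, map_add, hx, hy]
  let g : κ ⊗[A] B := (1 : κ) ⊗ₜ b
  have hg : ∀ z : κ ⊗[A] B, g * z = 0 → z = 0 := by
    intro z hz
    have h1 : ∀ z, μ.lTensor κ z = g * z := fun z => by
      induction z using TensorProduct.induction_on with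
      | zero => simp
      | tmul k x => simp [μ, g]
      | add x y hx hy => rw [map_add, hx, hy, mul_add]
    have h2 : (μ.lTensor Aa).lTensor κ (ι z) = ι (μ.lTensor κ z) := by
      simp only [ι, ← LinearMap.comp_apply, ← LinearMap.lTensor_comp]
      congr 2
    rw [h1, hz, map_zero] at h2
    have h3 := hinj (h2.trans (map_zero _).symm)
    have h4 := congrArg r h3
    rwa [hr, map_zero] at h4
  -- the localised fibre is smooth
  have := hsmooth
  have : _root_.IsReduced (κ ⊗[A] Localization.Away b) :=
    Groth.Agent.AGFHull.isReduced_of_smooth κ _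
  let ρ : κ ⊗[A] B →ₐ[A] κ ⊗[A] Localization.Away b :=
    Algebra.TensorProduct.map (AlgHom.id A κ) (IsScalarTower.toAlgHom A B (Localization.Away b))
  refine isReduced_of_injective ρ ((injective_iff_map_eq_zero ρ).mpr fun z hz => ?_)
  -- kernel consists of `b`-power torsion
  let w : B ⊗[A] κ := TensorProduct.comm A κ B z
  let gw : B →ₗ[B] Localization.Away b := Algebra.linearMap B (Localization.Away b)
  have hw : AlgebraTensorModule.rTensor A κ gw w = 0 := by
    have h1 : ∀ y : κ ⊗[A] B, AlgebraTensorModule.rTensor A κ gw (TensorProduct.comm A κ B y) =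
        TensorProduct.comm A κ (Localization.Away b) (ρ y) := fun y => by
      induction y using TensorProduct.induction_on with
      | zero => simp
      | tmul k x => simp [ρ, gw]
      | add x y hx hy => simp only [map_add, hx, hy]
    rw [h1 z, hz, map_zero]
  obtain ⟨⟨_, n, rfl⟩, hn⟩ := (IsLocalizedModule.eq_zero_iff (Submonoid.powers b)
    (AlgebraTensorModule.rTensor A κ gw)).mp hw
  have hn' : g ^ n * z = 0 := by
    have h1 : ∀ y : κ ⊗[A] B, TensorProduct.comm A κ B (g ^ n * y) =
        b ^ n • (TensorProduct.comm A κ B y) := fun y => by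
      rw [show g ^ n = (1 : κ) ⊗ₜ[A] (b ^ n) by simp [g, Algebra.TensorProduct.tmul_pow]]
      induction y using TensorProduct.induction_on with
      | zero => simp
      | tmul k x => simp [TensorProduct.smul_tmul']
      | add x y hx hy => simp only [mul_add, map_add, smul_add, hx, hy]
    refine (TensorProduct.comm A κ B).injective ?_
    rw [h1, map_zero]
    exact hn
  clear hn
  induction n with
  | zero => simpa using hn'
  | succ n ih => exact ih (hg _ (by rw [← mul_assoc, ← pow_succ']; exact hn'))

end Groth.Agent.FlatMisc.GeomRedSpread
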