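import Groth.Agent.FlatMor.DVRFlat
import Mathlib.AlgebraicGeometry.Morphisms.Flat
import Mathlib.AlgebraicGeometry.Morphisms.Proper
import Mathlib.RingTheory.Filtration
import Mathlib.RingTheory.FiniteType
import Mathlib.RingTheory.Spectrum.Prime.Topology

/-! Flat schemes over a discrete valuation ring with reduced special fibre. -/

set_option autoImplicit false

universe u

open AlgebraicGeometry CategoryTheory Limits

namespace Groth.Agent.FlatMisc.DVRRed

section Algebra

variable {A : Type*} [CommRing A] {π : A}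

theorem eq_zero_of_pow_mul (hπ : ∀ a : A, π * a = 0 → a = 0) {n : ℕ} {a : A}
    (h : π ^ n * a = 0) : a = 0 := by
  induction n with
  | zero => simpa using h
  | succ n ih => rw [pow_succ', mul_assoc] at h; exact ih (hπ _ h)

/-- Nilpotents vanish near the special fibre. -/
theorem exists_mul_eq_zero [IsNoetherianRing A] (hπ : ∀ a : A, π * a = 0 → a = 0)
    (hred : _root_.IsReduced (A ⧸ Ideal.span {π})) {q : Ideal A} [q.IsPrime] (hq : π ∈ q)
    {a : A} (ha : IsNilpotent a) : ∃ s ∉ q, s * a = 0 := by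
  have key : ∀ n : ℕ, ∃ b, IsNilpotent b ∧ a = π ^ n * b := by
    intro n
    induction n with
    | zero => exact ⟨a, ha, by simp⟩
    | succ n ih =>
      obtain ⟨b, hb, hab⟩ := ih
      have : Ideal.Quotient.mk (Ideal.span {π}) b = 0 := hred.eq_zero _ (hb.map _)
      obtain ⟨c, rfl⟩ := Ideal.mem_span_singleton'.mp (Ideal.Quotient.eq_zero_iff_mem.mp this)
      obtain ⟨N, hN⟩ := hb
      refine ⟨c, ⟨N, eq_zero_of_pow_mul hπ (n := N) ?_⟩, by rw [hab]; ring⟩
      rw [← mul_pow, mul_comm, hN]
  have hmem : a ∈ ⨅ i : ℕ, (Ideal.span {π}) ^ i • (⊤ : Submodule A A) := by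
    rw [Submodule.mem_iInf]
    intro i
    obtain ⟨b, -, hab⟩ := key i
    rw [hab, ← smul_eq_mul]
    exact Submodule.smul_mem_smul (Ideal.pow_mem_pow (Ideal.mem_span_singleton_self π) i) trivial
  obtain ⟨⟨r, hr⟩, hra⟩ := (Ideal.mem_iInf_smul_pow_eq_bot_iff (Ideal.span {π}) a).mp hmem
  refine ⟨1 - r, fun h => ‹q.IsPrime›.ne_top ((Ideal.eq_top_iff_one _).mpr ?_), ?_⟩
  · have : r ∈ q := (Ideal.span_singleton_le_iff_mem _).mpr hq hr
    simpa using q.add_mem h this
  · simp only [smul_eq_mul] at hra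
    rw [sub_mul, one_mul, hra, sub_self]

/-- Idempotents of `A[1/π]` come from `A`. -/
theorem exists_idempotent (hπ : ∀ a : A, π * a = 0 → a = 0)
    (hred : _root_.IsReduced (A ⧸ Ideal.span {π})) (n : ℕ) {a : A} (ha : a * a = π ^ n * a) :
    ∃ e : A, e * e = e ∧ a = π ^ n * e := by
  induction n generalizing a with
  | zero => exact ⟨a, by simpa using ha, by simp⟩
  | succ n ih =>
    have : Ideal.Quotient.mk (Ideal.span {π}) a = 0 := by
      refine hred.eq_zero _ ⟨2, ?_⟩
      rw [← map_pow, pow_two, ha, Ideal.Quotient.eq_zero_iff_mem, pow_succ', mul_assoc]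
      exact Ideal.mul_mem_right _ _ (Ideal.mem_span_singleton_self π)
    obtain ⟨b, rfl⟩ := Ideal.mem_span_singleton'.mp (Ideal.Quotient.eq_zero_iff_mem.mp this)
    obtain ⟨e, he, hbe⟩ := ih (a := b) (sub_eq_zero.mp (eq_zero_of_pow_mul hπ (n := 2) (by
      linear_combination ha)))
    exact ⟨e, he, by rw [hbe]; ring⟩

end Algebra

variable {R : Type u} [CommRing R] [IsDomain R] [IsDiscreteValuationRing R] {X : Scheme.{u}}
  (f : X ⟶ Spec (CommRingCat.of R))

theorem mem_iff_eq_closedPoint {ϖ : R} (hϖ : Irreducible ϖ) (p : PrimeSpectrum R) :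
    ϖ ∈ p.asIdeal ↔ p = IsLocalRing.closedPoint R := by
  have hm : IsLocalRing.maximalIdeal R = Ideal.span {ϖ} :=
    (IsDiscreteValuationRing.irreducible_iff_uniformizer ϖ).mp hϖ
  refine ⟨fun h => PrimeSpectrum.ext (le_antisymm (IsLocalRing.le_maximalIdeal p.isPrime.ne_top) ?_),
    fun h => ?_⟩
  · show IsLocalRing.maximalIdeal R ≤ p.asIdeal
    rw [hm, Ideal.span_singleton_le_iff_mem]; exact h
  · subst h
    show ϖ ∈ IsLocalRing.maximalIdeal R
    rw [hm]; exact Ideal.mem_span_singleton_self ϖ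

/-- The ring-theoretic content of the hypotheses on an affine chart. -/
theorem chart [Flat f] (hred : IsReduced (f.fiber (IsLocalRing.closedPoint R))) {A : CommRingCat.{u}}
    (j : Spec A ⟶ X) [IsOpenImmersion j] {ϖ : R} (hϖ : Irreducible ϖ) :
    ∃ φ : CommRingCat.of R ⟶ A, Spec.map φ = j ≫ f ∧
      (∀ a : A, φ.hom ϖ * a = 0 → a = 0) ∧ _root_.IsReduced (A ⧸ Ideal.span {φ.hom ϖ}) := by
  obtain ⟨φ, hg⟩ := Spec.map_surjective (j ≫ f)
  refine ⟨φ, hg, ?_, ?_⟩
  · have hfl : Flat (Spec.map φ) := by rw [hg]; infer_instance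
    rw [HasRingHomProperty.Spec_iff (P := @Flat)] at hfl
    letI := φ.hom.toAlgebra
    have : Module.Flat R A := hfl
    intro a ha
    have h : Function.Injective (fun a : A => ϖ • a) :=
      Module.Flat.isSMulRegular_of_nonZeroDivisors (mem_nonZeroDivisors_of_ne_zero hϖ.ne_zero)
    exact h (show ϖ • a = ϖ • (0 : A) by rw [smul_zero, Algebra.smul_def]; exact ha)
  · letI := φ.hom.toAlgebra
    have hred' : IsReduced ((Spec.map φ).fiber (IsLocalRing.closedPoint R)) := by
      rw [hg]
      exact @isReduced_of_isOpenImmersion _ _ (pullbackRightPullbackFstIso f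
        ((Spec (CommRingCat.of R)).fromSpecResidueField (IsLocalRing.closedPoint R))
        j).inv _ (@isReduced_of_isOpenImmersion _ _ (pullback.snd _ _) _ hred)
    have : (IsLocalRing.closedPoint R).asIdeal.IsMaximal := IsLocalRing.maximalIdeal.isMaximal R
    have hq := FlatMor.DVRFlat.isReduced_quotient_of_fiber (R := R) (A := A)
      (IsLocalRing.closedPoint R) hred'
    have hm : (IsLocalRing.closedPoint R).asIdeal = Ideal.span {ϖ} :=
      (IsDiscreteValuationRing.irreducible_iff_uniformizer ϖ).mp hϖ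
    rw [hm, Ideal.map_span, Set.image_singleton] at hq
    exact hq

theorem isReduced_of_proper [IsProper f] [Flat f]
    (hred : IsReduced (f.fiber (IsLocalRing.closedPoint R))) : IsReduced X := by
  obtain ⟨ϖ, hϖ⟩ := IsDiscreteValuationRing.exists_irreducible R
  have (x : X) : _root_.IsReduced (X.presheaf.stalk x) := by
    obtain ⟨y, hxy, hy⟩ : ∃ y, x ⤳ y ∧ f y = IsLocalRing.closedPoint R := by
      have hc : IsClosed (f '' closure {x}) := f.isClosedMap _ isClosed_closure
      obtain ⟨y, hy, hy'⟩ := hc.stableUnderSpecialization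
        (IsLocalRing.specializes_closedPoint (f x)) ⟨x, subset_closure rfl, rfl⟩
      exact ⟨y, specializes_iff_mem_closure.mpr hy, hy'⟩
    obtain ⟨i, p, hp⟩ : ∃ (i : X.affineOpenCover.I₀) (p : Spec (X.affineOpenCover.X i)),
      X.affineOpenCover.f i p = y := X.affineOpenCover.openCover.exists_eq y
    let j := X.affineOpenCover.f i
    obtain ⟨φ, hg, hπ, hq⟩ := chart f hred j hϖ
    obtain ⟨q, rfl⟩ : x ∈ Set.range j :=
      hxy.mem_open j.opensRange.2 ⟨p, hp⟩
    have hle : q.asIdeal ≤ p.asIdeal := by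
      have : q ⤳ p := j.isOpenEmbedding.isInducing.specializes_iff.mp (by rwa [← hp] at hxy)
      exact (PrimeSpectrum.le_iff_specializes q p).mpr this
    have hπp : φ.hom ϖ ∈ p.asIdeal := by
      have : (Spec.map φ) p = IsLocalRing.closedPoint R := by
        rw [hg, Scheme.Hom.comp_apply]; exact (congrArg f hp).trans hy
      exact ((mem_iff_eq_closedPoint hϖ _).mpr this :)
    letI := φ.hom.toAlgebra
    have : Algebra.FiniteType R (X.affineOpenCover.X i) := by
      have h : LocallyOfFiniteType (Spec.map φ) := by rw [hg]; infer_instance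
      rw [HasRingHomProperty.Spec_iff (P := @LocallyOfFiniteType)] at h
      exact h
    have : IsNoetherianRing (X.affineOpenCover.X i) := Algebra.FiniteType.isNoetherianRing R _
    have hloc : _root_.IsReduced (Localization.AtPrime q.asIdeal) := by
      refine ⟨fun z hz => ?_⟩
      obtain ⟨a, s, rfl⟩ := IsLocalization.exists_mk'_eq q.asIdeal.primeCompl z
      obtain ⟨N, hN⟩ := hz
      rw [← IsLocalization.mk'_pow, IsLocalization.mk'_eq_zero_iff] at hN
      obtain ⟨⟨t, ht⟩, htN⟩ := hN
      obtain ⟨u, hu, hu'⟩ := exists_mul_eq_zero hπ hq (q := p.asIdeal) hπp (a := t * a)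
        ⟨N + 1, by
          calc (t * a) ^ (N + 1) = t ^ N * a * (t * a ^ N) := by ring
            _ = 0 := by rw [show t * a ^ N = 0 from htN, mul_zero]⟩
      rw [IsLocalization.mk'_eq_zero_iff]
      exact ⟨⟨u * t, q.isPrime.mul_notMem (fun h => hu (hle h)) ht⟩, by rw [mul_assoc]; exact hu'⟩
    have : _root_.IsReduced ((Spec (X.affineOpenCover.X i)).presheaf.stalk q) :=
      isReduced_of_injective (Spec.stalkIso _ q).commRingCatIsoToRingEquiv
        (Spec.stalkIso _ q).commRingCatIsoToRingEquiv.injective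
    exact isReduced_of_injective (asIso (j.stalkMap q)).commRingCatIsoToRingEquiv.toRingHom
      (RingEquiv.injective _)
  exact isReduced_of_isReduced_stalk X

theorem isReduced_generic_fiber [IsReduced X] :
    IsReduced (f.fiber (⟨⊥, Ideal.isPrime_bot⟩ : PrimeSpectrum R)) := by
  have hη : (⟨⊥, Ideal.isPrime_bot⟩ : PrimeSpectrum R) = genericPoint (Spec (CommRingCat.of R)) :=
    (genericPoint_eq_bot_of_affine (CommRingCat.of R)).symm
  rw [hη]
  generalize hη' : genericPoint (Spec (CommRingCat.of R)) = η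
  obtain ⟨ϖ, hϖ⟩ := IsDiscreteValuationRing.exists_irreducible R
  have : IsOpenImmersion ((Spec (CommRingCat.of R)).fromSpecResidueField η) := by
    subst hη'
    set ι := (Spec (CommRingCat.of R)).fromSpecResidueField (genericPoint (Spec (CommRingCat.of R)))
    have hrange : IsOpen (Set.range ι) := by
      rw [Scheme.range_fromSpecResidueField]
      suffices h : ({genericPoint (Spec (CommRingCat.of R))} : Set (Spec (CommRingCat.of R))) =
          SetLike.coe (PrimeSpectrum.basicOpen ϖ) by rw [h]; exact (PrimeSpectrum.basicOpen ϖ).2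
      ext p
      refine ⟨?_, fun h => ?_⟩
      · rintro rfl h
        rw [genericPoint_eq_bot_of_affine] at h
        exact hϖ.ne_zero (by simpa using h)
      · rw [Set.mem_singleton_iff, genericPoint_eq_bot_of_affine]
        refine PrimeSpectrum.ext ?_
        by_contra hne
        exact h ((mem_iff_eq_closedPoint hϖ p).mpr (PrimeSpectrum.ext
          (IsLocalRing.eq_maximalIdeal (Ring.DimensionLEOne.maximalOfPrime hne p.isPrime))))
    rw [IsOpenImmersion.iff_isIso_stalkMap]
    refine ⟨⟨ι.isEmbedding, hrange⟩, fun z => ?_⟩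
    have hz : ι z = genericPoint (Spec (CommRingCat.of R)) := by
      have := Set.mem_range_self (f := ι) z
      rw [Scheme.range_fromSpecResidueField] at this
      exact this
    have : IsField ((Spec (CommRingCat.of R)).presheaf.stalk (ι z)) := by
      rw [hz]
      exact Field.toIsField (Spec (CommRingCat.of R)).functionField
    letI := this.toField
    refine (ConcreteCategory.isIso_iff_bijective _).mpr ⟨?_, ι.stalkMap_surjective z⟩
    exact (ι.stalkMap z).hom.injective
  have : IsOpenImmersion (pullback.fst f ((Spec (CommRingCat.of R)).fromSpecResidueField η)) :=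
    MorphismProperty.pullback_fst (P := @IsOpenImmersion) _ _ this
  exact @isReduced_of_isOpenImmersion _ _ _ this ‹IsReduced X›

theorem exists_generization [Flat f] (x : X) :
    ∃ y, y ⤳ x ∧ f y = (⟨⊥, Ideal.isPrime_bot⟩ : PrimeSpectrum R) := by
  refine Flat.generalizingMap f ?_
  exact (PrimeSpectrum.le_iff_specializes _ _).mp bot_le

theorem isPreconnected_generic [Flat f] [ConnectedSpace X]
    (hred : IsReduced (f.fiber (IsLocalRing.closedPoint R))) :
    _root_.IsPreconnected (f ⁻¹' {(⟨⊥, Ideal.isPrime_bot⟩ : PrimeSpectrum R)}) := by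
  obtain ⟨ϖ, hϖ⟩ := IsDiscreteValuationRing.exists_irreducible R
  set η : PrimeSpectrum R := ⟨⊥, Ideal.isPrime_bot⟩
  intro u v hu hv hcov hune hvne
  by_contra hemp
  rw [Set.not_nonempty_iff_eq_empty] at hemp
  let S := f ⁻¹' {η}
  -- every point has a neighbourhood missing one of the two pieces
  have key : ∀ x : X, ∃ W : Set X, IsOpen W ∧ x ∈ W ∧ (W ∩ (S ∩ u) = ∅ ∨ W ∩ (S ∩ v) = ∅) := by
    intro x
    obtain ⟨i, p, hp⟩ : ∃ (i : X.affineOpenCover.I₀) (p : Spec (X.affineOpenCover.X i)),
      X.affineOpenCover.f i p = x := X.affineOpenCover.openCover.exists_eq x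
    let j := X.affineOpenCover.f i
    obtain ⟨φ, hg, hπ, hq⟩ := chart f hred j hϖ
    let A := X.affineOpenCover.X i
    let Aπ := Localization.Away (φ.hom ϖ)
    have hmem : ∀ q : PrimeSpectrum A, f (j q) = η ↔ φ.hom ϖ ∉ q.asIdeal := by
      intro q
      have : f (j q) = (Spec.map φ) q := by rw [hg, Scheme.Hom.comp_apply]
      rw [this]
      constructor
      · intro h h'
        have h2 : ϖ ∈ ((Spec.map φ) q).asIdeal := h'
        rw [h] at h2
        exact hϖ.ne_zero (by simpa [η] using h2)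
      · intro h
        refine PrimeSpectrum.ext ?_
        by_contra hne
        exact h ((mem_iff_eq_closedPoint hϖ ((Spec.map φ) q)).mpr (PrimeSpectrum.ext
          (IsLocalRing.eq_maximalIdeal
            (Ring.DimensionLEOne.maximalOfPrime hne ((Spec.map φ) q).isPrime))) :)
    let g := PrimeSpectrum.comap (algebraMap A Aπ)
    have hgmem : ∀ q', f (j (g q')) = η := fun q' => (hmem _).mpr fun h =>
      q'.isPrime.ne_top (Ideal.eq_top_of_isUnit_mem _ h (IsLocalization.Away.algebraMap_isUnit _))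
    have hjg : Continuous (fun q' => j (g q')) :=
      j.continuous.comp (PrimeSpectrum.continuous_comap _)
    have hclopen : IsClopen ((fun q' => j (g q')) ⁻¹' u) := by
      refine ⟨?_, hu.preimage hjg⟩
      have : (fun q' => j (g q')) ⁻¹' u = ((fun q' => j (g q')) ⁻¹' v)ᶜ := by
        ext q'
        refine ⟨fun h h' => ?_, fun h => ?_⟩
        · have hh : j (g q') ∈ S ∩ (u ∩ v) := ⟨hgmem q', h, h'⟩
          rw [hemp] at hh
          exact hh
        · exact (hcov (hgmem q')).resolve_right h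
      rw [this]
      exact (hv.preimage hjg).isClosed_compl
    obtain ⟨e₀, he₀, hu₀⟩ := PrimeSpectrum.isClopen_iff.mp hclopen
    obtain ⟨n, a, ha⟩ := IsLocalization.Away.surj (φ.hom ϖ) e₀
    obtain ⟨e, he, hae⟩ := exists_idempotent hπ hq n (a := a) (by
      have h0 : algebraMap A Aπ (a * a) = algebraMap A Aπ (φ.hom ϖ ^ n * a) := by
        rw [map_mul, map_mul, map_pow, ← ha]
        linear_combination (algebraMap A Aπ (φ.hom ϖ) ^ n) ^ 2 * he₀.eq
      obtain ⟨⟨_, k, rfl⟩, hk⟩ := (IsLocalization.eq_iff_exists (Submonoid.powers (φ.hom ϖ)) Aπ).mp h0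
      exact sub_eq_zero.mp (eq_zero_of_pow_mul hπ (n := k) (by rw [mul_sub, sub_eq_zero]; exact hk)))
    have hee : algebraMap A Aπ e = e₀ := by
      rw [hae, map_mul, map_pow, mul_comm] at ha
      exact (((IsLocalization.Away.algebraMap_isUnit (S := Aπ) (φ.hom ϖ)).pow n).mul_left_cancel ha).symm
    have hiff : ∀ q : PrimeSpectrum A, j q ∈ S → (j q ∈ u ↔ e ∉ q.asIdeal) := by
      intro q hq'
      obtain ⟨q', rfl⟩ : q ∈ Set.range g := by
        rw [PrimeSpectrum.localization_away_comap_range Aπ (φ.hom ϖ)]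
        exact (hmem q).mp hq'
      have := Set.ext_iff.mp hu₀ q'
      rw [Set.mem_preimage] at this
      rw [this, ← hee]
      rfl
    have hopen : ∀ c : A, IsOpen (j '' {q : PrimeSpectrum A | c ∉ q.asIdeal}) := fun c =>
      j.isOpenEmbedding.isOpenMap _ (PrimeSpectrum.basicOpen c).2
    by_cases hpe : e ∈ p.asIdeal
    · refine ⟨_, hopen (1 - e), ⟨p, fun h => p.isPrime.ne_top ((Ideal.eq_top_iff_one _).mpr
        (by simpa using p.asIdeal.add_mem h hpe)), hp⟩, Or.inl ?_⟩
      rw [Set.eq_empty_iff_forall_notMem]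
      rintro _ ⟨⟨q, hq₁, rfl⟩, hS, hqu⟩
      have hne := (hiff q hS).mp hqu
      exact hq₁ ((q.isPrime.mem_or_mem (show e * (1 - e) ∈ q.asIdeal by
        rw [mul_sub, mul_one, he, sub_self]; exact q.asIdeal.zero_mem)).resolve_left hne)
    · refine ⟨_, hopen e, ⟨p, hpe, hp⟩, Or.inr ?_⟩
      rw [Set.eq_empty_iff_forall_notMem]
      rintro _ ⟨⟨q, hq₁, rfl⟩, hS, hqv⟩
      have hh : j q ∈ S ∩ (u ∩ v) := ⟨hS, (hiff q hS).mpr hq₁, hqv⟩
      rw [hemp] at hh
      exact hh
  have hd : Disjoint (closure (S ∩ u)) (closure (S ∩ v)) := by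
    rw [Set.disjoint_left]
    intro x hx hx'
    obtain ⟨W, hW, hxW, h | h⟩ := key x
    · obtain ⟨z, hz⟩ := mem_closure_iff.mp hx W hW hxW
      rw [h] at hz; exact hz
    · obtain ⟨z, hz⟩ := mem_closure_iff.mp hx' W hW hxW
      rw [h] at hz; exact hz
  have hun : closure (S ∩ u) ∪ closure (S ∩ v) = Set.univ := by
    rw [← closure_union, ← Set.inter_union_distrib_left, Set.inter_eq_left.mpr hcov,
      Set.eq_univ_iff_forall]
    intro x
    obtain ⟨y, hyx, hy⟩ := exists_generization f x
    exact hyx.mem_closed isClosed_closure (subset_closure hy)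
  have hclo : IsClopen (closure (S ∩ u)) := by
    refine ⟨isClosed_closure, ?_⟩
    rw [show closure (S ∩ u) = (closure (S ∩ v))ᶜ from
      Set.Subset.antisymm (fun x hx hx' => Set.disjoint_left.mp hd hx hx')
        (fun x hx => ((Set.eq_univ_iff_forall.mp hun) x).resolve_right hx)]
    exact isClosed_closure.isOpen_compl
  rcases isClopen_iff.mp hclo with h | h
  · exact hune.ne_empty (Set.eq_empty_of_subset_empty (h ▸ subset_closure))
  · obtain ⟨z, hz⟩ := hvne
    exact Set.disjoint_left.mp hd (h ▸ Set.mem_univ z) (subset_closure hz)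

end Groth.Agent.FlatMisc.DVRRed
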