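import Groth.Agent.FlatMisc.ValuationEFT
import Groth.Agent.FlatMisc.DVRRed
import Mathlib.AlgebraicGeometry.Morphisms.FiniteType
import Mathlib.RingTheory.Flat.FaithfullyFlat.Algebra
import Mathlib.RingTheory.Nakayama
import Mathlib.RingTheory.Flat.Localization

/-! Flat proper schemes over a valuation ring with reduced special fibre are reduced. -/

set_option autoImplicit false

universe u

open AlgebraicGeometry CategoryTheory Limits IsLocalRing

namespace Groth.Agent.FlatMisc.ValuationRed

variable {R : Type u} [CommRing R] [IsDomain R] [ValuationRing R]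

/-- Nilpotents vanish near the special fibre. -/
theorem exists_mul_eq_zero {A : Type u} [CommRing A] [Algebra R A] [Algebra.FiniteType R A]
    [Module.Flat R A]
    (hred : _root_.IsReduced (A ⧸ (maximalIdeal R).map (algebraMap R A))) {q : Ideal A} [q.IsPrime]
    (hq : (maximalIdeal R).map (algebraMap R A) ≤ q) {a : A} (ha : IsNilpotent a) :
    ∃ s ∉ q, s * a = 0 := by
  have := Module.Flat.isTorsionFree (R := R) (M := A)
  have hnil : ∀ (r : R) (b : A), r ≠ 0 → r • b ∈ nilradical A → b ∈ nilradical A := by
    intro r b hr hb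
    obtain ⟨n, hn⟩ := (hb : IsNilpotent (r • b))
    rw [smul_pow] at hn
    exact ⟨n, (smul_eq_zero.mp hn).resolve_left (pow_ne_zero n hr)⟩
  have hfp : Module.FinitePresentation A (A ⧸ nilradical A) :=
    ValuationEFT.finitePresentation (A := R) (B := A) (A ⧸ nilradical A) (by
      intro r m hm
      obtain ⟨b, rfl⟩ := Ideal.Quotient.mk_surjective m
      by_cases hr : r = 0
      · exact Or.inl hr
      · refine Or.inr (Ideal.Quotient.eq_zero_iff_mem.mpr (hnil r b hr ?_))
        exact Ideal.Quotient.eq_zero_iff_mem.mp ((map_smul (Ideal.Quotient.mkₐ R _) r b).trans hm))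
  have hfg : (nilradical A).FG := by
    have := Module.FinitePresentation.fg_ker (nilradical A).mkQ (Submodule.mkQ_surjective _)
    rwa [Submodule.ker_mkQ] at this
  set I := (maximalIdeal R).map (algebraMap R A)
  have hle : nilradical A ≤ I • nilradical A := by
    intro b hb
    have hbI : b ∈ I := Ideal.Quotient.eq_zero_iff_mem.mp (hred.eq_zero _ (IsNilpotent.map hb _))
    obtain ⟨r, hr, c, rfl⟩ : ∃ r ∈ maximalIdeal R, ∃ c : A, algebraMap R A r * c = b := by
      clear hb
      induction hbI using Submodule.span_induction with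
      | mem x hx =>
        obtain ⟨r, hr, rfl⟩ := hx
        exact ⟨r, hr, 1, mul_one _⟩
      | zero => exact ⟨0, zero_mem _, 0, mul_zero _⟩
      | add x y _ _ ihx ihy =>
        obtain ⟨r, hr, c, rfl⟩ := ihx
        obtain ⟨s, hs, d, rfl⟩ := ihy
        rcases ValuationRing.dvd_total r s with ⟨e, rfl⟩ | ⟨e, rfl⟩
        · exact ⟨r, hr, c + algebraMap R A e * d, by rw [map_mul]; ring⟩
        · exact ⟨s, hs, algebraMap R A e * c + d, by rw [map_mul]; ring⟩
      | smul z x _ ih =>
        obtain ⟨r, hr, c, rfl⟩ := ih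
        exact ⟨r, hr, z * c, by rw [smul_eq_mul]; ring⟩
    by_cases hr0 : r = 0
    · simp [hr0]
    · rw [← Algebra.smul_def] at hb
      exact Ideal.mul_mem_mul (Ideal.mem_map_of_mem _ hr) (hnil r c hr0 hb)
  obtain ⟨s, hs, hs'⟩ :=
    Submodule.exists_sub_one_mem_and_smul_eq_zero_of_fg_of_le_smul I _ hfg hle
  exact ⟨s, fun h => ‹q.IsPrime›.ne_top ((Ideal.eq_top_iff_one _).mpr
    (by simpa using q.sub_mem h (hq hs))), hs' a ha⟩

variable {X : Scheme.{u}} (f : X ⟶ Spec (CommRingCat.of R))

theorem chart [IsProper f] [Flat f] (hred : IsReduced (f.fiber (closedPoint R))) {A : CommRingCat.{u}}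
    (j : Spec A ⟶ X) [IsOpenImmersion j] (q p : PrimeSpectrum A) (hle : q.asIdeal ≤ p.asIdeal)
    (hy : f (j p) = closedPoint R) : _root_.IsReduced (Localization.AtPrime q.asIdeal) := by
  obtain ⟨φ, hg⟩ := Spec.map_surjective (j ≫ f)
  letI := φ.hom.toAlgebra
  have : Algebra.FiniteType R (A) := by
    have h : LocallyOfFiniteType (Spec.map φ) := by rw [hg]; infer_instance
    rw [HasRingHomProperty.Spec_iff (P := @LocallyOfFiniteType)] at h
    exact h
  have : Module.Flat R (A) := by
    have h : Flat (Spec.map φ) := by rw [hg]; infer_instance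
    rw [HasRingHomProperty.Spec_iff (P := @Flat)] at h
    exact h
  have hpm : (maximalIdeal R).map (algebraMap R (A)) ≤ p.asIdeal := by
    have : (Spec.map φ) p = closedPoint R := by
      rw [hg]; exact hy
    exact Ideal.map_le_iff_le_comap.mpr (congrArg PrimeSpectrum.asIdeal this).ge
  have hq : _root_.IsReduced (A ⧸
      (maximalIdeal R).map (algebraMap R (A))) := by
    have : (closedPoint R).asIdeal.IsMaximal := maximalIdeal.isMaximal R
    refine FlatMor.DVRFlat.isReduced_quotient_of_fiber (R := R) (A := A)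
      (closedPoint R) ?_
    show IsReduced ((Spec.map φ).fiber (closedPoint R))
    rw [hg]
    exact @isReduced_of_isOpenImmersion _ _ (pullbackRightPullbackFstIso f
      ((Spec (CommRingCat.of R)).fromSpecResidueField (closedPoint R))
      j).inv _ (@isReduced_of_isOpenImmersion _ _ (pullback.snd _ _) _ hred)
  refine ⟨fun z hz => ?_⟩
  obtain ⟨a, s, rfl⟩ := IsLocalization.exists_mk'_eq q.asIdeal.primeCompl z
  obtain ⟨N, hN⟩ := hz
  rw [← IsLocalization.mk'_pow, IsLocalization.mk'_eq_zero_iff] at hN
  obtain ⟨⟨t, ht⟩, htN⟩ := hN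
  obtain ⟨u, hu, hu'⟩ := exists_mul_eq_zero hq (q := p.asIdeal) hpm (a := t * a)
    ⟨N + 1, by
      calc (t * a) ^ (N + 1) = t ^ N * a * (t * a ^ N) := by ring
        _ = 0 := by rw [show t * a ^ N = 0 from htN, mul_zero]⟩
  rw [IsLocalization.mk'_eq_zero_iff]
  exact ⟨⟨u * t, q.isPrime.mul_notMem (fun h => hu (hle h)) ht⟩, by rw [mul_assoc]; exact hu'⟩

theorem isReduced_of_proper [IsProper f] [Flat f]
    (hred : IsReduced (f.fiber (closedPoint R))) : IsReduced X := by
  have (x : X) : _root_.IsReduced (X.presheaf.stalk x) := by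
    obtain ⟨y, hxy, hy⟩ : ∃ y, x ⤳ y ∧ f y = closedPoint R := by
      have hc : IsClosed (f '' closure {x}) := f.isClosedMap _ isClosed_closure
      obtain ⟨y, hy, hy'⟩ := hc.stableUnderSpecialization
        (specializes_closedPoint (f x)) ⟨x, subset_closure rfl, rfl⟩
      exact ⟨y, specializes_iff_mem_closure.mpr hy, hy'⟩
    obtain ⟨i, p, hp⟩ : ∃ (i : X.affineOpenCover.I₀) (p : Spec (X.affineOpenCover.X i)),
      X.affineOpenCover.f i p = y := X.affineOpenCover.openCover.exists_eq y
    let j := X.affineOpenCover.f i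
    obtain ⟨q, rfl⟩ : x ∈ Set.range j :=
      hxy.mem_open j.opensRange.2 ⟨p, hp⟩
    have hle : q.asIdeal ≤ p.asIdeal := by
      have : q ⤳ p := j.isOpenEmbedding.isInducing.specializes_iff.mp (by rwa [← hp] at hxy)
      exact (PrimeSpectrum.le_iff_specializes q p).mpr this
    have : _root_.IsReduced (Localization.AtPrime q.asIdeal) :=
      chart f hred j q p hle ((congrArg f hp).trans hy)
    have : _root_.IsReduced ((Spec (X.affineOpenCover.X i)).presheaf.stalk q) :=
      isReduced_of_injective (Spec.stalkIso _ q).commRingCatIsoToRingEquiv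
        (Spec.stalkIso _ q).commRingCatIsoToRingEquiv.injective
    exact isReduced_of_injective (asIso (j.stalkMap q)).commRingCatIsoToRingEquiv.toRingHom
      (RingEquiv.injective _)
  exact isReduced_of_isReduced_stalk X

/-- A scheme with a flat preimmersion into a reduced scheme is reduced. -/
theorem isReduced_of_flat_preimmersion {Y Z : Scheme.{u}} (g : Y ⟶ Z) [Flat g] [IsPreimmersion g]
    [IsReduced Z] : IsReduced Y := by
  have (y : Y) : _root_.IsReduced (Y.presheaf.stalk y) := by
    letI := (g.stalkMap y).hom.toAlgebra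
    have : Module.Flat (Z.presheaf.stalk (g y)) (Y.presheaf.stalk y) := Flat.stalkMap g y
    have : IsLocalHom (algebraMap (Z.presheaf.stalk (g y)) (Y.presheaf.stalk y)) :=
      inferInstanceAs (IsLocalHom (g.stalkMap y).hom)
    have : Module.FaithfullyFlat (Z.presheaf.stalk (g y)) (Y.presheaf.stalk y) :=
      Module.FaithfullyFlat.of_flat_of_isLocalHom
    have hb : Function.Bijective (algebraMap (Z.presheaf.stalk (g y)) (Y.presheaf.stalk y)) :=
      ⟨FaithfulSMul.algebraMap_injective _ _, g.stalkMap_surjective y⟩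
    exact isReduced_of_injective (RingEquiv.ofBijective _ hb).symm (RingEquiv.injective _)
  exact isReduced_of_isReduced_stalk Y

/-- Fibres do not change under closed immersions of the base. -/
theorem fiber_iso {Y S S' : Scheme.{u}} (g : Y ⟶ S) (i : S' ⟶ S) [IsClosedImmersion i] (y : S') :
    Nonempty ((pullback.snd g i).fiber y ≅ g.fiber (i y)) := by
  have : IsIso (i.residueFieldMap y) := by
    refine (ConcreteCategory.isIso_iff_bijective _).mpr ⟨(i.residueFieldMap y).hom.injective, fun z => ?_⟩
    obtain ⟨a, rfl⟩ := S'.residue_surjective y z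
    obtain ⟨b, rfl⟩ := i.stalkMap_surjective y a
    exact ⟨S.residue (i y) b, congr($(Scheme.residue_residueFieldMap i y) b)⟩
  refine ⟨pullbackLeftPullbackSndIso g i (S'.fromSpecResidueField y) ≪≫
    @asIso _ _ _ _ (pullback.map g (S'.fromSpecResidueField y ≫ i) g (S.fromSpecResidueField (i y))
      (𝟙 _) (Spec.map (i.residueFieldMap y)) (𝟙 _) (by simp)
      (by rw [Category.comp_id]; exact (i.SpecMap_residueFieldMap_fromSpecResidueField y).symm))
      (pullback.map_isIso _ _ _ _ _ _ _ _ _)⟩

theorem isReduced_fiber [IsProper f] [Flat f] (hred : IsReduced (f.fiber (closedPoint R)))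
    (s : ↑(Spec (CommRingCat.of R))) : IsReduced (f.fiber s) := by
  set P : Ideal R := PrimeSpectrum.asIdeal (R := R) s
  have hPp : P.IsPrime := PrimeSpectrum.isPrime (R := R) s
  have : ValuationRing (R ⧸ P) := ValuationRing.iff_ideal_total.mpr ⟨fun I J => by
    rcases ValuationRing.iff_ideal_total.mp ‹ValuationRing R› |>.total
      (I.comap (Ideal.Quotient.mk P)) (J.comap (Ideal.Quotient.mk P)) with h | h
    · exact Or.inl ((Ideal.comap_le_comap_iff_of_surjective _ Ideal.Quotient.mk_surjective _ _).mp h)
    · exact Or.inr ((Ideal.comap_le_comap_iff_of_surjective _ Ideal.Quotient.mk_surjective _ _).mp h)⟩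
  let D := CommRingCat.of (R ⧸ P)
  let i : Spec D ⟶ Spec (CommRingCat.of R) := Spec.map (CommRingCat.ofHom (Ideal.Quotient.mk P))
  have : IsClosedImmersion i := IsClosedImmersion.spec_of_surjective _ Ideal.Quotient.mk_surjective
  let c : PrimeSpectrum (R ⧸ P) := closedPoint (R ⧸ P)
  have hc : i c = closedPoint R := by
    refine PrimeSpectrum.ext ?_
    show Ideal.comap (Ideal.Quotient.mk P) (maximalIdeal (R ⧸ P)) = maximalIdeal R
    exact IsLocalRing.eq_maximalIdeal (Ideal.comap_isMaximal_of_surjective _ Ideal.Quotient.mk_surjective)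
  have hX : IsReduced (pullback f i) := by
    refine isReduced_of_proper (R := R ⧸ P) (pullback.snd f i) ?_
    have h' : IsReduced (f.fiber (i c)) := by rw [hc]; exact hred
    exact @isReduced_of_isOpenImmersion _ _ (fiber_iso f i c).some.hom _ h'
  let η : PrimeSpectrum (R ⧸ P) := ⟨⊥, Ideal.isPrime_bot⟩
  have hη : i η = s := by
    refine PrimeSpectrum.ext ?_
    show Ideal.comap (Ideal.Quotient.mk P) ⊥ = P
    rw [← RingHom.ker_eq_comap_bot, Ideal.mk_ker]
  rw [← hη]
  suffices h : IsReduced ((pullback.snd f i).fiber η) from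
    @isReduced_of_isOpenImmersion _ _ (fiber_iso f i η).some.inv _ h
  have hfl : Flat ((Spec D).fromSpecResidueField η) := by
    have hfield : IsField ((Spec D).presheaf.stalk η) := by
      have he : η = genericPoint (Spec D) := (genericPoint_eq_bot_of_affine D).symm
      rw [he]
      exact Field.toIsField (Spec D).functionField
    have : IsIso ((Spec D).residue η) := by
      letI := hfield.toField
      exact (ConcreteCategory.isIso_iff_bijective _).mpr
        ⟨((Spec D).residue η).hom.injective, (Spec D).residue_surjective η⟩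
    have : Flat ((Spec D).fromSpecStalk η) := by
      rw [Spec.fromSpecStalk_eq']
      refine (HasRingHomProperty.Spec_iff (P := @Flat)).mpr ?_
      show Module.Flat (R ⧸ P) ((Spec.structureSheaf (R ⧸ P)).presheaf.stalk η)
      have : IsLocalization η.asIdeal.primeCompl _ := StructureSheaf.IsLocalization.to_stalk (R ⧸ P) η
      exact IsLocalization.flat _ η.asIdeal.primeCompl
    show Flat (Spec.map ((Spec D).residue η) ≫ (Spec D).fromSpecStalk η)
    infer_instance
  have : IsReduced (pullback f i) := hX
  have : Flat ((pullback.snd f i).fiberι η) := MorphismProperty.pullback_fst _ _ hfl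
  exact isReduced_of_flat_preimmersion ((pullback.snd f i).fiberι η)

end Groth.Agent.FlatMisc.ValuationRed
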