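import Mathlib.RingTheory.Flat.TorsionFree
import Mathlib.RingTheory.MvPolynomial.Homogeneous
import Mathlib.RingTheory.MvPolynomial.Basic
import Mathlib.RingTheory.LocalRing.Module
import Mathlib.RingTheory.Valuation.ValuationRing
import Mathlib.RingTheory.Nakayama
import Mathlib.RingTheory.Polynomial.Basic
import Mathlib.Algebra.Module.FinitePresentation

/-!
Nagata's theorem: over a valuation ring, a finite module over a polynomial ring which is
torsion-free over the base is finitely presented. The proof is a graded Nakayama lemma.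
-/

set_option autoImplicit false

universe u

open MvPolynomial IsLocalRing

namespace Groth.Agent.FlatMisc.ValuationFP

section Deh

variable {σ : Type} {R : Type u} [CommRing R]

/-- Dehomogenisation: the variable `none` becomes `1`. -/
noncomputable def deh : MvPolynomial (Option σ) R →ₐ[R] MvPolynomial σ R :=
  aeval fun o => o.elim 1 X


theorem deh_monomial (s : Option σ →₀ ℕ) (c : R) :
    deh (monomial s c) = monomial s.some c := by
  classical
  rw [deh, aeval_monomial, Finsupp.prod_option_index s (fun o e => (o.elim (1 : MvPolynomial σ R) X) ^ e)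
    (fun o => pow_zero _) (fun o a b => pow_add _ a b)]
  simp only [Option.elim_none, Option.elim_some, one_pow, one_mul]
  rw [monomial_eq (s := s.some), algebraMap_eq]

theorem deh_map {S : Type u} [CommRing S] (φ : R →+* S) (F : MvPolynomial (Option σ) R) :
    map φ (deh F) = deh (map φ F) := by
  induction F using MvPolynomial.induction_on' with
  | monomial d c => rw [deh_monomial, map_monomial, map_monomial, deh_monomial]
  | add p q hp hq => simp only [map_add, hp, hq]

theorem totalDegree_deh {d : ℕ} {F : MvPolynomial (Option σ) R} (hF : F.IsHomogeneous d) :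
    (deh F).totalDegree ≤ d := by
  classical
  conv_lhs => rw [F.as_sum, map_sum]
  refine (totalDegree_finsetSum _ _).trans (Finset.sup_le fun s hs => ?_)
  rw [deh_monomial]
  refine (totalDegree_monomial_le _ _).trans ?_
  have h := hF (mem_support_iff.mp hs)
  rw [Finsupp.weight_apply, Finsupp.sum_option_index s (fun o e => e • (1 : Option σ → ℕ) o)
    (fun o => zero_smul _ _) (fun o a b => add_smul a b _)] at h
  simp only [Pi.one_apply, smul_eq_mul, mul_one] at h
  exact le_of_le_of_eq (Nat.le_add_left _ _) h

theorem exists_homogenization {d : ℕ} {f : MvPolynomial σ R} (hf : f.totalDegree ≤ d) :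
    ∃ F : MvPolynomial (Option σ) R, F.IsHomogeneous d ∧ deh F = f := by
  classical
  refine ⟨∑ s ∈ f.support, monomial (s.optionElim (d - s.sum fun _ e => e)) (f.coeff s),
    IsHomogeneous.sum _ _ _ fun s hs => isHomogeneous_monomial _ ?_, ?_⟩
  · have h1 : (s.sum fun _ e => e) ≤ d := (Finset.le_sup (f := fun s : σ →₀ ℕ => s.sum fun _ e => e) hs).trans hf
    rw [Finsupp.degree_apply]
    show (Finsupp.optionElim _ s).sum (fun _ e => e) = d
    rw [Finsupp.sum_option_index _ (fun _ e => e) (fun _ => rfl) (fun _ _ _ => rfl), Finsupp.optionElim_apply_none,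
      Finsupp.some_optionElim]
    omega
  · rw [map_sum]
    simp only [deh_monomial, Finsupp.some_optionElim]
    exact f.as_sum.symm

theorem component_mul {e d : ℕ} (c G : MvPolynomial σ R) (hG : G.IsHomogeneous e) :
    homogeneousComponent d (c * G) = if e ≤ d then homogeneousComponent (d - e) c * G else 0 := by
  classical
  conv_lhs => rw [← sum_homogeneousComponent c, Finset.sum_mul, map_sum]
  have h : ∀ i, homogeneousComponent d (homogeneousComponent i c * G) =
      if i + e = d then homogeneousComponent i c * G else 0 := fun i => by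
    rw [homogeneousComponent_of_mem (((homogeneousComponent_isHomogeneous i c).mul hG))]
    exact if_congr eq_comm rfl rfl
  simp only [h]
  split_ifs with hed
  · rw [Finset.sum_eq_single (d - e) (fun i _ hi => if_neg (by omega))]
    · rw [if_pos (by omega)]
    · intro hi
      rw [homogeneousComponent_eq_zero (φ := c) (n := d - e) (by simp only [Finset.mem_range] at hi; omega), zero_mul, ite_self]
  · exact Finset.sum_eq_zero fun i _ => if_neg (by omega)

theorem map_component {S : Type u} [CommRing S] (φ : R →+* S) (d : ℕ) (f : MvPolynomial σ R) :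
    map φ (homogeneousComponent d f) = homogeneousComponent d (map φ f) := by
  classical
  ext s
  rw [coeff_map, coeff_homogeneousComponent, coeff_homogeneousComponent, coeff_map]
  split_ifs <;> simp

end Deh

variable {A : Type u} [CommRing A] [IsDomain A] [ValuationRing A]

/-- A finite torsion-free module over a valuation ring is projective. -/
theorem projective_of_torsionFree (M : Type u) [AddCommGroup M] [Module A M] [Module.Finite A M]
    (h : ∀ (a : A) (m : M), a • m = 0 → a = 0 ∨ m = 0) : Module.Projective A M := by
  have : Module.Flat A M := by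
    rw [Module.Flat.flat_iff_torsion_eq_bot_of_isBezout, eq_bot_iff]
    rintro m ⟨⟨r, hr⟩, hm⟩
    exact ((h r m hm).resolve_left (nonZeroDivisors.ne_zero hr))
  have := Module.free_of_flat_of_isLocalRing (R := A) (P := M)
  infer_instance

theorem fg_of_saturated {σ : Type} [Finite σ] {r : ℕ}
    {M : Type u} [AddCommGroup M] [Module A M]
    [Module (MvPolynomial σ A) M] [IsScalarTower A (MvPolynomial σ A) M]
    (π : (Fin r → MvPolynomial σ A) →ₗ[MvPolynomial σ A] M)
    (h : ∀ (a : A) (m : M), a • m = 0 → a = 0 ∨ m = 0) :
    (LinearMap.ker π).FG := by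
  classical
  let res := residue A
  let red : (Fin r → MvPolynomial (Option σ) A) → (Fin r → MvPolynomial (Option σ) (ResidueField A)) :=
    fun F i => map res (F i)
  let dv : (Fin r → MvPolynomial (Option σ) A) → (Fin r → MvPolynomial σ A) := fun F i => deh (F i)
  let G : Set (Fin r → MvPolynomial (Option σ) A) :=
    {F | (∃ d, ∀ i, (F i).IsHomogeneous d) ∧ π (dv F) = 0}
  obtain ⟨T₀, hT₀, hspan⟩ := (Submodule.fg_span_iff_fg_span_finset_subset (red '' G)).mp
    (IsNoetherian.noetherian (Submodule.span (MvPolynomial (Option σ) (ResidueField A)) (red '' G)))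
  obtain ⟨T, hTG, rfl⟩ := Finset.subset_set_image_iff.mp hT₀
  let E : Submodule (MvPolynomial σ A) (Fin r → MvPolynomial σ A) :=
    Submodule.span _ ((T.image dv : Finset _) : Set (Fin r → MvPolynomial σ A))
  have hEker : E ≤ LinearMap.ker π := by
    refine Submodule.span_le.mpr fun x hx => ?_
    obtain ⟨F, hF, rfl⟩ := Finset.mem_image.mp hx
    exact (hTG hF).2
  refine ⟨T.image dv, le_antisymm hEker fun v hv => ?_⟩
  -- the degree bound
  let d := Finset.univ.sup fun i => (v i).totalDegree
  let D : Submodule A (Fin r → MvPolynomial σ A) :=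
    LinearMap.range ((restrictTotalDegree σ A d).subtype.compLeft (Fin r))
  have hD : ∀ x : Fin r → MvPolynomial σ A, x ∈ D ↔ ∀ i, (x i).totalDegree ≤ d := by
    intro x
    constructor
    · rintro ⟨y, rfl⟩ i
      exact (mem_restrictTotalDegree _ _ _).mp (y i).2
    · intro hx
      exact ⟨fun i => ⟨x i, (mem_restrictTotalDegree _ _ _).mpr (hx i)⟩, rfl⟩
  have hDfg : D.FG := by
    rw [← Module.Finite.iff_fg]
    infer_instance
  have : Module.Finite A D := Module.Finite.iff_fg.mpr hDfg
  let φ : D →ₗ[A] M := (π.restrictScalars A) ∘ₗ D.subtype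
  have : Module.Projective A (LinearMap.range φ) :=
    projective_of_torsionFree _ fun a m hm => (h a m.1 (congrArg Subtype.val hm)).imp id Subtype.ext
  obtain ⟨s, hs⟩ := Module.projective_lifting_property φ.rangeRestrict LinearMap.id
    φ.surjective_rangeRestrict
  let g : D →ₗ[A] (Fin r → MvPolynomial σ A) :=
    D.subtype ∘ₗ (LinearMap.id - s ∘ₗ φ.rangeRestrict)
  have hgker : ∀ y, π (g y) = 0 := fun y => by
    have h1 : φ.rangeRestrict (s (φ.rangeRestrict y)) = φ.rangeRestrict y :=
      LinearMap.congr_fun hs _
    have h2 : φ (s (φ.rangeRestrict y)) = φ y := congrArg Subtype.val h1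
    show π ((y : Fin r → MvPolynomial σ A) - _) = 0
    rw [map_sub, sub_eq_zero]
    exact h2.symm
  have hgfix : ∀ y : D, π y = 0 → g y = y := fun y hy => by
    have h1 : φ.rangeRestrict y = 0 := Subtype.ext hy
    show ((y - s (φ.rangeRestrict y) : D) : Fin r → MvPolynomial σ A) = y
    rw [h1, map_zero, sub_zero]
  let Ld : Submodule A (Fin r → MvPolynomial σ A) := LinearMap.range g
  have hLd : ∀ x, x ∈ Ld ↔ x ∈ D ∧ π x = 0 := by
    intro x
    constructor
    · rintro ⟨y, rfl⟩
      exact ⟨((LinearMap.id (R := A) (M := D) - s ∘ₗ φ.rangeRestrict) y).2, hgker y⟩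
    · rintro ⟨hxD, hx⟩
      exact ⟨⟨x, hxD⟩, hgfix ⟨x, hxD⟩ hx⟩
  suffices hkey : Ld ≤ E.restrictScalars A by
    refine hkey ((hLd v).mpr ⟨(hD v).mpr fun i => ?_, hv⟩)
    exact Finset.le_sup (f := fun i => (v i).totalDegree) (Finset.mem_univ i)
  refine Submodule.le_of_le_smul_of_le_jacobson_bot (I := maximalIdeal A)
    (by rw [← Module.Finite.iff_fg]; exact Module.Finite.range g)
    (jacobson_eq_maximalIdeal (R := A) ⊥ bot_ne_top).ge ?_
  intro x hx
  obtain ⟨hxD, hxπ⟩ := (hLd x).mp hx
  choose F hFh hFd using fun i => exists_homogenization ((hD x).mp hxD i)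
  have hFG : F ∈ G := ⟨⟨d, hFh⟩, by
    show π (dv F) = 0
    rw [show dv F = x from funext hFd]
    exact hxπ⟩
  have hmem : red F ∈ Submodule.span (MvPolynomial (Option σ) (ResidueField A))
      ((T.image red : Finset _) : Set (Fin r → MvPolynomial (Option σ) (ResidueField A))) :=
    hspan ▸ Submodule.subset_span ⟨F, hFG, rfl⟩
  rw [Finset.coe_image, Submodule.mem_span_image_finset_iff_exists_fun] at hmem
  obtain ⟨c, hc⟩ := hmem
  choose e he using fun t : T => (hTG t.2).1
  choose c' hc' using fun t : T => map_surjective res residue_surjective (c t)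
  let C' : T → MvPolynomial (Option σ) A := fun t =>
    if e t ≤ d then homogeneousComponent (d - e t) (c' t) else 0
  let w : Fin r → MvPolynomial (Option σ) A := ∑ t : T, C' t • (t : Fin r → MvPolynomial (Option σ) A)
  have hwh : ∀ i, (w i).IsHomogeneous d := fun i => by
    show IsHomogeneous ((∑ t : T, C' t • (t : Fin r → MvPolynomial (Option σ) A)) i) d
    rw [Finset.sum_apply]
    refine IsHomogeneous.sum _ _ _ fun t _ => ?_
    rw [Pi.smul_apply, smul_eq_mul]
    by_cases hed : e t ≤ d
    · simp only [C', if_pos hed]
      have := (homogeneousComponent_isHomogeneous (d - e t) (c' t)).mul (he t i)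
      rwa [Nat.sub_add_cancel hed] at this
    · simp only [C', if_neg hed, zero_mul]
      exact isHomogeneous_zero _ _ _
  have hwr : red w = red F := by
    funext i
    have h1 : map res (F i) = homogeneousComponent d (∑ t : T, c t * map res ((t : Fin r → _) i)) := by
      have hi := congrFun hc i
      rw [Finset.sum_apply] at hi
      simp only [Pi.smul_apply, smul_eq_mul, red] at hi
      rw [hi, homogeneousComponent_eq_self ((hFh i).map res)]
    show map res (w i) = map res (F i)
    rw [h1, map_sum]
    simp only [w, Finset.sum_apply, map_sum, Pi.smul_apply, smul_eq_mul, map_mul]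
    refine Finset.sum_congr rfl fun t _ => ?_
    rw [component_mul _ _ ((he t i).map res)]
    by_cases hed : e t ≤ d
    · simp only [C', if_pos hed, map_component, hc']
    · simp only [C', if_neg hed, map_zero, zero_mul]
  have hdw : dv w ∈ E := by
    have : dv w = ∑ t : T, deh (C' t) • dv t := by
      funext i
      simp only [dv, w, Finset.sum_apply, map_sum, Pi.smul_apply, smul_eq_mul, map_mul]
    rw [this]
    refine Submodule.sum_mem _ fun t _ => Submodule.smul_mem _ _ (Submodule.subset_span ?_)
    exact Finset.mem_coe.mpr (Finset.mem_image_of_mem dv t.2)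
  have hdwD : dv w ∈ D := (hD _).mpr fun i => totalDegree_deh (hwh i)
  set z := x - dv w
  have hzD : z ∈ D := D.sub_mem hxD hdwD
  have hzπ : π z = 0 := by
    rw [map_sub, hxπ, LinearMap.mem_ker.mp (hEker hdw), sub_zero]
  have hzred : ∀ i s, (z i).coeff s ∈ maximalIdeal A := fun i s => by
    rw [← residue_eq_zero_iff, ← coeff_map]
    have : map res (z i) = 0 := by
      show map res (x i - dv w i) = 0
      rw [← hFd i, map_sub, deh_map, deh_map, show map res (w i) = map res (F i) from congrFun hwr i,
        sub_self]
    rw [this, coeff_zero]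
  have hzm : z ∈ maximalIdeal A • D := by
    have hz : z = ∑ i, ∑ s ∈ (z i).support, (z i).coeff s • Pi.single i (monomial s (1 : A)) := by
      funext j
      simp only [Finset.sum_apply, Pi.smul_apply]
      rw [Finset.sum_eq_single j (fun i _ hij => by
        simp [Pi.single_eq_of_ne (Ne.symm hij)]) (fun hj => absurd (Finset.mem_univ j) hj)]
      simp only [Pi.single_eq_same, smul_monomial, smul_eq_mul, mul_one]
      exact (z j).as_sum
    rw [hz]
    refine Submodule.sum_mem _ fun i _ => Submodule.sum_mem _ fun s hs =>
      Submodule.smul_mem_smul (hzred i s) ((hD _).mpr fun j => ?_)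
    by_cases hij : j = i
    · subst hij
      rw [Pi.single_eq_same]
      exact (totalDegree_monomial_le _ _).trans ((le_totalDegree hs).trans ((hD z).mp hzD j))
    · rw [Pi.single_eq_of_ne hij, totalDegree_zero]
      exact Nat.zero_le _
  have hzL : z ∈ maximalIdeal A • Ld := by
    have h1 : (⟨z, hzD⟩ : D) ∈ maximalIdeal A • (⊤ : Submodule A D) :=
      (Submodule.mem_smul_top_iff _ _ _).mpr hzm
    have h2 := Submodule.mem_map_of_mem (f := g) h1
    rwa [Submodule.map_smul'', Submodule.map_top, hgfix ⟨z, hzD⟩ hzπ] at h2
  rw [show x = dv w + z from (add_sub_cancel _ _).symm]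
  exact Submodule.add_mem_sup hdw hzL

/-- **Nagata**: a finite module over a polynomial ring over a valuation ring, torsion-free over
the base, is finitely presented. -/
theorem finitePresentation {σ : Type} [Finite σ] (M : Type u) [AddCommGroup M] [Module A M]
    [Module (MvPolynomial σ A) M] [IsScalarTower A (MvPolynomial σ A) M]
    [Module.Finite (MvPolynomial σ A) M]
    (h : ∀ (a : A) (m : M), a • m = 0 → a = 0 ∨ m = 0) :
    Module.FinitePresentation (MvPolynomial σ A) M := by
  obtain ⟨r, π, hπ⟩ := Module.Finite.exists_fin' (MvPolynomial σ A) M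
  exact Module.finitePresentation_of_surjective π hπ (fg_of_saturated π h)

end Groth.Agent.FlatMisc.ValuationFP
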