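import Groth.Agent.FlatMisc.QFGeneric
import Mathlib.RingTheory.Polynomial.Basic
import Mathlib.RingTheory.FiniteType
import Mathlib.RingTheory.FinitePresentation
import Mathlib.RingTheory.Finiteness.Basic
import Mathlib.Algebra.MvPolynomial.Equiv

/-!
# Generic freeness over an arbitrary reduced ring

`R` is reduced, `S` a finite type `R`-algebra, `M` a finite `S`-module.  Every `a ≠ 0` has a nonzero
multiple `f` such that `M` becomes free over `R` after inverting `f`, and every submodule of a finite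
`S`-module becomes finitely generated after inverting some such `f`.
-/

set_option autoImplicit false

universe u

open MvPolynomial

namespace Groth.Agent.FlatMisc.GenericFree

variable {R : Type u} [CommRing R]

/-- `M` has a basis after inverting `f` (the base being reduced). -/
def FreeAt (f : R) (M : Type u) [AddCommGroup M] [Module R M] : Prop :=
  ∃ (ι : Type u) (v : ι → M),
    (∀ c : ι →₀ R, Finsupp.linearCombination R v c = 0 → f • c = 0) ∧
    ∀ m : M, ∃ k : ℕ, f ^ k • m ∈ Submodule.span R (Set.range v)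

variable {M : Type u} [AddCommGroup M] [Module R M]

theorem FreeAt.of_dvd {f g : R} (h : FreeAt f M) (hfg : f ∣ g) : FreeAt g M := by
  obtain ⟨ι, v, hv, hs⟩ := h
  obtain ⟨d, rfl⟩ := hfg
  refine ⟨ι, v, fun c hc => by rw [mul_comm, mul_smul, hv c hc, smul_zero], fun m => ?_⟩
  obtain ⟨k, hk⟩ := hs m
  exact ⟨k, by rw [mul_pow, mul_comm, mul_smul]; exact Submodule.smul_mem _ _ hk⟩

theorem smul_eq_zero_of_pow {f : R} [IsReduced R] {ι : Type*} {c : ι →₀ R} {k : ℕ}
    (h : f ^ k • c = 0) : f • c = 0 := by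
  ext i
  have hi : f ^ k * c i = 0 := by simpa using DFunLike.congr_fun h i
  simp only [Finsupp.coe_smul, Pi.smul_apply, smul_eq_mul, Finsupp.coe_zero, Pi.zero_apply]
  refine IsReduced.eq_zero _ ⟨k + 1, ?_⟩
  calc (f * c i) ^ (k + 1) = f * c i ^ k * (f ^ k * c i) := by ring
    _ = 0 := by rw [hi, mul_zero]

/-- Quotients by kernels killed by powers of `f` inherit bases. -/
theorem FreeAt.of_surjective [IsReduced R] {f : R} {N : Type u} [AddCommGroup N] [Module R N]
    (h : FreeAt f M) (π : M →ₗ[R] N) (hπ : Function.Surjective π)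
    (hker : ∀ m, π m = 0 → ∃ k : ℕ, f ^ k • m = 0) : FreeAt f N := by
  obtain ⟨ι, v, hv, hs⟩ := h
  refine ⟨ι, π ∘ v, fun c hc => ?_, fun n => ?_⟩
  · rw [← Finsupp.apply_linearCombination] at hc
    obtain ⟨k, hk⟩ := hker _ hc
    rw [← map_smul] at hk
    exact smul_eq_zero_of_pow (k := k + 1) (by rw [pow_succ', mul_smul]; exact hv _ hk)
  · obtain ⟨m, rfl⟩ := hπ n
    obtain ⟨k, hk⟩ := hs m
    refine ⟨k, ?_⟩
    rw [← map_smul, Set.range_comp, ← Submodule.map_span]
    exact Submodule.mem_map_of_mem hk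

variable (R) in
/-- Submodules of finite modules are generically finitely generated. -/
def GenFG (T : Type u) [CommRing T] [Algebra R T] : Prop :=
  ∀ (N : Type u) [AddCommGroup N] [Module T N] [Module R N] [IsScalarTower R T N] [Module.Finite T N]
    (J : Submodule T N) (a : R), a ≠ 0 →
    ∃ f : R, a ∣ f ∧ f ≠ 0 ∧ ∃ G : Set N, G.Finite ∧ G ⊆ J ∧
      ∀ m ∈ J, ∃ k : ℕ, f ^ k • m ∈ Submodule.span T G

variable (R) in
/-- Finite modules are generically free over the base. -/
def GenFree (T : Type u) [CommRing T] [Algebra R T] : Prop :=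
  ∀ (Q : Type u) [AddCommGroup Q] [Module T Q] [Module R Q] [IsScalarTower R T Q] [Module.Finite T Q]
    (a : R), a ≠ 0 → ∃ f : R, a ∣ f ∧ f ≠ 0 ∧ FreeAt f Q

theorem genFree_self [IsReduced R] : GenFree R R := by
  intro Q _ hm hm' htow hfin a ha
  have : hm' = hm := Module.ext' _ _ fun r q => by
    have h := htow.smul_assoc r (1 : R) q
    rw [smul_eq_mul, mul_one, @one_smul R _ _ hm.toMulAction] at h
    exact h.symm
  subst this
  obtain ⟨p, hp, hap, d, v, g, hg, hspan, hindep⟩ := QFGeneric.generic_basis Q ha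
  refine ⟨a * g, dvd_mul_right _ _, fun h => hp.1.1.mul_notMem hap hg (h ▸ p.zero_mem),
    ULift.{u} (Fin d), fun i => v i.down, fun c hc => ?_, fun m => ⟨1, ?_⟩⟩
  · ext i
    have h0 : ∑ j, c ⟨j⟩ • v j = 0 := by
      rw [← hc, Finsupp.linearCombination_apply, Finsupp.sum_fintype]
      · exact (Fintype.sum_equiv Equiv.ulift (fun i : ULift.{u} (Fin d) => c i • v i.down)
          (fun j => c ⟨j⟩ • v j) fun _ => rfl).symm
      · exact fun _ => zero_smul _ _
    have := hindep (fun j => c ⟨j⟩) h0 i.down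
    simp only [Finsupp.coe_smul, Pi.smul_apply, smul_eq_mul, Finsupp.coe_zero, Pi.zero_apply]
    rw [mul_assoc, this, mul_zero]
  · have hr : Set.range (fun i : ULift.{u} (Fin d) => v i.down) = Set.range v := by
      ext x
      exact ⟨fun ⟨i, hi⟩ => ⟨i.down, hi⟩, fun ⟨i, hi⟩ => ⟨⟨i⟩, hi⟩⟩
    rw [pow_one, hr, mul_smul]
    exact Submodule.smul_mem _ _ (hspan m)

theorem genFG_self [IsReduced R] : GenFG R R := by
  intro N _ hm hm' htow hfin J a ha
  have : hm' = hm := Module.ext' _ _ fun r q => by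
    have h := htow.smul_assoc r (1 : R) q
    rw [smul_eq_mul, mul_one, @one_smul R _ _ hm.toMulAction] at h
    exact h.symm
  subst this
  obtain ⟨p, hp, hap, d, v, g, hg, hspan, hindep⟩ := QFGeneric.generic_basis (N ⧸ J) ha
  choose v' hv' using fun i => J.mkQ_surjective (v i)
  obtain ⟨n, b, hb⟩ := Module.Finite.exists_fin (R := R) (M := N)
  choose c hc using fun k => (Submodule.mem_span_range_iff_exists_fun R).mp (hspan (J.mkQ (b k)))
  let ι : Fin n → N := fun k => g • b k - ∑ j, c k j • v' j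
  refine ⟨a * g, dvd_mul_right _ _, fun h => hp.1.1.mul_notMem hap hg (h ▸ p.zero_mem),
    Set.range ι, Set.finite_range _, ?_, fun x hx => ⟨2, ?_⟩⟩
  · rintro _ ⟨k, rfl⟩
    rw [SetLike.mem_coe, ← Submodule.Quotient.mk_eq_zero, ← Submodule.mkQ_apply]
    simp only [ι, map_sub, map_smul, map_sum, hv', hc, sub_self]
  · obtain ⟨w, hw⟩ := (Submodule.mem_span_range_iff_exists_fun R).mp (hb.symm ▸ Submodule.mem_top :
      x ∈ Submodule.span R (Set.range b))
    have e1 : g • x = ∑ k, w k • ι k + ∑ j, (∑ k, w k * c k j) • v' j := by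
      simp only [ι, smul_sub, Finset.sum_sub_distrib, Finset.smul_sum, Finset.sum_smul, mul_smul]
      rw [Finset.sum_comm (f := fun (j : Fin d) (k : Fin n) => w k • c k j • v' j), sub_add_cancel,
        ← hw, Finset.smul_sum]
      exact Finset.sum_congr rfl fun k _ => smul_comm _ _ _
    have e2 : ∑ j, (∑ k, w k * c k j) • v j = 0 := by
      have e3 : J.mkQ (g • x) = 0 := by
        rw [map_smul, Submodule.mkQ_apply, (Submodule.Quotient.mk_eq_zero J).mpr hx, smul_zero]
      rw [e1, map_add, map_sum, map_sum] at e3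
      have hι : ∀ k, J.mkQ (ι k) = 0 := fun k => by
        simp only [ι, map_sub, map_smul, map_sum, hv', hc, sub_self]
      simpa only [map_smul, hv', hι, smul_zero, Finset.sum_const_zero, zero_add] using e3
    have e4 := hindep _ e2
    have : (g * g) • x = ∑ k, (g * w k) • ι k := by
      rw [mul_smul, e1, smul_add, Finset.smul_sum, Finset.smul_sum]
      simp only [← mul_smul, e4, zero_smul, Finset.sum_const_zero, add_zero]
    rw [show (a * g) ^ 2 = a * a * (g * g) by ring, mul_smul, this]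
    exact Submodule.smul_mem _ _
      (sum_mem fun k _ => Submodule.smul_mem _ _ (Submodule.subset_span ⟨k, rfl⟩))

/-! ### Adjoining one operator -/

section Step

variable {T : Type u} [CommRing T] [Algebra R T] {N : Type u} [AddCommGroup N] [Module T N]
  (x : N →ₗ[T] N) (N₀ : Submodule T N)

/-- The span of `x ^ j N₀` for `j < i`. -/
def low (i : ℕ) : Submodule T N := ⨆ j ∈ Finset.range i, N₀.map (x ^ j)

theorem low_mono : Monotone (low x N₀) := fun _ _ hij =>
  biSup_mono fun _ hl => Finset.range_mono hij hl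

theorem mem_low {j i : ℕ} (hji : j < i) {u : N} (hu : u ∈ N₀) : (x ^ j) u ∈ low x N₀ i :=
  (le_iSup₂_of_le (f := fun j (_ : j ∈ Finset.range i) => N₀.map (x ^ j)) j
    (Finset.mem_range.mpr hji) le_rfl) (Submodule.mem_map_of_mem hu)

theorem low_zero : low x N₀ 0 = ⊥ := by simp [low]

theorem low_succ (n : ℕ) : low x N₀ (n + 1) = low x N₀ n ⊔ N₀.map (x ^ n) := by
  simp only [low, Finset.range_add_one, Finset.iSup_insert, sup_comm]

theorem apply_mem_low {i : ℕ} {m : N} (hm : m ∈ low x N₀ i) : x m ∈ low x N₀ (i + 1) := by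
  have : low x N₀ i ≤ (low x N₀ (i + 1)).comap x := by
    refine iSup₂_le fun j hj => ?_
    rintro _ ⟨u, hu, rfl⟩
    rw [Submodule.mem_comap, ← Module.End.mul_apply, ← pow_succ']
    exact mem_low x N₀ (by rw [Finset.mem_range] at hj; omega) hu
  exact this hm

theorem exists_mem_low (hgen : ∀ U : Submodule T N, N₀ ≤ U → (∀ m ∈ U, x m ∈ U) → U = ⊤) (m : N) :
    ∃ i, m ∈ low x N₀ i := by
  have hall : ⨆ i, low x N₀ i = ⊤ := by
    refine hgen _ ?_ ?_
    · intro u hu
      exact Submodule.mem_iSup_of_mem 1 (by simpa using mem_low x N₀ (j := 0) one_pos hu)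
    · intro m hm
      rw [Submodule.mem_iSup_of_directed _ (low_mono x N₀).directed_le] at hm
      obtain ⟨i, hi⟩ := hm
      exact Submodule.mem_iSup_of_mem (i + 1) (apply_mem_low x N₀ hi)
  rw [← Submodule.mem_iSup_of_directed _ (low_mono x N₀).directed_le, hall]
  trivial

/-- The leading coefficients in degree `i` of the elements of `J`. -/
def lead (J : Submodule T N) (i : ℕ) : Submodule T N₀ :=
  (J ⊔ low x N₀ i).comap ((x ^ i).comp N₀.subtype)

theorem mem_lead {J : Submodule T N} {i : ℕ} {u : N₀} :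
    u ∈ lead x N₀ J i ↔ ∃ j ∈ J, j - (x ^ i) u ∈ low x N₀ i := by
  rw [lead, Submodule.mem_comap, Submodule.mem_sup]
  simp only [LinearMap.comp_apply, Submodule.subtype_apply]
  constructor
  · rintro ⟨j, hj, l, hl, h⟩
    exact ⟨j, hj, by rw [← h, sub_add_cancel_left]; exact neg_mem hl⟩
  · rintro ⟨j, hj, h⟩
    exact ⟨j, hj, _, neg_mem h, by abel⟩

theorem lead_mono {J : Submodule T N} (hJ : ∀ m ∈ J, x m ∈ J) : Monotone (lead x N₀ J) :=
  monotone_nat_of_le_succ fun i u hu => by
    rw [mem_lead] at hu ⊢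
    obtain ⟨j, hj, hl⟩ := hu
    refine ⟨x j, hJ j hj, ?_⟩
    rw [pow_succ', Module.End.mul_apply, ← map_sub]
    exact apply_mem_low x N₀ hl

variable [Module R N] [IsScalarTower R T N]

theorem exists_bound [IsReduced R] (hT : GenFG R T) [Module.Finite T N₀] (K : ℕ → Submodule T N₀)
    (hK : Monotone K) {a : R} (ha : a ≠ 0) :
    ∃ f : R, a ∣ f ∧ f ≠ 0 ∧ ∃ i₀, ∃ G : Set N₀, G.Finite ∧ G ⊆ K i₀ ∧
      ∀ i, ∀ u ∈ K i, ∃ k : ℕ, f ^ k • u ∈ Submodule.span T G := by
  obtain ⟨f, haf, hf, G, hGf, hGK, h⟩ := hT N₀ (⨆ i, K i) a ha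
  have hex : ∀ g ∈ G, ∃ i, g ∈ K i := fun g hg =>
    (Submodule.mem_iSup_of_directed _ hK.directed_le).mp (hGK hg)
  choose! deg hdeg using hex
  obtain ⟨i₀, hi₀⟩ : ∃ i₀, ∀ g ∈ G, deg g ≤ i₀ :=
    ⟨hGf.toFinset.sup deg, fun g hg => Finset.le_sup (hGf.mem_toFinset.mpr hg)⟩
  exact ⟨f, haf, hf, i₀, G, hGf, fun g hg => hK (hi₀ g hg) (hdeg g hg),
    fun i u hu => h u (Submodule.mem_iSup_of_mem i hu)⟩

/-- Generic finite generation: the inductive step (a generic Hilbert basis theorem). -/
theorem exists_generators_step [IsReduced R] (hT : GenFG R T) [Module.Finite T N₀]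
    (hgen : ∀ U : Submodule T N, N₀ ≤ U → (∀ m ∈ U, x m ∈ U) → U = ⊤)
    (J : Submodule T N) (hJ : ∀ m ∈ J, x m ∈ J) {a : R} (ha : a ≠ 0) :
    ∃ f : R, a ∣ f ∧ f ≠ 0 ∧ ∃ G : Set N, G.Finite ∧ G ⊆ J ∧
      ∀ U : Submodule T N, G ⊆ U → (∀ m ∈ U, x m ∈ U) → ∀ m ∈ J, ∃ k : ℕ, f ^ k • m ∈ U := by
  obtain ⟨f₀, haf, hf₀, i₀, G₀, hG₀f, hG₀, hstab⟩ :=
    exists_bound N₀ hT (lead x N₀ J) (lead_mono x N₀ hJ) ha
  have key : ∀ n, n ≤ i₀ + 1 → ∃ f, f₀ ∣ f ∧ f ≠ 0 ∧ ∃ G : Set N, G.Finite ∧ G ⊆ J ∧
      ∀ U : Submodule T N, G ⊆ U → (∀ m ∈ U, x m ∈ U) → ∀ i < n, ∀ u ∈ lead x N₀ J i,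
        ∃ k : ℕ, f ^ k • u ∈ lead x N₀ U i := by
    intro n
    induction n with
    | zero =>
      exact fun _ => ⟨f₀, dvd_rfl, hf₀, ∅, Set.finite_empty, Set.empty_subset _,
        fun _ _ _ i hi => absurd hi (Nat.not_lt_zero i)⟩
    | succ n ih =>
      intro hn
      obtain ⟨f, hdvd, hf, G, hGf, hGJ, hG⟩ := ih (by omega)
      obtain ⟨g, hfg, hg, H, hHf, hHle, hH⟩ := hT N₀ (lead x N₀ J n) f hf
      have hex : ∀ u ∈ H, ∃ j ∈ J, j - (x ^ n) u ∈ low x N₀ n := fun u hu =>
        (mem_lead x N₀).mp (hHle hu)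
      choose! lift hlift hlift' using hex
      refine ⟨g, hdvd.trans hfg, hg, G ∪ lift '' H, hGf.union (hHf.image _),
        Set.union_subset hGJ (by rintro _ ⟨u, hu, rfl⟩; exact hlift u hu),
        fun U hGU hxU i hi u hu => ?_⟩
      rcases Nat.lt_succ_iff_lt_or_eq.mp hi with hi | rfl
      · obtain ⟨k, hk⟩ := hG U (Set.subset_union_left.trans hGU) hxU i hi u hu
        obtain ⟨c, rfl⟩ := hfg
        exact ⟨k, by rw [mul_pow, mul_comm, mul_smul]; exact Submodule.smul_of_tower_mem _ _ hk⟩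
      · obtain ⟨k, hk⟩ := hH u hu
        exact ⟨k, (Submodule.span_le.mpr fun g hg => (mem_lead x N₀).mpr
          ⟨lift g, hGU (Or.inr ⟨g, hg, rfl⟩), hlift' g hg⟩ :
            Submodule.span T H ≤ lead x N₀ U i) hk⟩
  obtain ⟨f, hdvd, hf, G, hGf, hGJ, hG⟩ := key (i₀ + 1) le_rfl
  refine ⟨f, haf.trans hdvd, hf, G, hGf, hGJ, fun U₁ hGU₁ hxU₁ => ?_⟩
  suffices H : ∀ U : Submodule T N, U ≤ J → G ⊆ U → (∀ m ∈ U, x m ∈ U) →
      ∀ m ∈ J, ∃ k : ℕ, f ^ k • m ∈ U by
    intro m hm
    obtain ⟨k, hk⟩ := H (U₁ ⊓ J) inf_le_right (fun g hg => ⟨hGU₁ hg, hGJ hg⟩)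
      (fun m hm => ⟨hxU₁ m hm.1, hJ m hm.2⟩) m hm
    exact ⟨k, hk.1⟩
  intro U hUJ hGU hxU
  have hlead : ∀ i, ∀ u ∈ lead x N₀ J i, ∃ k : ℕ, f ^ k • u ∈ lead x N₀ U i := by
    intro i u hu
    by_cases hi : i < i₀ + 1
    · exact hG U hGU hxU i hi u hu
    obtain ⟨k, hk⟩ := hstab i u hu
    have hkey : ∀ y ∈ Submodule.span T G₀, ∃ l : ℕ, f ^ l • y ∈ lead x N₀ U i := by
      intro y hy
      obtain ⟨l, hl⟩ := hG U hGU hxU i₀ (by omega) y ((Submodule.span_le.mpr hG₀) hy)
      exact ⟨l, lead_mono x N₀ hxU (by omega) hl⟩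
    obtain ⟨c, hc⟩ := hdvd
    obtain ⟨l, hl⟩ := hkey (f ^ k • u) (by
      rw [hc, mul_pow, mul_comm, mul_smul]; exact Submodule.smul_of_tower_mem _ _ hk)
    exact ⟨l + k, by rw [pow_add, mul_smul]; exact hl⟩
  have main : ∀ n, ∀ m ∈ J, m ∈ low x N₀ n → ∃ k : ℕ, f ^ k • m ∈ U := by
    intro n
    induction n with
    | zero =>
      intro m _ hm
      rw [low_zero, Submodule.mem_bot] at hm
      exact ⟨0, by simp [hm]⟩
    | succ n ih =>
      intro m hmJ hm
      rw [low_succ, Submodule.mem_sup] at hm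
      obtain ⟨m₁, hm₁, _, ⟨u, hu, rfl⟩, rfl⟩ := hm
      have hlu : (⟨u, hu⟩ : N₀) ∈ lead x N₀ J n :=
        (mem_lead x N₀).mpr ⟨_, hmJ, by rw [add_sub_cancel_right]; exact hm₁⟩
      obtain ⟨k, hk⟩ := hlead n _ hlu
      obtain ⟨j, hjU, hj⟩ := (mem_lead x N₀).mp hk
      have hjJ : j ∈ J := hUJ hjU
      obtain ⟨l, hl⟩ := ih (f ^ k • (m₁ + (x ^ n) u) - j)
        (J.sub_mem (Submodule.smul_of_tower_mem _ _ hmJ) hjJ) (by
          have e : f ^ k • (m₁ + (x ^ n) u) - j =
              f ^ k • m₁ - (j - (x ^ n) ((f ^ k • (⟨u, hu⟩ : N₀) : N₀) : N)) := by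
            rw [Submodule.coe_smul_of_tower, LinearMap.map_smul_of_tower, smul_add]
            abel
          rw [e]
          exact sub_mem (Submodule.smul_of_tower_mem _ _ hm₁) hj)
      refine ⟨l + k, ?_⟩
      rw [pow_add, mul_smul]
      have := U.add_mem hl (Submodule.smul_of_tower_mem U (f ^ l) hjU)
      rwa [← smul_add, sub_add_cancel] at this
  intro m hm
  obtain ⟨n, hn⟩ := exists_mem_low x N₀ hgen m
  exact main n m hm hn

end Step

section StepFree

variable {T : Type u} [CommRing T] [Algebra R T] {N : Type u} [AddCommGroup N] [Module T N]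
  (x : N →ₗ[T] N) (N₀ : Submodule T N) [Module R N] [IsScalarTower R T N]

/-- Generic freeness: the inductive step. -/
theorem exists_free_step [IsReduced R] (hT : GenFG R T) (hF : GenFree R T) [Module.Finite T N₀]
    (hgen : ∀ U : Submodule T N, N₀ ≤ U → (∀ m ∈ U, x m ∈ U) → U = ⊤) {a : R} (ha : a ≠ 0) :
    ∃ f : R, a ∣ f ∧ f ≠ 0 ∧ FreeAt f N := by
  classical
  let K : ℕ → Submodule T N₀ := lead x N₀ ⊥
  have hK : Monotone K := lead_mono x N₀ (fun m hm => by
    rw [Submodule.mem_bot] at hm ⊢; rw [hm, map_zero])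
  have hKmem : ∀ i (u : N₀), u ∈ K i ↔ (x ^ i) u ∈ low x N₀ i := fun i u => by
    simp only [K, lead, bot_sup_eq, Submodule.mem_comap, LinearMap.comp_apply, Submodule.subtype_apply]
  obtain ⟨f₀, haf, hf₀, i₀, G₀, -, hG₀, hstab⟩ := exists_bound N₀ hT K hK ha
  have key : ∀ n, ∃ f, f₀ ∣ f ∧ f ≠ 0 ∧ ∀ i < n, FreeAt f (N₀ ⧸ K i) := by
    intro n
    induction n with
    | zero => exact ⟨f₀, dvd_rfl, hf₀, fun i hi => absurd hi (Nat.not_lt_zero i)⟩
    | succ n ih =>
      obtain ⟨f, hdvd, hf, h⟩ := ih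
      obtain ⟨g, hfg, hg, hg'⟩ := hF (N₀ ⧸ K n) f hf
      refine ⟨g, hdvd.trans hfg, hg, fun i hi => ?_⟩
      rcases Nat.lt_succ_iff_lt_or_eq.mp hi with hi | rfl
      · exact (h i hi).of_dvd hfg
      · exact hg'
  obtain ⟨f, hdvd, hf, hlow⟩ := key (i₀ + 1)
  have hfree : ∀ i, FreeAt f (N₀ ⧸ K i) := by
    intro i
    rcases Nat.lt_or_ge i (i₀ + 1) with h | h
    · exact hlow i h
    · refine (hlow i₀ (by omega)).of_surjective
        ((Submodule.factor (hK (by omega : i₀ ≤ i))).restrictScalars R)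
        (Submodule.factor_surjective (hK (by omega : i₀ ≤ i))) fun m hm => ?_
      obtain ⟨u, rfl⟩ := Submodule.Quotient.mk_surjective _ m
      obtain ⟨k, hk⟩ := hstab i u ((Submodule.Quotient.mk_eq_zero _).mp hm)
      obtain ⟨c, hc⟩ := hdvd
      refine ⟨k, ?_⟩
      rw [← Submodule.Quotient.mk_smul, Submodule.Quotient.mk_eq_zero, hc, mul_pow, mul_comm,
        mul_smul]
      exact Submodule.smul_of_tower_mem _ _ ((Submodule.span_le.mpr hG₀) hk)
  choose ι v hv hspan using hfree
  choose w hw using fun i (l : ι i) => Submodule.Quotient.mk_surjective (K i) (v i l)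
  let V : (Σ i, ι i) → N := fun p => (x ^ p.1) (w p.1 p.2)
  have hsp : ∀ n, ∀ m ∈ low x N₀ n, ∃ k, f ^ k • m ∈ Submodule.span R (Set.range V) := by
    intro n
    induction n with
    | zero =>
      intro m hm
      rw [low_zero, Submodule.mem_bot] at hm
      exact ⟨0, by simp [hm]⟩
    | succ n ih =>
      intro m hm
      rw [low_succ, Submodule.mem_sup] at hm
      obtain ⟨m₁, hm₁, _, ⟨u, hu, rfl⟩, rfl⟩ := hm
      obtain ⟨k, hk⟩ := hspan n (Submodule.Quotient.mk ⟨u, hu⟩)
      obtain ⟨c, hc⟩ := Finsupp.mem_span_range_iff_exists_finsupp.mp hk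
      let d : N₀ := f ^ k • (⟨u, hu⟩ : N₀) - c.sum fun l r => r • w n l
      have hd : d ∈ K n := by
        rw [← Submodule.Quotient.mk_eq_zero (K n)]
        change (K n).mkQ.restrictScalars R (f ^ k • (⟨u, hu⟩ : N₀) - c.sum fun l r => r • w n l) = 0
        rw [map_sub, map_smul, map_finsuppSum]
        simp only [map_smul, LinearMap.coe_restrictScalars, Submodule.mkQ_apply, hw, hc, sub_self]
      obtain ⟨k₁, hk₁⟩ := ih m₁ hm₁
      obtain ⟨k₂, hk₂⟩ := ih _ ((hKmem n d).mp hd)
      let L : N₀ →ₗ[R] N := ((x ^ n).comp N₀.subtype).restrictScalars R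
      have hsum : L (c.sum fun l r => r • w n l) ∈ Submodule.span R (Set.range V) := by
        rw [map_finsuppSum]
        refine sum_mem fun l _ => ?_
        simp only [map_smul]
        exact Submodule.smul_mem _ _ (Submodule.subset_span ⟨⟨n, l⟩, rfl⟩)
      refine ⟨k₁ + (k + k₂), ?_⟩
      rw [smul_add]
      refine add_mem ?_ ?_
      · rw [pow_add, mul_comm, mul_smul]; exact Submodule.smul_mem _ _ hk₁
      · rw [pow_add, mul_smul]
        refine Submodule.smul_mem _ _ ?_
        have e : f ^ (k + k₂) • (x ^ n) u = f ^ k₂ • L d + f ^ k₂ • L (c.sum fun l r => r • w n l) := by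
          rw [← smul_add, ← map_add]
          simp only [d, sub_add_cancel, map_smul]
          rw [pow_add, mul_comm, mul_smul]
          rfl
        rw [e]
        exact add_mem hk₂ (Submodule.smul_mem _ _ hsum)
  refine ⟨f, haf.trans hdvd, hf, _, V, fun c hc => ?_, fun m => ?_⟩
  · let I : Finset ℕ := c.support.image Sigma.fst
    let F : (i : ℕ) → Finset (ι i) := fun i =>
      c.support.preimage (fun l => ⟨i, l⟩) sigma_mk_injective.injOn
    have hterm : ∀ n, ∀ d : (Σ i, ι i) → R,
        ∑ i ∈ Finset.range n, (x ^ i) (∑ l ∈ F i, d ⟨i, l⟩ • w i l : N₀) = 0 →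
        ∀ i < n, ∀ l ∈ F i, f * d ⟨i, l⟩ = 0 := by
      intro n
      induction n with
      | zero => exact fun _ _ i hi => absurd hi (Nat.not_lt_zero i)
      | succ n ih =>
        intro d h0
        rw [Finset.sum_range_succ, add_comm, add_eq_zero_iff_eq_neg] at h0
        have hmemN : (∑ l ∈ F n, d ⟨n, l⟩ • w n l : N₀) ∈ K n := by
          rw [hKmem, h0]
          exact neg_mem (sum_mem fun i hi => mem_low x N₀ (Finset.mem_range.mp hi) (Subtype.prop _))
        have hzero : ∑ l ∈ F n, d ⟨n, l⟩ • v n l = 0 := by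
          rw [← Submodule.Quotient.mk_eq_zero (K n)] at hmemN
          change (K n).mkQ.restrictScalars R (∑ l ∈ F n, d ⟨n, l⟩ • w n l) = 0 at hmemN
          rw [map_sum] at hmemN
          simpa only [map_smul, LinearMap.coe_restrictScalars, Submodule.mkQ_apply, hw] using hmemN
        have hn : ∀ l ∈ F n, f * d ⟨n, l⟩ = 0 := by
          intro l hl
          have := hv n (Finsupp.onFinset (F n) (fun l => if l ∈ F n then d ⟨n, l⟩ else 0)
            (fun l hl => by by_contra h; exact hl (if_neg h))) (by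
              rw [Finsupp.linearCombination_apply, Finsupp.onFinset_sum]
              rotate_left
              · exact fun _ => zero_smul _ _
              rw [← hzero]
              exact Finset.sum_congr rfl fun l hl => by rw [if_pos hl])
          simpa [if_pos hl] using DFunLike.congr_fun this l
        intro i hi
        rcases Nat.lt_succ_iff_lt_or_eq.mp hi with hi | rfl
        · intro l hl
          have h1 : ∑ i ∈ Finset.range n, (x ^ i) (∑ l ∈ F i, (f * d ⟨i, l⟩) • w i l : N₀) = 0 := by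
            have h2 : f • ((x ^ n) ((∑ l ∈ F n, d ⟨n, l⟩ • w n l : N₀) : N)) = 0 := by
              have : f • (∑ l ∈ F n, d ⟨n, l⟩ • w n l : N₀) = 0 := by
                rw [Finset.smul_sum]
                exact Finset.sum_eq_zero fun l hl => by rw [smul_smul, hn l hl, zero_smul]
              rw [← LinearMap.map_smul_of_tower, ← Submodule.coe_smul_of_tower, this,
                ZeroMemClass.coe_zero, map_zero]
            rw [h0, smul_neg, neg_eq_zero, Finset.smul_sum] at h2
            rw [← h2]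
            refine Finset.sum_congr rfl fun i _ => ?_
            rw [← LinearMap.map_smul_of_tower, ← Submodule.coe_smul_of_tower, Finset.smul_sum]
            simp only [smul_smul]
          have := ih (fun p => f * d p) h1 i hi l hl
          refine IsReduced.eq_zero _ ⟨2, ?_⟩
          calc (f * d ⟨i, l⟩) ^ 2 = f * (f * d ⟨i, l⟩) * d ⟨i, l⟩ := by ring
            _ = 0 := by rw [this, zero_mul]
        · exact hn
    obtain ⟨n, hn⟩ : ∃ n, I ⊆ Finset.range n :=
      ⟨I.sup id + 1, fun i hi => Finset.mem_range.mpr (Nat.lt_succ_of_le (Finset.le_sup (f := id) hi))⟩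
    have hs' : c.support = (Finset.range n).sigma F := by
      ext ⟨i, l⟩
      simp only [F, Finset.mem_sigma, Finset.mem_preimage, Finset.mem_range, iff_and_self]
      exact fun h => Finset.mem_range.mp (hn (Finset.mem_image_of_mem _ h))
    have h0 : ∑ i ∈ Finset.range n, (x ^ i) (∑ l ∈ F i, c ⟨i, l⟩ • w i l : N₀) = 0 := by
      rw [← hc, Finsupp.linearCombination_apply, Finsupp.sum, hs', Finset.sum_sigma]
      refine Finset.sum_congr rfl fun i _ => ?_
      rw [Submodule.coe_sum, map_sum]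
      exact Finset.sum_congr rfl fun l _ => by
        rw [Submodule.coe_smul_of_tower, LinearMap.map_smul_of_tower]
    ext p
    obtain ⟨i, l⟩ := p
    simp only [Finsupp.coe_smul, Pi.smul_apply, smul_eq_mul, Finsupp.coe_zero, Pi.zero_apply]
    by_cases hp : (⟨i, l⟩ : Σ i, ι i) ∈ c.support
    · exact hterm n c h0 i (Finset.mem_range.mp (hn (Finset.mem_image_of_mem _ hp))) l
        (Finset.mem_preimage.mpr hp)
    · rw [Finsupp.notMem_support_iff.mp hp, mul_zero]
  · obtain ⟨i, hi⟩ := exists_mem_low x N₀ hgen m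
    exact hsp i m hi

end StepFree

/-! ### Polynomial rings and finite type algebras -/

section Poly

variable {n : ℕ}

theorem genFG_of_algEquiv {T T' : Type u} [CommRing T] [CommRing T'] [Algebra R T] [Algebra R T']
    (π : T →ₐ[R] T') (hπ : Function.Surjective π) (h : GenFG R T) : GenFG R T' := by
  intro N _ _ _ _ hfin J a ha
  let := π.toRingHom.toAlgebra
  let : Module T N := Module.compHom N π.toRingHom
  have : IsScalarTower T T' N := IsScalarTower.of_algebraMap_smul fun _ _ => rfl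
  have : IsScalarTower R T N := IsScalarTower.of_algebraMap_smul fun r m => by
    show π (algebraMap R T r) • m = r • m
    rw [π.commutes, algebraMap_smul]
  have : Module.Finite T T' := Module.Finite.of_surjective (Algebra.linearMap T T') hπ
  have : Module.Finite T N := Module.Finite.trans T' N
  obtain ⟨f, haf, hf, G, hGf, hGJ, hG⟩ := h N (J.restrictScalars T) a ha
  refine ⟨f, haf, hf, G, hGf, hGJ, fun m hm => ?_⟩
  obtain ⟨k, hk⟩ := hG m hm
  exact ⟨k, (Submodule.span_le.mpr Submodule.subset_span :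
    Submodule.span T G ≤ (Submodule.span T' G).restrictScalars T) hk⟩

theorem genFree_of_algEquiv {T T' : Type u} [CommRing T] [CommRing T'] [Algebra R T] [Algebra R T']
    (π : T →ₐ[R] T') (hπ : Function.Surjective π) (h : GenFree R T) : GenFree R T' := by
  intro N _ _ _ _ hfin a ha
  let := π.toRingHom.toAlgebra
  let : Module T N := Module.compHom N π.toRingHom
  have : IsScalarTower T T' N := IsScalarTower.of_algebraMap_smul fun _ _ => rfl
  have : IsScalarTower R T N := IsScalarTower.of_algebraMap_smul fun r m => by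
    show π (algebraMap R T r) • m = r • m
    rw [π.commutes, algebraMap_smul]
  have : Module.Finite T T' := Module.Finite.of_surjective (Algebra.linearMap T T') hπ
  have : Module.Finite T N := Module.Finite.trans T' N
  exact h N a ha

theorem genFG_genFree_mvPolynomial [IsReduced R] (n : ℕ) :
    GenFG R (MvPolynomial (Fin n) R) ∧ GenFree R (MvPolynomial (Fin n) R) := by
  induction n with
  | zero =>
    exact ⟨genFG_of_algEquiv (isEmptyAlgEquiv R (Fin 0)).symm.toAlgHom
        (isEmptyAlgEquiv R (Fin 0)).symm.surjective genFG_self,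
      genFree_of_algEquiv (isEmptyAlgEquiv R (Fin 0)).symm.toAlgHom
        (isEmptyAlgEquiv R (Fin 0)).symm.surjective genFree_self⟩
  | succ n ih =>
    have key : ∀ (Q : Type u) [AddCommGroup Q] [Module (MvPolynomial (Fin (n + 1)) R) Q] [Module R Q]
        [IsScalarTower R (MvPolynomial (Fin (n + 1)) R) Q]
        [Module.Finite (MvPolynomial (Fin (n + 1)) R) Q],
        ∃ (_ : Module (MvPolynomial (Fin n) R) Q) (_ : IsScalarTower R (MvPolynomial (Fin n) R) Q)
          (x : Q →ₗ[MvPolynomial (Fin n) R] Q) (N₀ : Submodule (MvPolynomial (Fin n) R) Q),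
          Module.Finite (MvPolynomial (Fin n) R) N₀ ∧
          (∀ U : Submodule (MvPolynomial (Fin n) R) Q, N₀ ≤ U → (∀ m ∈ U, x m ∈ U) → U = ⊤) ∧
          (∀ J : Submodule (MvPolynomial (Fin (n + 1)) R) Q,
            ∃ J' : Submodule (MvPolynomial (Fin n) R) Q, (∀ m, m ∈ J' ↔ m ∈ J) ∧
              ∀ m ∈ J', x m ∈ J') := by
      intro Q _ _ _ _ hfin
      let φ : MvPolynomial (Fin n) R →ₐ[R] MvPolynomial (Fin (n + 1)) R := rename Fin.succ
      let : Module (MvPolynomial (Fin n) R) Q := Module.compHom Q φ.toRingHom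
      have hsmul : ∀ (t : MvPolynomial (Fin n) R) (m : Q), t • m = φ t • m := fun _ _ => rfl
      have htow : IsScalarTower R (MvPolynomial (Fin n) R) Q := ⟨fun r t m => by
        rw [hsmul, hsmul, map_smul, smul_assoc]⟩
      let x : Q →ₗ[MvPolynomial (Fin n) R] Q :=
        { toFun := fun m => (X 0 : MvPolynomial (Fin (n + 1)) R) • m
          map_add' := smul_add _
          map_smul' := fun t m => by simp only [RingHom.id_apply, hsmul]; rw [smul_comm] }
      obtain ⟨G, hG⟩ := hfin.fg_top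
      refine ⟨inferInstance, htow, x, Submodule.span _ (G : Set Q), .span_of_finite _ G.finite_toSet,
        fun U hGU hxU => ?_, fun J => ⟨Submodule.mk ⟨⟨(J : Set Q), J.add_mem⟩, J.zero_mem⟩
          (fun t m hm => J.smul_mem (φ t) hm), fun m => Iff.rfl, fun m hm => J.smul_mem _ hm⟩⟩
      have hp : ∀ (p : MvPolynomial (Fin (n + 1)) R), ∀ m ∈ U, p • m ∈ U := by
        intro p
        induction p using MvPolynomial.induction_on with
        | C a =>
          intro m hm
          have : (C a : MvPolynomial (Fin (n + 1)) R) • m = (C a : MvPolynomial (Fin n) R) • m := by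
            rw [hsmul, show φ (C a) = C a from rename_C _ _]
          rw [this]
          exact U.smul_mem _ hm
        | add p q hp hq => intro m hm; rw [add_smul]; exact add_mem (hp m hm) (hq m hm)
        | mul_X p i hp =>
          intro m hm
          rw [mul_smul]
          refine hp _ ?_
          induction i using Fin.cases with
          | zero => exact hxU m hm
          | succ i =>
            have : (X i.succ : MvPolynomial (Fin (n + 1)) R) • m =
                (X i : MvPolynomial (Fin n) R) • m := by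
              rw [hsmul, show φ (X i) = X i.succ from rename_X _ _]
            rw [this]
            exact U.smul_mem _ hm
      let U' : Submodule (MvPolynomial (Fin (n + 1)) R) Q :=
        { carrier := U, zero_mem' := U.zero_mem, add_mem' := U.add_mem, smul_mem' := hp }
      refine eq_top_iff.mpr fun m _ => ?_
      have : Submodule.span (MvPolynomial (Fin (n + 1)) R) (G : Set Q) ≤ U' :=
        Submodule.span_le.mpr fun g hg => hGU (Submodule.subset_span hg)
      rw [hG] at this
      exact this (trivial : m ∈ (⊤ : Submodule (MvPolynomial (Fin (n + 1)) R) Q))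
    refine ⟨?_, ?_⟩
    · intro Q _ _ _ _ _ J a ha
      obtain ⟨_, _, x, N₀, _, hgen, hJ⟩ := key Q
      obtain ⟨J', hJ', hxJ⟩ := hJ J
      obtain ⟨f, haf, hf, G, hGf, hGJ, hG⟩ := exists_generators_step x N₀ ih.1 hgen J' hxJ ha
      refine ⟨f, haf, hf, G, hGf, fun g hg => (hJ' g).mp (hGJ hg), fun m hm => ?_⟩
      obtain ⟨J'', hJ'', hxJ''⟩ := hJ (Submodule.span (MvPolynomial (Fin (n + 1)) R) G)
      obtain ⟨k, hk⟩ := hG J'' (fun g hg => (hJ'' g).mpr (Submodule.subset_span hg)) hxJ'' m
        ((hJ' m).mpr hm)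
      exact ⟨k, (hJ'' _).mp hk⟩
    · intro Q _ _ _ _ _ a ha
      obtain ⟨_, _, x, N₀, _, hgen, -⟩ := key Q
      exact exists_free_step x N₀ ih.1 ih.2 hgen ha

end Poly

theorem genFG [IsReduced R] (S : Type u) [CommRing S] [Algebra R S] [Algebra.FiniteType R S] :
    GenFG R S := by
  obtain ⟨n, π, hπ⟩ := Algebra.FiniteType.iff_quotient_mvPolynomial''.mp ‹Algebra.FiniteType R S›
  exact genFG_of_algEquiv π hπ (genFG_genFree_mvPolynomial n).1

theorem genFree [IsReduced R] (S : Type u) [CommRing S] [Algebra R S] [Algebra.FiniteType R S] :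
    GenFree R S := by
  obtain ⟨n, π, hπ⟩ := Algebra.FiniteType.iff_quotient_mvPolynomial''.mp ‹Algebra.FiniteType R S›
  exact genFree_of_algEquiv π hπ (genFG_genFree_mvPolynomial n).2

end Groth.Agent.FlatMisc.GenericFree
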