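import Mathlib.AlgebraicGeometry.Morphisms.Affine

set_option autoImplicit false
set_option backward.isDefEq.respectTransparency.types false
set_option backward.isDefEq.respectTransparency false

universe u

open CategoryTheory CategoryTheory.Limits AlgebraicGeometry Opposite TopologicalSpace

namespace Groth.Agent.FlatMisc.AffineOfEmb

variable {W Z : Scheme.{u}} (f : W ⟶ Z)

/-- A closed topological embedding of schemes is affine. -/
theorem isAffineHom_of_isClosedEmbedding (hf : Topology.IsClosedEmbedding f) : IsAffineHom f := by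
  let S := {V : Z.affineOpens // IsAffineOpen (f ⁻¹ᵁ V.1)}
  suffices hS : ⨆ V : S, (V.1.1 : Z.Opens) = ⊤ from
    IsZariskiLocalAtTarget.of_iSup_eq_top (P := @IsAffineHom) (fun V : S => V.1.1) hS fun V => by
      have : IsAffine V.1.1 := V.1.2
      exact (HasAffineProperty.iff_of_isAffine (P := @IsAffineHom)).2 V.2
  refine eq_top_iff.2 fun z _ => ?_
  by_cases hz : z ∈ Set.range f
  · obtain ⟨w, rfl⟩ := hz
    obtain ⟨_, ⟨V, hV, rfl⟩, hwV, -⟩ := Z.isBasis_affineOpens.exists_subset_of_mem_open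
      (Set.mem_univ (f w)) isOpen_univ
    obtain ⟨_, ⟨U, hU, rfl⟩, hwU, hUV⟩ := W.isBasis_affineOpens.exists_subset_of_mem_open
      (show w ∈ (f ⁻¹ᵁ V : Set W) from hwV) (f ⁻¹ᵁ V).2
    obtain ⟨O, hO, hOU⟩ := hf.isInducing.isOpen_iff.mp U.2
    obtain ⟨a, haO, hfa⟩ := hV.exists_basicOpen_le (V := ⟨O, hO⟩)
      ⟨f w, (Set.ext_iff.mp hOU w).mpr hwU⟩ hwV
    refine Opens.mem_iSup.2 ⟨⟨⟨Z.basicOpen a, hV.basicOpen a⟩, ?_⟩, hfa⟩
    have h2 : f ⁻¹ᵁ Z.basicOpen a ≤ U := fun x hx => (Set.ext_iff.mp hOU x).mp (haO hx)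
    change IsAffineOpen (f ⁻¹ᵁ Z.basicOpen a)
    have e : f ⁻¹ᵁ Z.basicOpen a = W.basicOpen (W.presheaf.map (homOfLE hUV).op (f.app V a)) := by
      rw [Scheme.basicOpen_res, Scheme.preimage_basicOpen]
      exact (inf_eq_right.2 (by rw [← Scheme.preimage_basicOpen]; exact h2)).symm
    exact e ▸ hU.basicOpen _
  · obtain ⟨_, ⟨V, hV, rfl⟩, hzV, hVsub⟩ := Z.isBasis_affineOpens.exists_subset_of_mem_open
      (show z ∈ (Set.range f)ᶜ from hz) hf.isClosed_range.isOpen_compl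
    refine Opens.mem_iSup.2 ⟨⟨⟨V, hV⟩, ?_⟩, hzV⟩
    have e : f ⁻¹ᵁ V = ⊥ := by
      rw [eq_bot_iff]
      intro x hx
      exact absurd ⟨x, rfl⟩ (hVsub hx)
    show IsAffineOpen (f ⁻¹ᵁ V)
    rw [e]
    exact isAffineOpen_bot W

end Groth.Agent.FlatMisc.AffineOfEmb
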