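import Mathlib.RingTheory.ZariskisMainTheorem
import Mathlib.RingTheory.NoetherNormalization
import Mathlib.RingTheory.LocalRing.ResidueField.Fiber
import Mathlib.RingTheory.KrullDimension.Polynomial
import Mathlib.RingTheory.TensorProduct.MvPolynomial
import Mathlib.RingTheory.Ideal.GoingUp
import Mathlib.RingTheory.Ideal.HasGoingUp
import Mathlib.RingTheory.KrullDimension.Field
import Mathlib.RingTheory.RingHom.FinitePresentation
import Mathlib.Topology.Separation.Basic

/-! Upper semicontinuity of the dimension of fibres, algebraic form (EGA IV 13.1.3). -/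

set_option autoImplicit false

universe u

open TensorProduct

namespace Groth.Agent.FlatMisc.FibreDimOpen

variable {A B : Type u} [CommRing A] [CommRing B] [Algebra A B]

/-- Dimension is unchanged along injective integral extensions (one inequality). -/
theorem ringKrullDim_le_of_integral (R : Type u) [CommRing R] (S : Type u) [CommRing S] [Algebra R S]
    [Algebra.IsIntegral R S] (hinj : Function.Injective (algebraMap R S)) :
    ringKrullDim R ≤ ringKrullDim S := by
  refine iSup_le fun l => ?_
  obtain ⟨P, -, hP, hPl⟩ := Ideal.exists_ideal_over_prime_of_isIntegral l.head.asIdeal (⊥ : Ideal S)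
    (by rw [← RingHom.ker_eq_comap_bot, (RingHom.injective_iff_ker_eq_bot _).1 hinj]; exact bot_le)
  have : P.LiesOver l.head.asIdeal := ⟨hPl.symm⟩
  obtain ⟨L, hL, -⟩ := Ideal.exists_ltSeries_of_hasGoingUp l P
  exact le_iSup_of_le L (le_of_eq (by rw [hL]))

/-- A chain of primes in a fibre of the affine space has bounded length. -/
theorem length_le_of_chain_mvPolynomial (m : ℕ) (l : LTSeries (PrimeSpectrum (MvPolynomial (Fin m) A)))
    (hl : ∀ i, PrimeSpectrum.comap (algebraMap A (MvPolynomial (Fin m) A)) (l i) =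
      PrimeSpectrum.comap (algebraMap A (MvPolynomial (Fin m) A)) l.head) :
    l.length ≤ m := by
  let p := PrimeSpectrum.comap (algebraMap A (MvPolynomial (Fin m) A)) l.head
  let e := PrimeSpectrum.preimageOrderIsoFiber A (MvPolynomial (Fin m) A) p
  let l₂ : LTSeries (PrimeSpectrum (p.asIdeal.Fiber (MvPolynomial (Fin m) A))) :=
    LTSeries.mk l.length (fun i => e ⟨l i, hl i⟩) fun i j hij =>
      e.strictMono (show (⟨l i, hl i⟩ : PrimeSpectrum.comap (algebraMap A (MvPolynomial (Fin m) A)) ⁻¹' {p}) <
        ⟨l j, hl j⟩ from l.strictMono hij)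
  have h1 : (l₂.length : WithBot ℕ∞) ≤ ringKrullDim (p.asIdeal.Fiber (MvPolynomial (Fin m) A)) :=
    le_iSup (fun l : LTSeries (PrimeSpectrum (p.asIdeal.Fiber (MvPolynomial (Fin m) A))) =>
      (l.length : WithBot ℕ∞)) l₂
  have h2 : ringKrullDim (p.asIdeal.Fiber (MvPolynomial (Fin m) A)) = m := by
    rw [ringKrullDim_eq_of_ringEquiv
      (MvPolynomial.algebraTensorAlgEquiv A p.asIdeal.ResidueField (σ := Fin m)).toRingEquiv,
      MvPolynomial.ringKrullDim_of_isNoetherianRing, ringKrullDim_eq_zero_of_field, zero_add, Nat.card_fin]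
  rw [h2] at h1
  exact_mod_cast h1

/-- If the fibre through `P` has dimension at most `n` near `P`, then so have all fibres near `P`. -/
theorem exists_bound [Algebra.FiniteType A B] (P : PrimeSpectrum B) (n : ℕ) (g : B) (hg : g ∉ P.asIdeal)
    (h : ∀ l : LTSeries (PrimeSpectrum B),
      (∀ i, PrimeSpectrum.comap (algebraMap A B) (l i) = PrimeSpectrum.comap (algebraMap A B) P) →
      (∀ i, g ∉ (l i).asIdeal) → l.length ≤ n) :
    ∃ r : B, r ∉ P.asIdeal ∧ ∀ l : LTSeries (PrimeSpectrum B),
      (∀ i, PrimeSpectrum.comap (algebraMap A B) (l i) = PrimeSpectrum.comap (algebraMap A B) l.head) →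
      (∀ i, r ∉ (l i).asIdeal) → l.length ≤ n := by
  classical
  let p := PrimeSpectrum.comap (algebraMap A B) P
  let Bg := Localization.Away g
  have : Algebra.FiniteType B Bg :=
    haveI := IsLocalization.Away.finitePresentation g (S := Bg)
    inferInstance
  have : Algebra.FiniteType A Bg := Algebra.FiniteType.trans (S := B) ‹_› ‹_›
  let F := p.asIdeal.Fiber Bg
  have hrange := PrimeSpectrum.localization_away_comap_range Bg g
  obtain ⟨P', hP'⟩ : ∃ P' : PrimeSpectrum Bg, PrimeSpectrum.comap (algebraMap B Bg) P' = P := by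
    have : P ∈ Set.range (PrimeSpectrum.comap (algebraMap B Bg)) := by rw [hrange]; exact hg
    exact this
  have hcomap : ∀ Q : PrimeSpectrum Bg, PrimeSpectrum.comap (algebraMap A Bg) Q =
      PrimeSpectrum.comap (algebraMap A B) (PrimeSpectrum.comap (algebraMap B Bg) Q) := fun Q => by
    rw [IsScalarTower.algebraMap_eq A B Bg, PrimeSpectrum.comap_comp]
    rfl
  have hP'p : PrimeSpectrum.comap (algebraMap A Bg) P' = p := by rw [hcomap, hP']
  let e := PrimeSpectrum.preimageOrderIsoFiber A Bg p
  have hdim : ringKrullDim F ≤ n := by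
    refine iSup_le fun l => ?_
    let l₁ : LTSeries (PrimeSpectrum B) := LTSeries.mk l.length
      (fun i => PrimeSpectrum.comap (algebraMap B Bg) (e.symm (l i)).1) fun i j hij => by
        have h1 : (e.symm (l i)).1 < (e.symm (l j)).1 := e.symm.strictMono (l.strictMono hij)
        refine lt_of_le_of_ne (Ideal.comap_mono h1.le) fun h2 => h1.ne ?_
        exact PrimeSpectrum.localization_comap_injective Bg (Submonoid.powers g) h2
    have := h l₁ (fun i => (hcomap _).symm.trans (e.symm (l i)).2) (fun i hi => by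
      have : PrimeSpectrum.comap (algebraMap B Bg) (e.symm (l i)).1 ∈ Set.range (PrimeSpectrum.comap (algebraMap B Bg)) := ⟨_, rfl⟩
      rw [hrange] at this
      exact this hi)
    exact_mod_cast this
  have : Nontrivial F := PrimeSpectrum.nonempty_iff_nontrivial.mp ⟨e ⟨P', hP'p⟩⟩
  obtain ⟨m, gK, hgK, hgKfin⟩ := exists_finite_inj_algHom_of_fg p.asIdeal.ResidueField F
  have hm : m ≤ n := by
    letI := gK.toRingHom.toAlgebra
    have : Module.Finite (MvPolynomial (Fin m) p.asIdeal.ResidueField) F := hgKfin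
    have h1 := ringKrullDim_le_of_integral (MvPolynomial (Fin m) p.asIdeal.ResidueField) F hgK
    rw [MvPolynomial.ringKrullDim_of_isNoetherianRing, ringKrullDim_eq_zero_of_field, zero_add, Nat.card_fin] at h1
    exact_mod_cast h1.trans hdim
  choose s hs b hb using fun i => Ideal.Fiber.exists_smul_eq_one_tmul p.asIdeal (gK (MvPolynomial.X i))
  -- the quasi-finite map to affine space
  let ψ : MvPolynomial (Fin m) A →ₐ[A] Bg := MvPolynomial.aeval b
  letI : Algebra (MvPolynomial (Fin m) A) Bg := ψ.toRingHom.toAlgebra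
  have : IsScalarTower A (MvPolynomial (Fin m) A) Bg := IsScalarTower.of_algebraMap_eq fun a => (ψ.commutes a).symm
  have : Algebra.FiniteType (MvPolynomial (Fin m) A) Bg :=
    Algebra.FiniteType.of_restrictScalars_finiteType A (MvPolynomial (Fin m) A) Bg
  -- finiteness of the fibre through `P'`
  let sc : MvPolynomial (Fin m) p.asIdeal.ResidueField →ₐ[p.asIdeal.ResidueField]
      MvPolynomial (Fin m) p.asIdeal.ResidueField :=
    MvPolynomial.aeval fun i => MvPolynomial.C (algebraMap A p.asIdeal.ResidueField (s i)) * MvPolynomial.X i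
  have hsc : Function.Surjective sc := by
    intro x
    induction x using MvPolynomial.induction_on with
    | C a => exact ⟨MvPolynomial.C a, by simp [sc]⟩
    | add x y hx hy =>
      obtain ⟨x', rfl⟩ := hx
      obtain ⟨y', rfl⟩ := hy
      exact ⟨x' + y', map_add sc _ _⟩
    | mul_X x i hx =>
      obtain ⟨x', rfl⟩ := hx
      refine ⟨x' * (MvPolynomial.C (algebraMap A p.asIdeal.ResidueField (s i))⁻¹ * MvPolynomial.X i), ?_⟩
      simp only [sc, map_mul, MvPolynomial.aeval_C, MvPolynomial.aeval_X, MvPolynomial.algebraMap_eq]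
      rw [← mul_assoc (MvPolynomial.C _) (MvPolynomial.C _), ← MvPolynomial.C_mul,
        inv_mul_cancel₀ (fun h0 => hs i (Ideal.algebraMap_residueField_eq_zero.mp h0)), MvPolynomial.C_1, one_mul]
  let θ := gK.comp sc
  have hθfin : θ.toRingHom.Finite := RingHom.Finite.comp hgKfin (RingHom.Finite.of_surjective sc.toRingHom hsc)
  let π : MvPolynomial (Fin m) A →+* MvPolynomial (Fin m) p.asIdeal.ResidueField :=
    MvPolynomial.map (algebraMap A p.asIdeal.ResidueField)
  have hθ : θ.toRingHom.comp π =
      ((Algebra.TensorProduct.includeRight : Bg →ₐ[A] F).toRingHom).comp ψ.toRingHom := by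
    refine MvPolynomial.ringHom_ext (fun a => ?_) fun i => ?_
    · show θ (MvPolynomial.map (algebraMap A p.asIdeal.ResidueField) (MvPolynomial.C a)) =
        (Algebra.TensorProduct.includeRight : Bg →ₐ[A] F) (ψ (MvPolynomial.C a))
      rw [MvPolynomial.map_C, ← MvPolynomial.algebraMap_eq, AlgHom.commutes, ← MvPolynomial.algebraMap_eq,
        AlgHom.commutes, AlgHom.commutes]
      exact (IsScalarTower.algebraMap_apply A p.asIdeal.ResidueField F a).symm
    · simp only [RingHom.comp_apply, π, MvPolynomial.map_X, θ, ψ, AlgHom.toRingHom_eq_coe, RingHom.coe_coe,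
        AlgHom.comp_apply, sc, MvPolynomial.aeval_X, ← MvPolynomial.algebraMap_eq, ← Algebra.smul_def,
        map_smul, Algebra.TensorProduct.includeRight_apply]
      rw [algebraMap_smul]
      exact hb i
  let ζ := PrimeSpectrum.comap ψ.toRingHom P'
  have hπinj : Function.Injective (PrimeSpectrum.comap π) := by
    intro x y hxy
    have hle : ∀ x y : PrimeSpectrum (MvPolynomial (Fin m) p.asIdeal.ResidueField),
        PrimeSpectrum.comap π x = PrimeSpectrum.comap π y → x.asIdeal ≤ y.asIdeal := by
      intro x y hxy G hG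
      obtain ⟨⟨d, hd⟩, hint⟩ := IsLocalization.exist_integer_multiples
        (nonZeroDivisors (A ⧸ p.asIdeal)) G.support G.coeff
      obtain ⟨d, rfl⟩ := Ideal.Quotient.mk_surjective d
      choose! c hc using hint
      choose c' hc' using fun j => Ideal.Quotient.mk_surjective (c j)
      let G0 : MvPolynomial (Fin m) A := ∑ j ∈ G.support, MvPolynomial.monomial j (c' j)
      have hd0 : algebraMap A p.asIdeal.ResidueField d ≠ 0 := fun h =>
        nonZeroDivisors.ne_zero hd (Ideal.Quotient.eq_zero_iff_mem.mpr (Ideal.algebraMap_residueField_eq_zero.mp h))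
      have hG0 : π G0 = MvPolynomial.C (algebraMap A p.asIdeal.ResidueField d) * G := by
        conv_rhs => rw [G.as_sum, Finset.mul_sum]
        simp only [G0, π, map_sum, MvPolynomial.map_monomial]
        refine Finset.sum_congr rfl fun j hj => ?_
        rw [MvPolynomial.C_mul_monomial, IsScalarTower.algebraMap_apply A (A ⧸ p.asIdeal),
          IsScalarTower.algebraMap_apply A (A ⧸ p.asIdeal) _ d, Ideal.Quotient.algebraMap_eq, hc' j, hc j hj]
        exact congrArg _ (Algebra.smul_def _ _)
      have h1 : π G0 ∈ x.asIdeal := by rw [hG0]; exact Ideal.mul_mem_left _ _ hG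
      have h2 : G0 ∈ (PrimeSpectrum.comap π y).asIdeal := hxy ▸ (show G0 ∈ (PrimeSpectrum.comap π x).asIdeal from h1)
      have h3 : π G0 ∈ y.asIdeal := h2
      rw [hG0] at h3
      refine (y.isPrime.mem_or_mem h3).resolve_left fun h4 => y.isPrime.ne_top ?_
      exact Ideal.eq_top_of_isUnit_mem _ h4 ((isUnit_iff_ne_zero.mpr hd0).map MvPolynomial.C)
    exact PrimeSpectrum.ext (le_antisymm (hle x y hxy) (hle y x hxy.symm))
  have hQF : Algebra.QuasiFiniteAt (MvPolynomial (Fin m) A) P'.asIdeal := by
    apply Algebra.QuasiFiniteAt.of_isOpen_singleton_fiber P'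
    let S := PrimeSpectrum.comap (algebraMap (MvPolynomial (Fin m) A) Bg) ⁻¹' {ζ}
    suffices hS : Finite S ∧ T1Space S by
      obtain ⟨h1, h2⟩ := hS
      exact isOpen_discrete _
    letI := θ.toRingHom.toAlgebra
    have : Module.Finite (MvPolynomial (Fin m) p.asIdeal.ResidueField) F := hθfin
    have : Algebra.IsIntegral (MvPolynomial (Fin m) p.asIdeal.ResidueField) F := Algebra.IsIntegral.of_finite _ _
    -- points of the fibre of `ψ` as points of `F`
    have hmemp : ∀ Q : S, PrimeSpectrum.comap (algebraMap A Bg) Q.1 = p := fun Q => by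
      rw [← hP'p, IsScalarTower.algebraMap_eq A (MvPolynomial (Fin m) A) Bg,
        PrimeSpectrum.comap_comp_apply, PrimeSpectrum.comap_comp_apply]
      exact congrArg (PrimeSpectrum.comap (algebraMap A (MvPolynomial (Fin m) A))) Q.2
    let j : S → PrimeSpectrum F := fun Q => e ⟨Q.1, hmemp Q⟩
    have hj : Function.Injective j := fun Q Q' hh => by
      have := congrArg Subtype.val (e.injective hh)
      exact Subtype.ext this
    have hjζ : ∀ Q, PrimeSpectrum.comap θ.toRingHom (j Q) = PrimeSpectrum.comap θ.toRingHom (j ⟨P', rfl⟩) := by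
      intro Q
      refine hπinj ?_
      have hQ : ∀ Q : S, PrimeSpectrum.comap π (PrimeSpectrum.comap θ.toRingHom (j Q)) = ζ := fun Q => by
        rw [← PrimeSpectrum.comap_comp_apply, hθ, PrimeSpectrum.comap_comp_apply]
        have h1 : PrimeSpectrum.comap (Algebra.TensorProduct.includeRight : Bg →ₐ[A] F).toRingHom (j Q) = Q.1 :=
          congrArg Subtype.val (e.symm_apply_apply ⟨Q.1, hmemp Q⟩)
        rw [h1]
        exact Q.2
      rw [hQ, hQ]
    refine ⟨?_, ⟨fun Q => ?_⟩⟩
    · let z := PrimeSpectrum.comap θ.toRingHom (j ⟨P', rfl⟩)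
      have : Finite (z.asIdeal.primesOver F) := (Algebra.QuasiFinite.finite_primesOver _).to_subtype
      refine Finite.of_injective (fun Q : S => (⟨(j Q).asIdeal, (j Q).isPrime,
        ⟨(congrArg PrimeSpectrum.asIdeal (hjζ Q)).symm⟩⟩ : z.asIdeal.primesOver F)) fun Q Q' hh => ?_
      exact hj (PrimeSpectrum.ext (congrArg Subtype.val hh))
    · rw [← closure_subset_iff_isClosed]
      intro Q' hQ'
      have h1 : (Q : PrimeSpectrum Bg) ⤳ Q'.1 :=
        (specializes_iff_mem_closure.mpr hQ').map continuous_subtype_val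
      have h2 : j Q ≤ j Q' := e.monotone (show (⟨Q.1, hmemp Q⟩ : PrimeSpectrum.comap (algebraMap A Bg) ⁻¹' {p}) ≤ ⟨Q'.1, hmemp Q'⟩ from
        (PrimeSpectrum.le_iff_specializes Q.1 Q'.1).mpr h1)
      refine Set.mem_singleton_iff.mpr (hj ?_).symm
      by_contra hne
      have h3 := Ideal.IsIntegral.comap_lt_comap (R := MvPolynomial (Fin m) p.asIdeal.ResidueField)
        (show (j Q).asIdeal < (j Q').asIdeal from lt_of_le_of_ne h2 fun he => hne (PrimeSpectrum.ext he))
      exact h3.ne (congrArg PrimeSpectrum.asIdeal ((hjζ Q).trans (hjζ Q').symm))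
  obtain ⟨S', hS', r, hr, hbij⟩ :=
    Algebra.QuasiFiniteAt.exists_fg_and_exists_notMem_and_awayMap_bijective
      (R := MvPolynomial (Fin m) A) P'.asIdeal
  have : Module.Finite (MvPolynomial (Fin m) A) S' := ⟨(Submodule.fg_top _).mpr hS'⟩
  have : Algebra.QuasiFinite (MvPolynomial (Fin m) A) (Localization.Away r) := .trans _ S' _
  have : Algebra.QuasiFinite (MvPolynomial (Fin m) A) (Localization.Away r.1) :=
    Algebra.QuasiFinite.of_surjective_algHom (S := Localization.Away r) (T := Localization.Away r.1)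
      (Localization.awayMapₐ S'.val r) hbij.2
  -- back to `B`
  obtain ⟨⟨r₀, ⟨_, k, rfl⟩⟩, hr₀⟩ := IsLocalization.surj (Submonoid.powers g) r.1
  have hunit : IsUnit (algebraMap B Bg g) := IsLocalization.Away.algebraMap_isUnit g
  refine ⟨g * r₀, fun hm' => ?_, fun l hl hlr => ?_⟩
  · rcases P.isPrime.mem_or_mem hm' with h' | h'
    · exact hg h'
    · have h2 : algebraMap B Bg r₀ ∈ P'.asIdeal := by rw [← hP'] at h'; exact h'
      rw [← hr₀] at h2
      refine hr ((P'.isPrime.mem_or_mem h2).resolve_right fun h3 => P'.isPrime.ne_top ?_)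
      rw [map_pow] at h3
      exact Ideal.eq_top_of_isUnit_mem _ h3 (hunit.pow k)
  let T := Localization.Away r.1
  have hlift : ∀ i, ∃ Q : PrimeSpectrum T,
      PrimeSpectrum.comap (algebraMap B Bg) (PrimeSpectrum.comap (algebraMap Bg T) Q) = l i := fun i => by
    obtain ⟨Q₁, hQ₁⟩ : l i ∈ Set.range (PrimeSpectrum.comap (algebraMap B Bg)) := by
      rw [hrange]; exact fun hm' => hlr i (Ideal.mul_mem_right _ _ hm')
    obtain ⟨Q₂, hQ₂⟩ : Q₁ ∈ Set.range (PrimeSpectrum.comap (algebraMap Bg T)) := by
      rw [PrimeSpectrum.localization_away_comap_range T r.1]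
      intro hm'
      have hm2 : algebraMap B Bg r₀ ∈ Q₁.asIdeal := by rw [← hr₀]; exact Ideal.mul_mem_right _ _ hm'
      refine hlr i (Ideal.mul_mem_left _ _ ?_)
      rw [← hQ₁]
      exact hm2
    exact ⟨Q₂, by rw [hQ₂, hQ₁]⟩
  choose L hL using hlift
  have hemb : Function.Injective fun Q : PrimeSpectrum T =>
      PrimeSpectrum.comap (algebraMap B Bg) (PrimeSpectrum.comap (algebraMap Bg T) Q) :=
    (PrimeSpectrum.localization_comap_injective Bg (Submonoid.powers g)).comp
      (PrimeSpectrum.localization_comap_injective T (Submonoid.powers r.1))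
  have hmono : ∀ i j, i < j → L i < L j := fun i j hij => by
    refine lt_of_le_of_ne ?_ fun he => (l.strictMono hij).ne (by rw [← hL i, ← hL j, he])
    rw [PrimeSpectrum.le_iff_specializes]
    have h1 : l i ⤳ l j := (PrimeSpectrum.le_iff_specializes _ _).mp (l.strictMono hij).le
    rw [← hL i, ← hL j] at h1
    exact (PrimeSpectrum.localization_away_isOpenEmbedding T r.1).isInducing.specializes_iff.mp
      ((PrimeSpectrum.localization_away_isOpenEmbedding Bg g).isInducing.specializes_iff.mp h1)
  let φ : Fin (l.length + 1) → PrimeSpectrum (MvPolynomial (Fin m) A) :=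
    fun i => PrimeSpectrum.comap (algebraMap (MvPolynomial (Fin m) A) T) (L i)
  have hφ : ∀ i j, i < j → φ i < φ j := fun i j hij => by
    refine lt_of_le_of_ne (Ideal.comap_mono (hmono i j hij).le) fun he => (hmono i j hij).ne ?_
    exact PrimeSpectrum.ext (Algebra.QuasiFinite.eq_of_le_of_under_eq _ _ (hmono i j hij).le
      (congrArg PrimeSpectrum.asIdeal he :))
  let l' : LTSeries (PrimeSpectrum (MvPolynomial (Fin m) A)) := LTSeries.mk l.length φ fun i j hij => hφ i j hij
  refine (length_le_of_chain_mvPolynomial m l' fun i => ?_).trans hm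
  have hA : ∀ i, PrimeSpectrum.comap (algebraMap A (MvPolynomial (Fin m) A)) (φ i) =
      PrimeSpectrum.comap (algebraMap A B) (l i) := fun i => by
    rw [← hL i, ← hcomap]
    simp only [φ, ← PrimeSpectrum.comap_comp_apply]
    rw [← IsScalarTower.algebraMap_eq, ← IsScalarTower.algebraMap_eq]
  show PrimeSpectrum.comap _ (φ i) = PrimeSpectrum.comap _ (φ 0)
  rw [hA, hA]
  exact hl i

end Groth.Agent.FlatMisc.FibreDimOpen
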