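import Mathlib.Algebra.Category.Ring.Epi
import Mathlib.RingTheory.Flat.FaithfullyFlat.Descent
import Mathlib.RingTheory.Flat.FaithfullyFlat.Algebra
import Mathlib.RingTheory.Flat.Localization
import Mathlib.RingTheory.RingHom.FinitePresentation
import Mathlib.RingTheory.Localization.AtPrime.Basic
import Mathlib.RingTheory.Localization.Away.Basic

/-!
A flat epimorphism of finite type which is of finite presentation over a schematically dense family
of basic opens is of finite presentation.
-/

set_option autoImplicit false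

universe u

open CategoryTheory TensorProduct

namespace Groth.Agent.FlatMisc.FlatEpiFP

/-- A local flat epimorphism is bijective. -/
theorem bijective_of_epi_local (A B : Type u) [CommRing A] [CommRing B] [Algebra A B] [IsLocalRing A]
    [IsLocalRing B] [IsLocalHom (algebraMap A B)] [Module.Flat A B] [Algebra.IsEpi A B] :
    Function.Bijective (algebraMap A B) := by
  haveI : Module.FaithfullyFlat A B := Module.FaithfullyFlat.of_flat_of_isLocalHom
  refine Module.FaithfullyFlat.bijective_of_tensorProduct (S := B) ⟨fun x y h => ?_, fun z => ?_⟩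
  · have := congrArg (Algebra.TensorProduct.lmul' A) h
    simpa using this
  · induction z using TensorProduct.induction_on with
    | zero => exact ⟨0, map_zero _⟩
    | tmul x y =>
      refine ⟨x * y, ?_⟩
      have h1 := (Algebra.isEpi_iff_forall_one_tmul_eq A B).mp inferInstance y
      show (x * y) ⊗ₜ[A] (1 : B) = x ⊗ₜ[A] y
      calc (x * y) ⊗ₜ[A] (1 : B) = (x ⊗ₜ[A] (1 : B)) * (y ⊗ₜ[A] (1 : B)) := by simp
        _ = (x ⊗ₜ[A] (1 : B)) * ((1 : B) ⊗ₜ[A] y) := by rw [h1]
        _ = x ⊗ₜ[A] y := by simp
    | add x y hx hy =>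
      obtain ⟨a, rfl⟩ := hx
      obtain ⟨b, rfl⟩ := hy
      exact ⟨a + b, map_add _ _ _⟩

variable {A B : Type u} [CommRing A] [CommRing B] [Algebra A B]

/-- Near every prime of the target there is a basic open of finite presentation. -/
theorem exists_finitePresentation [Module.Flat A B] [Algebra.FiniteType A B] [Algebra.IsEpi A B]
    {ι : Type u} [Finite ι] (u : ι → A)
    (hu : ∀ a : A, (∀ i, algebraMap A (Localization.Away (u i)) a = 0) → a = 0)
    (hfp : ∀ i, Algebra.FinitePresentation A (Localization.Away (algebraMap A B (u i))))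
    (q : Ideal B) [q.IsPrime] :
    ∃ h : B, h ∉ q ∧ Algebra.FinitePresentation A (Localization.Away h) := by
  classical
  let p := q.comap (algebraMap A B)
  let Ap := Localization.AtPrime p
  let Bq := Localization.AtPrime q
  letI : Algebra Ap Bq := (Localization.localRingHom p q (algebraMap A B) rfl).toAlgebra
  haveI : IsScalarTower A Ap Bq := IsScalarTower.of_algebraMap_eq fun a => by
    show _ = Localization.localRingHom p q (algebraMap A B) rfl (algebraMap A Ap a)
    rw [Localization.localRingHom_to_map]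
    exact IsScalarTower.algebraMap_apply A B Bq a
  haveI : IsLocalHom (algebraMap Ap Bq) := by
    show IsLocalHom (Localization.localRingHom p q (algebraMap A B) rfl)
    infer_instance
  haveI : Module.Flat A Bq := Module.Flat.trans A B Bq
  haveI : Module.Flat Ap Bq := (Module.flat_iff_of_isLocalization Ap p.primeCompl Bq).mpr ‹_›
  haveI : Algebra.IsEpi Ap Bq := by
    rw [← CommRingCat.epi_iff_epi]
    have hAB : Epi (CommRingCat.ofHom (algebraMap A B)) := CommRingCat.epi_iff_epi.mpr ‹_›
    refine ⟨fun {T} g₁ g₂ hg => CommRingCat.hom_ext (IsLocalization.ringHom_ext q.primeCompl ?_)⟩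
    have h1 : CommRingCat.ofHom (algebraMap B Bq) ≫ g₁ = CommRingCat.ofHom (algebraMap B Bq) ≫ g₂ := by
      rw [← cancel_epi (CommRingCat.ofHom (algebraMap A B)), ← Category.assoc, ← Category.assoc,
        ← CommRingCat.ofHom_comp, ← IsScalarTower.algebraMap_eq A B Bq, IsScalarTower.algebraMap_eq A Ap Bq,
        CommRingCat.ofHom_comp, Category.assoc, Category.assoc, hg]
    exact congrArg CommRingCat.Hom.hom h1
  have hbij := bijective_of_epi_local Ap Bq
  -- generators
  obtain ⟨G, hG⟩ := Algebra.FiniteType.out (R := A) (A := B)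
  choose x hx using fun g : G => hbij.2 (algebraMap B Bq g)
  obtain ⟨⟨t, ht⟩, hta⟩ := IsLocalization.exist_integer_multiples_of_finite p.primeCompl x
  choose a ha using hta
  have hgen : ∀ g : G, ∃ e : B, e ∉ q ∧ e * (algebraMap A B t * g - algebraMap A B (a g)) = 0 := fun g => by
    have h1 : algebraMap B Bq (algebraMap A B t * g) = algebraMap B Bq (algebraMap A B (a g)) := by
      have h2 := congrArg (algebraMap Ap Bq) (ha g)
      rw [Algebra.smul_def, map_mul, hx, ← IsScalarTower.algebraMap_apply, ← IsScalarTower.algebraMap_apply,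
        IsScalarTower.algebraMap_apply A B Bq, IsScalarTower.algebraMap_apply A B Bq] at h2
      rw [map_mul]
      exact h2.symm
    obtain ⟨⟨e, he⟩, hee⟩ := (IsLocalization.eq_iff_exists q.primeCompl Bq).mp h1
    exact ⟨e, he, by rw [mul_sub, sub_eq_zero]; exact hee⟩
  choose e he hee using hgen
  haveI : Fintype G := Fintype.ofFinite G
  let h0 := ∏ g, e g
  have hh0 : h0 ∉ q := fun h => by
    obtain ⟨g, -, hg⟩ := (Ideal.IsPrime.prod_mem_iff).mp h
    exact he g hg
  let S : Subalgebra A B :=
    { carrier := {b | ∃ (k : ℕ) (c : A), h0 * (algebraMap A B t ^ k * b - algebraMap A B c) = 0}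
      algebraMap_mem' := fun c => ⟨0, c, by simp⟩
      mul_mem' := by
        rintro b b' ⟨k, c, hb⟩ ⟨l, c', hb'⟩
        refine ⟨k + l, c * c', ?_⟩
        rw [pow_add, map_mul]
        linear_combination (algebraMap A B t ^ l * b') * hb + algebraMap A B c * hb'
      add_mem' := by
        rintro b b' ⟨k, c, hb⟩ ⟨l, c', hb'⟩
        refine ⟨k + l, t ^ l * c + t ^ k * c', ?_⟩
        rw [pow_add, map_add, map_mul, map_mul, map_pow, map_pow]
        linear_combination (algebraMap A B t ^ l) * hb + (algebraMap A B t ^ k) * hb' }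
  have hS : ∀ b : B, b ∈ S := fun b => by
    have : Algebra.adjoin A (G : Set B) ≤ S := Algebra.adjoin_le fun g hg => by
      refine ⟨1, a ⟨g, hg⟩, ?_⟩
      rw [pow_one]
      obtain ⟨w, hw⟩ : e ⟨g, hg⟩ ∣ h0 := Finset.dvd_prod_of_mem e (Finset.mem_univ _)
      rw [hw, mul_comm (e _) w, mul_assoc, hee ⟨g, hg⟩, mul_zero]
    exact this (hG ▸ Algebra.mem_top)
  obtain ⟨k0, a0, ha0⟩ := hS h0
  have htq : algebraMap A B t ∉ q := ht
  have ha0q : algebraMap A B a0 ∉ q := fun hm => by
    have h1 : algebraMap A B t ^ k0 * h0 - algebraMap A B a0 ∈ q :=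
      ((‹q.IsPrime›).mem_or_mem (show h0 * (algebraMap A B t ^ k0 * h0 - algebraMap A B a0) ∈ q by
        rw [ha0]; exact zero_mem _)).resolve_left hh0
    have h2 : algebraMap A B t ^ k0 * h0 ∈ q := by simpa using add_mem h1 hm
    rcases (‹q.IsPrime›).mem_or_mem h2 with h3 | h3
    · exact htq ((‹q.IsPrime›).mem_of_pow_mem _ h3)
    · exact hh0 h3
  let c := t * a0
  let h := h0 * algebraMap A B c
  let Ac := Localization.Away c
  let Bh := Localization.Away h
  have hunit : IsUnit (algebraMap B Bh h) := IsLocalization.Away.algebraMap_isUnit h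
  have hunitc : IsUnit (algebraMap A Bh c) := by
    rw [IsScalarTower.algebraMap_apply A B Bh]
    exact (isUnit_of_mul_isUnit_right (show IsUnit (algebraMap B Bh h0 * algebraMap B Bh (algebraMap A B c)) from
      map_mul (algebraMap B Bh) h0 _ ▸ hunit))
  have hu' : ∀ y : Submonoid.powers c, IsUnit (algebraMap A Bh y) := fun ⟨_, m, rfl⟩ => by
    rw [map_pow]; exact hunitc.pow m
  let ψ : Ac →ₐ[A] Bh := IsLocalization.liftAlgHom (M := Submonoid.powers c) (f := Algebra.ofId A Bh) hu'
  have hunith0 : IsUnit (algebraMap B Bh h0) :=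
    isUnit_of_mul_isUnit_left (show IsUnit (algebraMap B Bh h0 * algebraMap B Bh (algebraMap A B c)) from
      map_mul (algebraMap B Bh) h0 _ ▸ hunit)
  have hrng : ∀ b : B, algebraMap B Bh b ∈ ψ.range := fun b => by
    obtain ⟨k, y, hy⟩ := hS b
    have h1 : algebraMap A Bh t ^ k * algebraMap B Bh b = algebraMap A Bh y := by
      have h2 := congrArg (algebraMap B Bh) hy
      rw [map_mul, map_zero, IsUnit.mul_right_eq_zero hunith0, map_sub, sub_eq_zero, map_mul, map_pow,
        ← IsScalarTower.algebraMap_apply, ← IsScalarTower.algebraMap_apply] at h2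
      exact h2
    obtain ⟨v, hv⟩ : IsUnit (algebraMap A Ac t) :=
      isUnit_of_mul_isUnit_left (show IsUnit (algebraMap A Ac t * algebraMap A Ac a0) from
        map_mul (algebraMap A Ac) t a0 ▸ IsLocalization.Away.algebraMap_isUnit c)
    refine ⟨(↑(v ^ k)⁻¹ : Ac) * algebraMap A Ac y, ?_⟩
    show ψ _ = _
    rw [map_mul, AlgHom.commutes, ← h1, ← mul_assoc, ← ψ.commutes t, ← map_pow, ← map_mul, ← hv,
      ← Units.val_pow_eq_pow_val, Units.inv_mul, map_one, one_mul]
  have hsurj : Function.Surjective ψ := fun y => by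
    obtain ⟨m, b, hb⟩ := IsLocalization.Away.surj h y
    obtain ⟨z₁, hz₁⟩ := hrng b
    obtain ⟨z₂, hz₂⟩ := hrng h
    have hcu : IsUnit (algebraMap A Ac c) := IsLocalization.Away.algebraMap_isUnit c
    have hau : IsUnit (algebraMap A Ac a0) :=
      isUnit_of_mul_isUnit_right (show IsUnit (algebraMap A Ac t * algebraMap A Ac a0) from map_mul (algebraMap A Ac) t a0 ▸ hcu)
    have htu : IsUnit (algebraMap A Ac t) :=
      isUnit_of_mul_isUnit_left (show IsUnit (algebraMap A Ac t * algebraMap A Ac a0) from map_mul (algebraMap A Ac) t a0 ▸ hcu)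
    obtain ⟨v, hv⟩ := (htu.pow k0)
    let w : Ac := (↑v⁻¹ : Ac) * algebraMap A Ac a0 * algebraMap A Ac c
    have hw : IsUnit w := ((Units.isUnit _).mul hau).mul hcu
    have hψw : ψ w = algebraMap B Bh h := by
      have h2 := congrArg (algebraMap B Bh) ha0
      rw [map_mul, map_zero, IsUnit.mul_right_eq_zero hunith0, map_sub, sub_eq_zero, map_mul, map_pow,
        ← IsScalarTower.algebraMap_apply, ← IsScalarTower.algebraMap_apply] at h2
      have h3 : ψ (algebraMap A Ac a0) = ψ (v : Ac) * algebraMap B Bh h0 := by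
        rw [hv, map_pow, AlgHom.commutes, AlgHom.commutes]
        exact h2.symm
      simp only [w, map_mul, AlgHom.commutes] at h3 ⊢
      rw [h3, ← mul_assoc (ψ _) (ψ _), ← map_mul, Units.inv_mul, map_one, one_mul]
      show _ = algebraMap B Bh (h0 * algebraMap A B c)
      rw [map_mul (algebraMap B Bh), ← IsScalarTower.algebraMap_apply, map_mul]
    refine ⟨z₁ * (↑(hw.unit ^ m)⁻¹ : Ac), ?_⟩
    have h4 : ψ (hw.unit ^ m : Acˣ) = algebraMap B Bh h ^ m := by
      rw [Units.val_pow_eq_pow_val, IsUnit.unit_spec, map_pow, hψw]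
    rw [map_mul, show ψ z₁ = algebraMap B Bh b from hz₁, ← hb, ← h4, mul_assoc, ← map_mul, Units.mul_inv,
      map_one, mul_one]
  -- the kernel
  have hker : ∀ y : Ac, ψ y = 0 → ∃ d ∈ p.primeCompl, algebraMap A Ac d * y = 0 := fun y hy => by
    obtain ⟨m, y₀, hy₀⟩ := IsLocalization.Away.surj c y
    have h1 : algebraMap A Bh y₀ = 0 := by
      rw [← ψ.commutes, ← hy₀, map_mul, hy, zero_mul]
    rw [IsScalarTower.algebraMap_apply A B Bh, IsLocalization.map_eq_zero_iff (Submonoid.powers h) Bh] at h1
    obtain ⟨⟨_, j, rfl⟩, hj⟩ := h1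
    have hhq : h ∉ q := fun hm => ((‹q.IsPrime›).mem_or_mem hm).elim hh0 fun hm' =>
      ((‹q.IsPrime›).mem_or_mem (map_mul (algebraMap A B) t a0 ▸ hm')).elim htq ha0q
    have h2 : algebraMap Ap Bq (algebraMap A Ap y₀) = 0 := by
      rw [← IsScalarTower.algebraMap_apply, IsScalarTower.algebraMap_apply A B Bq,
        IsLocalization.map_eq_zero_iff q.primeCompl Bq]
      exact ⟨⟨h ^ j, fun hm => hhq ((‹q.IsPrime›).mem_of_pow_mem _ hm)⟩, hj⟩
    rw [map_eq_zero_iff _ hbij.1, IsLocalization.map_eq_zero_iff p.primeCompl Ap] at h2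
    obtain ⟨⟨d, hd⟩, hd0⟩ := h2
    refine ⟨d, hd, ?_⟩
    have h3 : algebraMap A Ac d * y * algebraMap A Ac c ^ m = 0 := by
      rw [mul_assoc, hy₀, ← map_mul, hd0, map_zero]
    exact (IsUnit.mul_left_eq_zero ((IsLocalization.Away.algebraMap_isUnit c).pow m)).mp h3
  -- kill the kernel over each member of the family
  have hloc : ∀ i, ∃ d ∈ p.primeCompl, ∀ y : Ac, ψ y = 0 →
      algebraMap Ac (Localization.Away (algebraMap A Ac (u i))) (algebraMap A Ac d * y) = 0 := fun i => by
    let v := algebraMap A Ac (u i)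
    let Au := Localization.Away v
    let Bu := Localization.Away (ψ v)
    haveI : Algebra.FinitePresentation Ac Au := IsLocalization.Away.finitePresentation v
    haveI : Algebra.FinitePresentation A Ac := IsLocalization.Away.finitePresentation c
    haveI : Algebra.FinitePresentation A Au := Algebra.FinitePresentation.trans A Ac Au
    haveI : Algebra.FinitePresentation A Bu := by
      let w := algebraMap A B (u i)
      let T := Localization.Away (algebraMap B (Localization.Away w) h)
      haveI := hfp i
      haveI : Algebra.FinitePresentation (Localization.Away w) T :=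
        IsLocalization.Away.finitePresentation (algebraMap B (Localization.Away w) h)
      haveI : Algebra.FinitePresentation A T := Algebra.FinitePresentation.trans A (Localization.Away w) T
      haveI : IsLocalization.Away (h * w) T := IsLocalization.Away.mul (Localization.Away w) T w h
      haveI : IsLocalization.Away (algebraMap B Bh w) Bu := by
        rw [show algebraMap B Bh w = ψ v from
          (IsScalarTower.algebraMap_apply A B Bh (u i)).symm.trans (ψ.commutes (u i)).symm]
        infer_instance
      haveI : IsLocalization.Away (h * w) Bu := IsLocalization.Away.mul' Bh Bu h w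
      exact Algebra.FinitePresentation.equiv
        ((IsLocalization.algEquiv (Submonoid.powers (h * w)) T Bu).restrictScalars A)
    let ψu : Au →ₐ[A] Bu := IsLocalization.Away.mapₐ Au Bu ψ v
    have hsu : Function.Surjective ψu := IsLocalization.Away.mapₐ_surjective_of_surjective v hsurj
    obtain ⟨K, hK⟩ := Algebra.FinitePresentation.ker_fG_of_surjective ψu hsu
    have hz : ∀ z ∈ K, ∃ d ∈ p.primeCompl, algebraMap A Au d * z = 0 := fun z hz => by
      have hz0 : ψu z = 0 := RingHom.mem_ker.mp (hK ▸ Ideal.subset_span hz : z ∈ RingHom.ker ψu.toRingHom)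
      obtain ⟨m, y, hy⟩ := IsLocalization.Away.surj v z
      have h1 : algebraMap Bh Bu (ψ y) = 0 := by
        have h2 : ψu (algebraMap Ac Au y) = 0 := by rw [← hy, map_mul, hz0, zero_mul]
        rw [IsLocalization.Away.mapₐ_apply, IsLocalization.Away.map, IsLocalization.map_eq] at h2
        exact h2
      rw [IsLocalization.map_eq_zero_iff (Submonoid.powers (ψ v)) Bu] at h1
      obtain ⟨⟨_, j, rfl⟩, hj⟩ := h1
      obtain ⟨d, hd, hd0⟩ := hker (v ^ j * y) (by rw [map_mul, map_pow]; exact hj)
      refine ⟨d, hd, ?_⟩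
      have hvu : IsUnit (algebraMap Ac Au v) := IsLocalization.Away.algebraMap_isUnit v
      refine (IsUnit.mul_left_eq_zero ((hvu.pow m).mul (hvu.pow j))).mp ?_
      rw [IsScalarTower.algebraMap_apply A Ac Au, ← mul_assoc, mul_assoc _ z, hy, ← map_pow, ← map_mul,
        ← map_mul, mul_assoc, mul_comm y, hd0, map_zero]
    choose! d hd hd0 using hz
    refine ⟨∏ z ∈ K, d z, prod_mem fun z hz => hd z hz, fun y hy => ?_⟩
    rw [map_mul, ← IsScalarTower.algebraMap_apply]
    have hmem : algebraMap Ac Au y ∈ RingHom.ker ψu.toRingHom := by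
      show ψu (algebraMap Ac Au y) = 0
      rw [IsLocalization.Away.mapₐ_apply, IsLocalization.Away.map, IsLocalization.map_eq]
      show algebraMap Bh Bu (ψ y) = 0
      rw [hy, map_zero]
    rw [← hK] at hmem
    refine Submodule.span_induction (fun z hz => ?_) (mul_zero _) (fun a b _ _ ha hb => by rw [mul_add, ha, hb, add_zero])
      (fun a b _ hb => by rw [smul_eq_mul, mul_left_comm, hb, mul_zero]) hmem
    obtain ⟨r, hr⟩ : d z ∣ ∏ z' ∈ K, d z' := Finset.dvd_prod_of_mem _ hz
    rw [hr, map_mul, mul_right_comm, hd0 z hz, zero_mul]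
  choose d hd hd0 using hloc
  haveI : Fintype ι := Fintype.ofFinite ι
  let D := ∏ i, d i
  have hD : D ∈ p.primeCompl := prod_mem fun i _ => hd i
  -- the kernel dies after inverting `D`
  have hI : ∀ y : Ac, ψ y = 0 → algebraMap A Ac D * y = 0 := fun y hy => by
    obtain ⟨m, y₀, hy₀⟩ := IsLocalization.Away.surj c (algebraMap A Ac D * y)
    have hall : ∀ i, ∃ j n : ℕ, u i ^ j * (c ^ n * y₀) = 0 := fun i => by
      have h1 : algebraMap Ac (Localization.Away (algebraMap A Ac (u i))) (algebraMap A Ac y₀) = 0 := by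
        obtain ⟨r, hr⟩ : d i ∣ D := Finset.dvd_prod_of_mem _ (Finset.mem_univ i)
        rw [← hy₀, hr, map_mul (algebraMap A Ac), show algebraMap A Ac (d i) * algebraMap A Ac r * y *
          algebraMap A Ac c ^ m = algebraMap A Ac r * algebraMap A Ac c ^ m * (algebraMap A Ac (d i) * y) by ring,
          map_mul, hd0 i y hy, mul_zero]
      rw [IsLocalization.map_eq_zero_iff (Submonoid.powers (algebraMap A Ac (u i)))] at h1
      obtain ⟨⟨_, j, rfl⟩, hj⟩ := h1
      replace hj : algebraMap A Ac (u i) ^ j * algebraMap A Ac y₀ = 0 := hj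
      rw [← map_pow, ← map_mul, IsLocalization.map_eq_zero_iff (Submonoid.powers c)] at hj
      obtain ⟨⟨_, n, rfl⟩, hn⟩ := hj
      exact ⟨j, n, by linear_combination hn⟩
    choose j n hjn using hall
    let N := Finset.univ.sup n
    have h2 : c ^ N * y₀ = 0 := hu _ fun i => by
      rw [IsLocalization.map_eq_zero_iff (Submonoid.powers (u i))]
      refine ⟨⟨u i ^ j i, j i, rfl⟩, ?_⟩
      show u i ^ j i * (c ^ N * y₀) = 0
      rw [← Nat.sub_add_cancel (show n i ≤ N from Finset.le_sup (Finset.mem_univ i)), pow_add, mul_assoc,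
        mul_left_comm, hjn i, mul_zero]
    have hcu : IsUnit (algebraMap A Ac c) := IsLocalization.Away.algebraMap_isUnit c
    refine (IsUnit.mul_left_eq_zero (hcu.pow m)).mp (hy₀.trans ((IsUnit.mul_right_eq_zero (hcu.pow N)).mp ?_))
    rw [← map_pow, ← map_mul, h2, map_zero]
  -- conclusion
  refine ⟨h * algebraMap A B D, fun hm => ((‹q.IsPrime›).mem_or_mem hm).elim (fun hm' =>
    ((‹q.IsPrime›).mem_or_mem hm').elim hh0 fun hm'' =>
      ((‹q.IsPrime›).mem_or_mem (map_mul (algebraMap A B) t a0 ▸ hm'')).elim htq ha0q) hD, ?_⟩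
  let v := algebraMap A Ac D
  let Au := Localization.Away v
  let Bu := Localization.Away (ψ v)
  let ψu : Au →ₐ[A] Bu := IsLocalization.Away.mapₐ Au Bu ψ v
  have hbij' : Function.Bijective ψu := by
    refine ⟨(injective_iff_map_eq_zero ψu).mpr fun z hz => ?_, IsLocalization.Away.mapₐ_surjective_of_surjective v hsurj⟩
    obtain ⟨m, y, hy⟩ := IsLocalization.Away.surj v z
    have h1 : algebraMap Bh Bu (ψ y) = 0 := by
      have h2 : ψu (algebraMap Ac Au y) = 0 := by rw [← hy, map_mul, hz, zero_mul]
      rw [IsLocalization.Away.mapₐ_apply, IsLocalization.Away.map, IsLocalization.map_eq] at h2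
      exact h2
    rw [IsLocalization.map_eq_zero_iff (Submonoid.powers (ψ v)) Bu] at h1
    obtain ⟨⟨_, j, rfl⟩, hj⟩ := h1
    have hd0' := hI (v ^ j * y) (by rw [map_mul, map_pow]; exact hj)
    have hvu : IsUnit (algebraMap Ac Au v) := IsLocalization.Away.algebraMap_isUnit v
    have h3 : algebraMap Ac Au y = 0 := by
      have h4 := congrArg (algebraMap Ac Au) hd0'
      rw [map_mul, map_mul, map_pow, map_zero, IsUnit.mul_right_eq_zero hvu,
        IsUnit.mul_right_eq_zero (hvu.pow j)] at h4
      exact h4
    exact (IsUnit.mul_left_eq_zero (hvu.pow m)).mp (hy.trans h3)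
  haveI : Algebra.FinitePresentation Ac Au := IsLocalization.Away.finitePresentation v
  haveI : Algebra.FinitePresentation A Ac := IsLocalization.Away.finitePresentation c
  haveI : Algebra.FinitePresentation A Au := Algebra.FinitePresentation.trans A Ac Au
  haveI : Algebra.FinitePresentation A Bu := Algebra.FinitePresentation.equiv (AlgEquiv.ofBijective ψu hbij')
  haveI : IsLocalization.Away (algebraMap B Bh (algebraMap A B D)) Bu := by
    rw [show algebraMap B Bh (algebraMap A B D) = ψ v from
      (IsScalarTower.algebraMap_apply A B Bh D).symm.trans (ψ.commutes D).symm]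
    infer_instance
  haveI : IsLocalization.Away (h * algebraMap A B D) Bu := IsLocalization.Away.mul' Bh Bu h (algebraMap A B D)
  exact Algebra.FinitePresentation.equiv
    ((IsLocalization.algEquiv (Submonoid.powers (h * algebraMap A B D)) Bu _).restrictScalars A)

end Groth.Agent.FlatMisc.FlatEpiFP
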