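import Groth.Agent.FlatMisc.Fiber
import Mathlib.RingTheory.Spectrum.Prime.Chevalley
import Mathlib.RingTheory.Spectrum.Prime.ConstructibleSet
import Mathlib.RingTheory.NoetherNormalization
import Mathlib.RingTheory.Jacobson.Artinian
import Mathlib.RingTheory.Flat.EquationalCriterion
import Mathlib.RingTheory.Flat.Stability
import Mathlib.RingTheory.Localization.Module
import Mathlib.RingTheory.Localization.Integer
import Mathlib.RingTheory.QuasiFinite.Basic
import Mathlib.LinearAlgebra.Matrix.Adjugate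

/-!
A flat algebra of finite presentation with finite fibres over a dense open has finite fibres.
-/

set_option autoImplicit false

universe u

open TensorProduct

namespace Groth.Agent.FlatMisc.FlatFibreFinite

/-- Lifts of elements independent in a fibre are independent in a flat module over a domain. -/
theorem linearIndependent_of_fibre {D C κ : Type u} [CommRing D] [IsDomain D] [AddCommGroup C]
    [Module D C] [Module.Flat D C] [Field κ] [Algebra D κ]
    (hfrac : ∀ {n : ℕ} (x : Fin n → κ), ∃ s : D, algebraMap D κ s ≠ 0 ∧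
      ∀ i, ∃ d : D, algebraMap D κ d = algebraMap D κ s * x i)
    {n : ℕ} (b : Fin n → C) (hb : LinearIndependent κ fun i => (1 : κ) ⊗ₜ[D] b i) :
    LinearIndependent D b := by
  classical
  rw [Fintype.linearIndependent_iff]
  intro a ha
  obtain ⟨l, c, y, hby, hac⟩ := Module.Flat.isTrivialRelation_of_sum_smul_eq_zero ha
  let cb : Matrix (Fin n) (Fin l) κ := fun i j => algebraMap D κ (c i j)
  let φ : (Fin n → κ) →ₗ[κ] (Fin l → κ) := Matrix.vecMulLinear cb
  have hφ : LinearMap.ker φ = ⊥ := by
    rw [LinearMap.ker_eq_bot']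
    intro x hx
    refine funext fun i => Fintype.linearIndependent_iff.mp hb x ?_ i
    have h1 : ∀ i, (1 : κ) ⊗ₜ[D] b i = ∑ j, cb i j • ((1 : κ) ⊗ₜ[D] y j) := fun i => by
      rw [hby i, TensorProduct.tmul_sum]
      refine Finset.sum_congr rfl fun j _ => ?_
      rw [TensorProduct.tmul_smul]
      exact (algebraMap_smul κ (c i j) _).symm
    simp only [h1, Finset.smul_sum, smul_smul]
    rw [Finset.sum_comm]
    refine Finset.sum_eq_zero fun j _ => ?_
    rw [← Finset.sum_smul]
    have h2 : (∑ i, x i * cb i j) = 0 := congrFun hx j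
    rw [h2, zero_smul]
  obtain ⟨g, hg⟩ := φ.exists_leftInverse_of_injective hφ
  let e : Fin l → (Fin l → κ) := fun j => Pi.single j 1
  obtain ⟨s, hs, hd⟩ := hfrac (fun p : Fin (l * n) => g (e (finProdFinEquiv.symm p).1) (finProdFinEquiv.symm p).2)
  choose d hd using hd
  let d' : Matrix (Fin l) (Fin n) D := fun j i => d (finProdFinEquiv (j, i))
  have hcd : (Matrix.of c * d').map (algebraMap D κ) = algebraMap D κ s • (1 : Matrix (Fin n) (Fin n) κ) := by
    ext k i
    have h1 : g (cb k) = Pi.single k 1 := by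
      have := LinearMap.congr_fun hg (Pi.single k 1)
      simp only [LinearMap.comp_apply, LinearMap.id_apply] at this
      rw [← this]
      congr 1
      exact (Matrix.single_one_vecMul k cb).symm
    have h2 : g (cb k) i = ∑ j, cb k j * g (e j) i := by
      conv_lhs => rw [show cb k = ∑ j, cb k j • e j from (pi_eq_sum_univ' (cb k))]
      simp only [map_sum, Finset.sum_apply, map_smul, Pi.smul_apply, smul_eq_mul]
    rw [Matrix.map_apply, Matrix.mul_apply, map_sum, Matrix.smul_apply, smul_eq_mul]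
    rw [show ((1 : Matrix (Fin n) (Fin n) κ) k i) = g (cb k) i from by
      rw [h1, Matrix.one_apply, Pi.single_apply]; exact if_congr eq_comm rfl rfl, h2, Finset.mul_sum]
    refine Finset.sum_congr rfl fun j _ => ?_
    rw [map_mul, Matrix.of_apply]
    show _ * algebraMap D κ (d (finProdFinEquiv (j, i))) = _
    rw [hd, Equiv.symm_apply_apply]
    ring
  have hdet : (Matrix.of c * d').det ≠ 0 := by
    intro h0
    have := congrArg (algebraMap D κ) h0
    rw [RingHom.map_det, RingHom.mapMatrix_apply, hcd, map_zero, Matrix.det_smul, Matrix.det_one, mul_one] at this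
    exact hs ((pow_eq_zero_iff'.mp this).1)
  have hz : Matrix.vecMul a (Matrix.of c * d') = 0 := by
    rw [← Matrix.vecMul_vecMul]
    have : Matrix.vecMul a (Matrix.of c) = 0 := funext fun j => hac j
    rw [this, Matrix.zero_vecMul]
  intro i
  exact congrFun (Matrix.eq_zero_of_vecMul_eq_zero hdet hz) i

/-- Finite generic fibre implies finite fibres, for flat modules over a domain. -/
theorem finite_fibre_of_generic {D C κ K : Type u} [CommRing D] [IsDomain D] [AddCommGroup C]
    [Module D C] [Module.Flat D C] [Field κ] [Algebra D κ] [Field K] [Algebra D K] [IsFractionRing D K]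
    (hfrac : ∀ {n : ℕ} (x : Fin n → κ), ∃ s : D, algebraMap D κ s ≠ 0 ∧
      ∀ i, ∃ d : D, algebraMap D κ d = algebraMap D κ s * x i)
    [Module.Finite K (K ⊗[D] C)] : Module.Finite κ (κ ⊗[D] C) := by
  let v : C → κ ⊗[D] C := fun c => (1 : κ) ⊗ₜ[D] c
  have hspan : Submodule.span κ (Set.range v) = ⊤ := by
    rw [eq_top_iff]
    intro z _
    induction z using TensorProduct.induction_on with
    | zero => exact Submodule.zero_mem _
    | tmul a c =>
      have : a ⊗ₜ[D] c = a • v c := by rw [TensorProduct.smul_tmul', smul_eq_mul, mul_one]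
      rw [this]
      exact Submodule.smul_mem _ _ (Submodule.subset_span ⟨c, rfl⟩)
    | add x y hx hy => exact Submodule.add_mem _ (hx trivial) (hy trivial)
  obtain ⟨t, htv, ht, hli⟩ := exists_linearIndependent κ (Set.range v)
  rw [hspan] at ht
  suffices hfin : t.Finite by
    exact ⟨⟨hfin.toFinset, by rw [hfin.coe_toFinset, ht]⟩⟩
  by_contra hinf
  obtain ⟨m, hm⟩ : ∃ m, Module.finrank K (K ⊗[D] C) = m := ⟨_, rfl⟩
  obtain ⟨T, hTt, hT⟩ := Set.Infinite.exists_subset_card_eq hinf (m + 1)
  let e : Fin (m + 1) ≃ T := (T.equivFinOfCardEq hT).symm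
  choose b hb using fun i => htv (hTt (e i).2)
  have hind : LinearIndependent κ fun i => (1 : κ) ⊗ₜ[D] b i := by
    have h := hli.comp (fun i => (⟨(e i).1, hTt (e i).2⟩ : t)) fun i j hij =>
      e.injective (Subtype.ext (congrArg (fun z : t => z.1) hij))
    exact (funext hb : (fun i => v (b i)) = fun i => (e i).1) ▸ h
  have h2 := (linearIndependent_of_fibre hfrac b hind).of_isLocalizedModule K (nonZeroDivisors D)
    (TensorProduct.mk D K C 1)
  have h3 := h2.fintype_card_le_finrank
  rw [Fintype.card_fin, hm] at h3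
  omega

variable {R B : Type u} [CommRing R] [CommRing B] [Algebra R B]

theorem hfrac_residue (p q : Ideal R) [q.IsPrime] [Algebra (R ⧸ p) q.ResidueField]
    [IsScalarTower R (R ⧸ p) q.ResidueField] {n : ℕ} (x : Fin n → q.ResidueField) :
    ∃ s : R ⧸ p, algebraMap (R ⧸ p) q.ResidueField s ≠ 0 ∧
      ∀ i, ∃ d : R ⧸ p, algebraMap (R ⧸ p) q.ResidueField d = algebraMap (R ⧸ p) q.ResidueField s * x i := by
  obtain ⟨⟨s, hs⟩, hd⟩ := IsLocalization.exist_integer_multiples (nonZeroDivisors (R ⧸ q)) Finset.univ x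
  obtain ⟨s, rfl⟩ := Ideal.Quotient.mk_surjective s
  have hmk : ∀ r : R, algebraMap (R ⧸ p) q.ResidueField (Ideal.Quotient.mk p r) =
      algebraMap (R ⧸ q) q.ResidueField (Ideal.Quotient.mk q r) := fun r =>
    (IsScalarTower.algebraMap_apply R (R ⧸ p) q.ResidueField r).symm.trans
      (IsScalarTower.algebraMap_apply R (R ⧸ q) q.ResidueField r)
  refine ⟨Ideal.Quotient.mk p s, ?_, fun i => ?_⟩
  · rw [hmk]
    exact IsFractionRing.to_map_ne_zero_of_mem_nonZeroDivisors hs
  · obtain ⟨d, hd⟩ := hd i (Finset.mem_univ i)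
    obtain ⟨d, rfl⟩ := Ideal.Quotient.mk_surjective d
    exact ⟨Ideal.Quotient.mk p d, by rw [hmk, hmk, hd]; exact Algebra.smul_def _ _⟩

/-- In a flat algebra a finite fibre forces finite fibres at specialisations. -/
theorem finite_fiber_of_le [Module.Flat R B] (p q : Ideal R) [p.IsPrime] [q.IsPrime] (hpq : p ≤ q)
    (hfin : Module.Finite p.ResidueField (p.Fiber B)) : Module.Finite q.ResidueField (q.Fiber B) := by
  let D := R ⧸ p
  letI : Algebra D q.ResidueField :=
    (Ideal.Quotient.lift p (algebraMap R q.ResidueField) fun a ha =>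
      (Ideal.algebraMap_residueField_eq_zero).mpr (hpq ha)).toAlgebra
  have : IsScalarTower R D q.ResidueField := IsScalarTower.of_algebraMap_eq' rfl
  let C := D ⊗[R] B
  let eK : p.ResidueField ⊗[D] C ≃ₗ[p.ResidueField] p.Fiber B :=
    AlgebraTensorModule.cancelBaseChange R D p.ResidueField p.ResidueField B
  let eκ : q.ResidueField ⊗[D] C ≃ₗ[q.ResidueField] q.Fiber B :=
    AlgebraTensorModule.cancelBaseChange R D q.ResidueField q.ResidueField B
  have : Module.Finite p.ResidueField (p.ResidueField ⊗[D] C) := Module.Finite.equiv eK.symm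
  have := finite_fibre_of_generic (D := D) (C := C) (κ := q.ResidueField) (K := p.ResidueField)
    (fun {n} x => hfrac_residue p q x)
  exact Module.Finite.equiv eκ

theorem exists_mul_pow_eq_zero {A : Type u} [CommRing A] (P : Ideal A) [hP : P.IsPrime]
    (hmin : ∀ Q : Ideal A, Q.IsPrime → Q ≤ P → Q = P) (g : A) (hg : g ∈ P) :
    ∃ t ∉ P, ∃ n, t * g ^ n = 0 := by
  by_contra hno
  push Not at hno
  have hd : Disjoint ((⊥ : Ideal A) : Set A) ↑(P.primeCompl ⊔ Submonoid.powers g) := by
    rw [Set.disjoint_left]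
    intro x hx hx'
    obtain ⟨t, ht, _, ⟨n, rfl⟩, rfl⟩ := Submonoid.mem_sup.mp hx'
    exact hno t ht n hx
  obtain ⟨Q, hQ, -, hQd⟩ := Ideal.exists_le_prime_disjoint ⊥ _ hd
  have hle : Q ≤ P := fun x hx => by
    by_contra hxP
    exact Set.disjoint_left.mp hQd hx (Submonoid.mem_sup_left hxP)
  rw [hmin Q hQ hle] at hQd
  exact Set.disjoint_left.mp hQd hg (Submonoid.mem_sup_right ⟨1, pow_one g⟩)

/-- A constructible set containing a minimal prime is a neighbourhood of it. -/
theorem exists_basicOpen_subset {A : Type u} [CommRing A] {S : Set (PrimeSpectrum A)}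
    (hS : Topology.IsConstructible S) (ζ : PrimeSpectrum A)
    (hmin : ∀ Q : Ideal A, Q.IsPrime → Q ≤ ζ.asIdeal → Q = ζ.asIdeal) (hζ : ζ ∈ S) :
    ∃ F : A, F ∉ ζ.asIdeal ∧ ∀ Q : PrimeSpectrum A, F ∉ Q.asIdeal → Q ∈ S := by
  classical
  obtain ⟨Sd, rfl⟩ := PrimeSpectrum.exists_constructibleSetData_iff.mpr hS
  simp only [PrimeSpectrum.ConstructibleSetData.toSet, Set.mem_iUnion] at hζ ⊢
  obtain ⟨C, hC, hg, hf⟩ := hζ
  rw [PrimeSpectrum.mem_zeroLocus, Set.range_subset_iff] at hg
  rw [PrimeSpectrum.mem_zeroLocus, Set.singleton_subset_iff] at hf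
  choose t ht n hn using fun i => exists_mul_pow_eq_zero ζ.asIdeal hmin (C.g i) (hg i)
  refine ⟨C.f * ∏ i, t i, fun h => ?_, fun Q hQ => ⟨C, hC, ?_, ?_⟩⟩
  · rcases ζ.isPrime.mem_or_mem h with h | h
    · exact hf h
    · obtain ⟨i, -, hi⟩ := ζ.isPrime.prod_mem_iff.mp h
      exact ht i hi
  · rw [PrimeSpectrum.mem_zeroLocus, Set.range_subset_iff]
    intro i
    have : t i * C.g i ^ n i ∈ Q.asIdeal := by rw [hn i]; exact Q.asIdeal.zero_mem
    refine Q.isPrime.mem_of_pow_mem _ ((Q.isPrime.mem_or_mem this).resolve_left fun h => hQ ?_)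
    exact Ideal.mul_mem_left _ _ (Ideal.mem_of_dvd _ (Finset.dvd_prod_of_mem t (Finset.mem_univ i)) h)
  · rw [PrimeSpectrum.mem_zeroLocus, Set.singleton_subset_iff]
    exact fun h => hQ (Ideal.mul_mem_right _ _ h)

theorem exists_smul_eq_one_tmul (p : Ideal R) [p.IsPrime] (z : p.Fiber B) :
    ∃ s : R, s ∉ p ∧ ∃ b : B, algebraMap R p.ResidueField s • z = (1 : p.ResidueField) ⊗ₜ[R] b := by
  induction z using TensorProduct.induction_on with
  | zero => exact ⟨1, fun h => ‹p.IsPrime›.ne_top ((Ideal.eq_top_iff_one _).mpr h), 0, by simp⟩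
  | tmul x b =>
    obtain ⟨⟨s, hs⟩, d, hd⟩ := IsLocalization.exists_integer_multiple (nonZeroDivisors (R ⧸ p)) x
    obtain ⟨s, rfl⟩ := Ideal.Quotient.mk_surjective s
    obtain ⟨d, rfl⟩ := Ideal.Quotient.mk_surjective d
    refine ⟨s, fun h => nonZeroDivisors.ne_zero hs (Ideal.Quotient.eq_zero_iff_mem.mpr h), d • b, ?_⟩
    have hd' : algebraMap R p.ResidueField d = algebraMap R p.ResidueField s * x := by
      rw [IsScalarTower.algebraMap_apply R (R ⧸ p) p.ResidueField d,
        IsScalarTower.algebraMap_apply R (R ⧸ p) p.ResidueField s]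
      exact hd.trans (Algebra.smul_def _ _)
    rw [TensorProduct.smul_tmul', smul_eq_mul, ← hd', TensorProduct.tmul_smul,
      TensorProduct.smul_tmul', Algebra.smul_def, mul_one]
  | add x y hx hy =>
    obtain ⟨s, hs, b, hb⟩ := hx
    obtain ⟨s', hs', b', hb'⟩ := hy
    refine ⟨s * s', ‹p.IsPrime›.mul_notMem hs hs', s' • b + s • b', ?_⟩
    rw [TensorProduct.tmul_add, TensorProduct.tmul_smul, TensorProduct.tmul_smul, ← hb, ← hb', map_mul,
      smul_add, ← algebraMap_smul p.ResidueField s' (algebraMap R p.ResidueField s • x),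
      ← algebraMap_smul p.ResidueField s (algebraMap R p.ResidueField s' • y), ← mul_smul, ← mul_smul,
      mul_comm (algebraMap R p.ResidueField s') (algebraMap R p.ResidueField s)]

/-- If the fibres over a dense open set are finite, then so are those over minimal primes. -/
theorem finite_fiber_of_minimal [Algebra.FinitePresentation R B] (U : Set (PrimeSpectrum R))
    (hU : Dense U) (hfin : ∀ r : PrimeSpectrum R, r ∈ U → Module.Finite r.asIdeal.ResidueField (r.asIdeal.Fiber B))
    (p : Ideal R) [hp : p.IsPrime] (hmin : ∀ Q : Ideal R, Q.IsPrime → Q ≤ p → Q = p) :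
    Module.Finite p.ResidueField (p.Fiber B) := by
  classical
  by_cases hnt : Nontrivial (p.Fiber B)
  swap
  · have := not_nontrivial_iff_subsingleton.mp hnt
    infer_instance
  obtain ⟨m, g, hg, hgfin⟩ := exists_finite_inj_algHom_of_fg p.ResidueField (p.Fiber B)
  cases m with
  | zero =>
    let e := (MvPolynomial.isEmptyAlgEquiv p.ResidueField (Fin 0)).symm
    have h : (g.comp e.toAlgHom).Finite := hgfin.comp (AlgHom.Finite.of_surjective e.toAlgHom e.surjective)
    have h2 : (algebraMap p.ResidueField (p.Fiber B)).Finite := by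
      have : (g.comp e.toAlgHom).toRingHom = algebraMap p.ResidueField (p.Fiber B) :=
        RingHom.ext fun x => (g.comp e.toAlgHom).commutes x
      rw [← this]
      exact h
    exact RingHom.finite_algebraMap.mp h2
  | succ m =>
    exfalso
    obtain ⟨s, hs, b, hb⟩ := exists_smul_eq_one_tmul p (g (MvPolynomial.X 0))
    set sK := algebraMap R p.ResidueField s
    have hsK : sK ≠ 0 := fun h => hs (Ideal.algebraMap_residueField_eq_zero.mp h)
    -- transcendence
    have htr : ∀ G : Polynomial p.ResidueField,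
        Polynomial.aeval ((1 : p.ResidueField) ⊗ₜ[R] b : p.Fiber B) G = 0 → G = 0 := by
      intro G hG
      have e : ((1 : p.ResidueField) ⊗ₜ[R] b : p.Fiber B) = g (MvPolynomial.C sK * MvPolynomial.X 0) := by
        rw [← MvPolynomial.algebraMap_eq, ← Algebra.smul_def, map_smul, hb]
      rw [e, Polynomial.aeval_algHom_apply] at hG
      have h1 := hg (hG.trans (map_zero g).symm)
      let π : MvPolynomial (Fin (m + 1)) p.ResidueField →ₐ[p.ResidueField] Polynomial p.ResidueField :=
        MvPolynomial.aeval fun _ => Polynomial.C sK⁻¹ * Polynomial.X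
      have h2 := congrArg π h1
      rw [← Polynomial.aeval_algHom_apply, map_zero, map_mul, MvPolynomial.aeval_C, MvPolynomial.aeval_X,
        Polynomial.algebraMap_eq, ← mul_assoc, ← map_mul, mul_inv_cancel₀ hsK, map_one, one_mul,
        Polynomial.aeval_X_left_apply] at h2
      exact h2
    let ψ : Polynomial R →ₐ[R] B := Polynomial.aeval b
    letI : Algebra (Polynomial R) B := ψ.toRingHom.toAlgebra
    have : IsScalarTower R (Polynomial R) B := IsScalarTower.of_algebraMap_eq fun r => (ψ.commutes r).symm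
    have hfp : ψ.toRingHom.FinitePresentation := Algebra.FinitePresentation.of_restrict_scalars_finitePresentation R (Polynomial R) B
    have hC := PrimeSpectrum.isConstructible_comap_image hfp (s := Set.univ) Topology.IsConstructible.univ
    -- the generic point of the line over `p`
    let θ : Polynomial R →+* Polynomial p.ResidueField := Polynomial.mapRingHom (algebraMap R _)
    let ζ : PrimeSpectrum (Polynomial R) := PrimeSpectrum.comap θ ⟨⊥, Ideal.isPrime_bot⟩
    have hθ : ∀ G, G ∈ ζ.asIdeal ↔ ∀ i, G.coeff i ∈ p := fun G => by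
      show θ G ∈ (⊥ : Ideal _) ↔ _
      rw [Ideal.mem_bot, Polynomial.ext_iff]
      simp only [θ, Polynomial.coe_mapRingHom, Polynomial.coeff_map, Polynomial.coeff_zero,
        Ideal.algebraMap_residueField_eq_zero]
    have hζmin : ∀ Q : Ideal (Polynomial R), Q.IsPrime → Q ≤ ζ.asIdeal → Q = ζ.asIdeal := by
      intro Q hQ hle
      have h1 : Q.comap Polynomial.C = p := hmin _ inferInstance fun r hr => by
        have := (hθ _).mp (hle hr) 0
        rwa [Polynomial.coeff_C_zero] at this
      refine le_antisymm hle fun G hG => ?_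
      rw [G.as_sum_range_C_mul_X_pow]
      refine Q.sum_mem fun i _ => Q.mul_mem_right _ ?_
      show G.coeff i ∈ Q.comap Polynomial.C
      rw [h1]
      exact (hθ G).mp hG i
    have hζC : ζ ∈ PrimeSpectrum.comap ψ.toRingHom '' Set.univ := by
      let θ' : Polynomial p.ResidueField →+* p.Fiber B :=
        (Polynomial.aeval ((1 : p.ResidueField) ⊗ₜ[R] b : p.Fiber B)).toRingHom
      have hinj : Function.Injective θ' := (injective_iff_map_eq_zero θ').mpr htr
      obtain ⟨Q, hQ, hQc⟩ := Ideal.exists_comap_eq_of_mem_minimalPrimes_of_injective (f := θ') hinj ⊥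
        (by rw [IsDomain.minimalPrimes_eq_singleton_bot]; exact rfl)
      refine ⟨⟨Q.comap (Algebra.TensorProduct.includeRight (R := R) (A := p.ResidueField) (B := B)).toRingHom,
        inferInstance⟩, trivial, PrimeSpectrum.ext ?_⟩
      show Ideal.comap ψ.toRingHom (Ideal.comap _ Q) = Ideal.comap θ ⊥
      rw [← hQc, Ideal.comap_comap, Ideal.comap_comap]
      congr 1
      refine Polynomial.ringHom_ext (fun r => ?_) ?_
      · simp only [RingHom.comp_apply, ψ, θ, θ', AlgHom.toRingHom_eq_coe, RingHom.coe_coe,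
          Polynomial.aeval_C, Polynomial.coe_mapRingHom, Polynomial.map_C, AlgHom.commutes]
        exact IsScalarTower.algebraMap_apply R p.ResidueField (p.Fiber B) r
      · simp [ψ, θ, θ']
    obtain ⟨F, hF, hFC⟩ := exists_basicOpen_subset hC ζ hζmin hζC
    rw [hθ] at hF
    push Not at hF
    obtain ⟨i, hi⟩ := hF
    obtain ⟨r, hrU, hr⟩ := hU.inter_open_nonempty _ (PrimeSpectrum.basicOpen (F.coeff i)).2 ⟨⟨p, hp⟩, hi⟩ |>
      fun ⟨r, h1, h2⟩ => (⟨r, h2, h1⟩ : ∃ r, r ∈ U ∧ F.coeff i ∉ r.asIdeal)
    let θr : Polynomial R →+* Polynomial r.asIdeal.ResidueField := Polynomial.mapRingHom (algebraMap R _)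
    let ζr : PrimeSpectrum (Polynomial R) := PrimeSpectrum.comap θr ⟨⊥, Ideal.isPrime_bot⟩
    have hθr : ∀ G, G ∈ ζr.asIdeal ↔ ∀ j, G.coeff j ∈ r.asIdeal := fun G => by
      show θr G ∈ (⊥ : Ideal _) ↔ _
      rw [Ideal.mem_bot, Polynomial.ext_iff]
      simp only [θr, Polynomial.coe_mapRingHom, Polynomial.coeff_map, Polynomial.coeff_zero,
        Ideal.algebraMap_residueField_eq_zero]
    obtain ⟨Q, -, hQ⟩ := hFC ζr fun h => hr ((hθr F).mp h i)
    have hQr : Q.asIdeal.comap (algebraMap R B) = r.asIdeal := by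
      ext x
      have h1 : x ∈ Q.asIdeal.comap (algebraMap R B) ↔ Polynomial.C x ∈ ζr.asIdeal := by
        rw [← hQ]
        show algebraMap R B x ∈ Q.asIdeal ↔ ψ (Polynomial.C x) ∈ Q.asIdeal
        rw [Polynomial.aeval_C]
      rw [h1, hθr]
      exact ⟨fun h => by simpa using h 0, fun h j => by
        rw [Polynomial.coeff_C]; split_ifs <;> simp [h]⟩
    have : Q.asIdeal.LiesOver r.asIdeal := ⟨hQr.symm⟩
    have := hfin r hrU
    obtain ⟨G, hGm, hG⟩ := Algebra.IsIntegral.isIntegral (R := r.asIdeal.ResidueField)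
      ((1 : r.asIdeal.ResidueField) ⊗ₜ[R] b : r.asIdeal.Fiber B)
    -- clear denominators
    obtain ⟨⟨d, hd⟩, hint⟩ := IsLocalization.exist_integer_multiples (nonZeroDivisors (R ⧸ r.asIdeal))
      (Finset.range (G.natDegree + 1)) G.coeff
    obtain ⟨d, rfl⟩ := Ideal.Quotient.mk_surjective d
    choose! c hc using hint
    choose c' hc' using fun j => Ideal.Quotient.mk_surjective (c j)
    let G0 : Polynomial R := ∑ j ∈ Finset.range (G.natDegree + 1), Polynomial.monomial j (c' j)
    have hdK : algebraMap R r.asIdeal.ResidueField d ≠ 0 := fun h =>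
      nonZeroDivisors.ne_zero hd (Ideal.Quotient.eq_zero_iff_mem.mpr (Ideal.algebraMap_residueField_eq_zero.mp h))
    have hG0 : θr G0 = algebraMap R r.asIdeal.ResidueField d • G := by
      conv_rhs => rw [G.as_sum_range, Finset.smul_sum]
      simp only [G0, θr, map_sum, Polynomial.coe_mapRingHom, Polynomial.map_monomial]
      refine Finset.sum_congr rfl fun j hj => ?_
      rw [Polynomial.smul_monomial, smul_eq_mul, IsScalarTower.algebraMap_apply R (R ⧸ r.asIdeal),
        IsScalarTower.algebraMap_apply R (R ⧸ r.asIdeal) _ d, Ideal.Quotient.algebraMap_eq, hc' j, hc j hj]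
      exact congrArg _ (Algebra.smul_def _ _)
    have h1 : θr G0 ≠ 0 := by
      rw [hG0]
      exact smul_ne_zero hdK hGm.ne_zero
    have h2 : ψ G0 ∈ Q.asIdeal := by
      rw [← Fiber.comap_fiberIdeal r.asIdeal Q.asIdeal, Ideal.mem_comap]
      suffices h : (Algebra.TensorProduct.includeRight (R := R) (A := r.asIdeal.ResidueField) (B := B)) (ψ G0) = 0 by
        show (Algebra.TensorProduct.includeRight (R := R) (A := r.asIdeal.ResidueField) (B := B)) (ψ G0) ∈ _
        rw [h]
        exact Ideal.zero_mem _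
      have h3 : ((Algebra.TensorProduct.includeRight (R := R) (A := r.asIdeal.ResidueField) (B := B)).comp ψ) G0 =
          Polynomial.aeval ((1 : r.asIdeal.ResidueField) ⊗ₜ[R] b : r.asIdeal.Fiber B) (θr G0) := by
        simp only [θr, Polynomial.coe_mapRingHom, Polynomial.aeval_map_algebraMap]
        rw [AlgHom.comp_apply, ← Polynomial.aeval_algHom_apply]
        rfl
      refine h3.trans ?_
      rw [hG0, map_smul, show Polynomial.aeval ((1 : r.asIdeal.ResidueField) ⊗ₜ[R] b : r.asIdeal.Fiber B) G = 0 from hG, smul_zero]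
    have h4 : G0 ∈ ζr.asIdeal := by rw [← hQ]; exact h2
    exact h1 h4

theorem quasiFinite [Algebra.FinitePresentation R B] [Module.Flat R B] (U : Set (PrimeSpectrum R))
    (hU : Dense U)
    (hfin : ∀ r : PrimeSpectrum R, r ∈ U → Module.Finite r.asIdeal.ResidueField (r.asIdeal.Fiber B)) :
    Algebra.QuasiFinite R B := by
  refine ⟨fun P hP => ?_⟩
  obtain ⟨p, hp, hle⟩ := Ideal.exists_minimalPrimes_le (I := (⊥ : Ideal R)) (J := P) bot_le
  have := hp.1.1
  exact finite_fiber_of_le p P hle
    (finite_fiber_of_minimal U hU hfin p fun Q hQ hQp => le_antisymm hQp (hp.2 ⟨hQ, bot_le⟩ hQp))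

end Groth.Agent.FlatMisc.FlatFibreFinite
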