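import Groth.Agent.DimSpec.Core
import Groth.Agent.S6284
import Mathlib.RingTheory.Nakayama
import Mathlib.RingTheory.Ideal.MinimalPrime.Localization

/-!
Going down and propagation of algebraic independence to generizations, inside the support of a
finite module which is flat over the base.
-/

set_option autoImplicit false
set_option linter.style.haveILetI false

universe u

open scoped TensorProduct

namespace Groth.Agent.FlatMisc.FlatSuppDim

section GoingDown

variable {A B : Type u} [CommRing A] [CommRing B] [Algebra A B] (N : Type u) [AddCommGroup N]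
  [Module B N] [Module.Finite B N] [Module A N] [IsScalarTower A B N] [Module.Flat A N]

/-- Going down for the support of a flat module. -/
theorem exists_le_of_le (q : PrimeSpectrum B) (hq : q ∈ Module.support B N) (p : Ideal A) [p.IsPrime]
    (hp : p ≤ q.asIdeal.under A) :
    ∃ q' : PrimeSpectrum B, q'.asIdeal ≤ q.asIdeal ∧ q' ∈ Module.support B N ∧ q'.asIdeal.under A = p := by
  let P : Submodule B N := p.map (algebraMap A B) • ⊤
  -- a class which survives at q
  obtain ⟨n, hn⟩ : ∃ n : N, ∀ s : B, s ∉ q.asIdeal → s • n ∉ P := by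
    by_contra hne
    push Not at hne
    let L := Localization.AtPrime q.asIdeal
    let Nq := LocalizedModule q.asIdeal.primeCompl N
    have hle : (⊤ : Submodule L Nq) ≤ IsLocalRing.maximalIdeal L • ⊤ := by
      intro z _
      induction z using LocalizedModule.induction_on with
      | h m s =>
        obtain ⟨t, ht, htm⟩ := hne m
        have hu : IsUnit (algebraMap B L t) := IsLocalization.map_units L (⟨t, ht⟩ : q.asIdeal.primeCompl)
        rw [← Submodule.smul_mem_iff_of_isUnit _ hu, algebraMap_smul, LocalizedModule.smul'_mk]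
        have key : ∀ y ∈ P, ∀ s : q.asIdeal.primeCompl, LocalizedModule.mk y s ∈ IsLocalRing.maximalIdeal L • (⊤ : Submodule L Nq) := by
          intro y hy
          refine Submodule.smul_induction_on hy (fun b hb m _ s => ?_) fun a b ha hb s => ?_
          · rw [← LocalizedModule.smul'_mk, ← algebraMap_smul L b (LocalizedModule.mk m s)]
            refine Submodule.smul_mem_smul ?_ Submodule.mem_top
            refine (IsLocalization.AtPrime.to_map_mem_maximal_iff L q.asIdeal b).mpr ?_
            exact Ideal.map_le_iff_le_comap.mpr hp hb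
          · rw [show LocalizedModule.mk (a + b) s = LocalizedModule.mk a s + LocalizedModule.mk b s by
              rw [LocalizedModule.mk_add_mk, ← smul_add, LocalizedModule.mk_cancel_common_left]]
            exact add_mem (ha s) (hb s)
        exact key _ htm s
    have hnt : Nontrivial Nq := hq
    obtain ⟨r, hr, hr0⟩ := Submodule.exists_sub_one_mem_and_smul_eq_zero_of_fg_of_le_smul _ _ Module.Finite.fg_top hle
    have hu : IsUnit r := by
      by_contra hnu
      exact (IsLocalRing.maximalIdeal.isMaximal L).ne_top ((Ideal.eq_top_iff_one _).mpr (by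
        have := sub_mem (show r ∈ IsLocalRing.maximalIdeal L from hnu) hr
        rwa [sub_sub_cancel] at this))
    obtain ⟨z, hz⟩ := exists_ne (0 : Nq)
    exact hz (hu.smul_eq_zero.mp (hr0 z Submodule.mem_top))
  let J : Ideal B := P.colon {n}
  have hJq : J ≤ q.asIdeal := fun s hs => by
    by_contra hsq
    exact hn s hsq (Submodule.mem_colon_singleton.mp hs)
  obtain ⟨Q, hQ, hQq⟩ := Ideal.exists_minimalPrimes_le hJq
  haveI := hQ.1.1
  refine ⟨⟨Q, hQ.1.1⟩, hQq, ?_, le_antisymm (fun a ha => ?_) fun a ha => ?_⟩
  · rw [Module.mem_support_iff_of_finite]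
    intro b hb
    refine hQ.1.2 (Submodule.mem_colon_singleton.mpr ?_)
    rw [Module.mem_annihilator.mp hb n]; exact zero_mem _
  · by_contra hap
    let π := Ideal.Quotient.mk J
    have hreg : π (algebraMap A B a) ∈ nonZeroDivisors (B ⧸ J) := by
      refine mem_nonZeroDivisors_iff_right.mpr fun b hb => ?_
      obtain ⟨b, rfl⟩ := Ideal.Quotient.mk_surjective b
      rw [← map_mul, Ideal.Quotient.eq_zero_iff_mem, Submodule.mem_colon_singleton, mul_comm, mul_smul,
        algebraMap_smul] at hb
      rw [Ideal.Quotient.eq_zero_iff_mem, Submodule.mem_colon_singleton]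
      have hPA : ∀ y : N, y ∈ P ↔ y ∈ (p • ⊤ : Submodule A N) := fun y => by
        rw [← Submodule.restrictScalars_mem A, Ideal.smul_restrictScalars, Submodule.restrictScalars_top]
      rw [hPA] at hb ⊢
      haveI : Module.Flat (A ⧸ p) (N ⧸ (p • ⊤ : Submodule A N)) :=
        Module.Flat.of_linearEquiv (M := (A ⧸ p) ⊗[A] N)
          ((TensorProduct.quotTensorEquivQuotSMul N p).extendScalarsOfSurjective Ideal.Quotient.mk_surjective).symm
      have h0 : Ideal.Quotient.mk p a • Submodule.Quotient.mk (p := (p • ⊤ : Submodule A N)) (b • n) = 0 := by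
        rw [← Ideal.Quotient.algebraMap_eq, algebraMap_smul, ← Submodule.Quotient.mk_smul,
          Submodule.Quotient.mk_eq_zero]
        exact hb
      haveI : IsDomain (A ⧸ p) := Ideal.Quotient.isDomain p
      haveI : Module.IsTorsionFree (A ⧸ p) (N ⧸ (p • ⊤ : Submodule A N)) := Module.Flat.isTorsionFree
      have hne : Ideal.Quotient.mk p a ≠ 0 := by rwa [Ne, Ideal.Quotient.eq_zero_iff_mem]
      exact (Submodule.Quotient.mk_eq_zero _).mp ((smul_eq_zero_iff_right hne).mp h0)
    have hQm : Q.map π ∈ minimalPrimes (B ⧸ J) := by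
      rw [Ideal.minimalPrimes_eq_comap] at hQ
      obtain ⟨Q', hQ', rfl⟩ := hQ
      rwa [Ideal.map_comap_of_surjective _ Ideal.Quotient.mk_surjective]
    exact (Ideal.disjoint_nonZeroDivisors_of_mem_minimalPrimes hQm).le_bot
      ⟨Ideal.mem_map_of_mem π (show algebraMap A B a ∈ Q from ha), hreg⟩
  · refine hQ.1.2 (Submodule.mem_colon_singleton.mpr ?_)
    exact Submodule.smul_mem_smul (Ideal.mem_map_of_mem _ ha) Submodule.mem_top

end GoingDown

section Indep

variable {A R : Type u} [CommRing A] [CommRing R] [Algebra A R] (N : Type u) [AddCommGroup N]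
  [Module R N] [Module.Finite R N] [Module A N] [IsScalarTower A R N] [Module.Flat A N]

attribute [local instance] Algebra.TensorProduct.rightAlgebra in
/-- Algebraic independence at a prime of the support propagates to a generization of its image,
within the support, for modules flat over the base. -/
theorem indep_of_flat (p p' : Ideal A) [p.IsPrime] [p'.IsPrime] (h : p' ≤ p)
    (q : PrimeSpectrum R) (hqN : q ∈ Module.support R N) (hq : q.asIdeal.comap (algebraMap A R) = p)
    {n : ℕ} (a : Fin n → R) (ha : DimSpec.Indep p q.asIdeal a) :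
    ∃ q' : PrimeSpectrum R, q' ∈ Module.support R N ∧
      q'.comap (algebraMap A R) = ⟨p', inferInstance⟩ ∧ DimSpec.Indep p' q'.asIdeal a := by
  classical
  let C := R ⧸ Module.annihilator R N
  letI : Module C N := Module.quotientAnnihilator
  haveI : IsScalarTower A C N := IsScalarTower.of_algebraMap_smul fun x m => by
    show algebraMap A R x • m = x • m
    exact algebraMap_smul R x m
  haveI : IsScalarTower R C N := IsScalarTower.of_algebraMap_smul fun x m => rfl
  haveI : Module.Finite C N := Module.Finite.of_restrictScalars_finite R C N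
  have hann : Module.annihilator C N = ⊥ := by
    refine eq_bot_iff.mpr fun c hc => ?_
    obtain ⟨c, rfl⟩ := Ideal.Quotient.mk_surjective c
    rw [Submodule.mem_bot, Ideal.Quotient.eq_zero_iff_mem, Module.mem_annihilator]
    exact fun m => Module.mem_annihilator.mp hc m
  have hsupp : Module.support C N = Set.univ := Set.eq_univ_of_forall fun Q => by
    rw [Module.mem_support_iff_of_finite, hann]; exact bot_le
  let mk : R →+* C := Ideal.Quotient.mk _
  let v : PUnit.{u+1} → (R →+* C) := fun _ => mk
  have hvA : ∀ i, (v i).comp (algebraMap A R) = algebraMap A C := fun _ => rfl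
  have hd : DimSpec.Dense' (C := fun _ : PUnit.{u+1} => C) v p a := fun Q hQ => by
    have hle : Module.annihilator R N ≤ q.asIdeal := Module.mem_support_iff_of_finite.mp hqN
    have hc : (q.asIdeal.map mk).comap mk = q.asIdeal := by
      rw [Ideal.comap_map_of_surjective _ Ideal.Quotient.mk_surjective, ← RingHom.ker_eq_comap_bot,
        Ideal.mk_ker, sup_eq_left]
      exact hle
    refine ⟨PUnit.unit, q.asIdeal.map mk, Ideal.map_isPrime_of_surjective Ideal.Quotient.mk_surjective
      (by rw [Ideal.mk_ker]; exact hle), ?_, fun hm => ha Q hQ ?_⟩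
    · rw [← Ideal.comap_comap]
      show ((q.asIdeal.map mk).comap mk).comap (algebraMap A R) = p
      rw [hc, hq]
    · rw [← hc]; exact hm
  obtain ⟨V, φ, hφ, hφp⟩ := DimSpec.exists_valuation p p' h
  have hgen : DimSpec.Gen (C := fun _ : PUnit.{u+1} => C) v V φ := by
    intro i L _ ψ χ hψ hc
    letI : Algebra A V := φ.toAlgebra
    letI : Algebra A L := (ψ.comp φ).toAlgebra
    have hχ : ∀ x : A, χ (algebraMap A C x) = ψ (φ x) := fun x => by
      rw [← hvA i]
      exact (RingHom.congr_fun hc x).symm
    let ψ' : V →ₐ[A] L :=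
      { toRingHom := ψ
        commutes' := fun _ => rfl }
    let χ' : C →ₐ[A] L :=
      { toRingHom := χ
        commutes' := hχ }
    let D := V ⊗[A] C
    let π : D →ₐ[A] L := Algebra.TensorProduct.lift ψ' χ' fun _ _ => mul_comm _ _
    have hπV : π.toRingHom.comp (algebraMap V D) = ψ := RingHom.ext fun x => by
      show π (x ⊗ₜ 1) = ψ x
      refine (Algebra.TensorProduct.lift_tmul ψ' χ' _ x (1 : C)).trans ?_
      show ψ x * χ' 1 = ψ x
      rw [map_one, mul_one]
    haveI : (RingHom.ker π.toRingHom).IsPrime := RingHom.ker_isPrime _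
    let ND := D ⊗[C] N
    haveI : Module.Flat V ND := Module.Flat.of_linearEquiv (Algebra.IsPushout.cancelBaseChange A V C D N)
    have hmem : (⟨RingHom.ker π.toRingHom, inferInstance⟩ : PrimeSpectrum D) ∈ Module.support D ND := by
      rw [Groth.Agent.S6284.result (R := C) (R' := D) N, hsupp]
      trivial
    obtain ⟨q', hq'le, -, hq'0⟩ := exists_le_of_le (A := V) (B := D) ND _ hmem (⊥ : Ideal V) bot_le
    refine ⟨D, inferInstance, algebraMap V _, (Algebra.TensorProduct.includeRight).toRingHom,
      π.toRingHom, q'.asIdeal, q'.isPrime, ?_, hπV, ?_, hq'le, hq'0⟩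
    · rw [hvA i]
      refine RingHom.ext fun x => ?_
      show (φ x) ⊗ₜ[A] (1 : C) = (1 : V) ⊗ₜ[A] (algebraMap A C x)
      rw [Algebra.algebraMap_eq_smul_one, TensorProduct.tmul_smul, TensorProduct.smul_tmul', Algebra.smul_def,
        mul_one]
      rfl
    · refine RingHom.ext fun x => ?_
      show π (1 ⊗ₜ x) = χ x
      refine (Algebra.TensorProduct.lift_tmul ψ' χ' _ (1 : V) x).trans ?_
      show ψ' 1 * χ x = χ x
      rw [map_one, one_mul]
  have hd' := DimSpec.indep_of_gen p p' v V φ hφ hφp hgen a hd
  let J : Ideal C := p'.map (algebraMap A C)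
  haveI : IsDomain (A ⧸ p') := Ideal.Quotient.isDomain _
  haveI : (RingHom.ker (MvPolynomial.map (σ := Fin n) (Ideal.Quotient.mk p'))).IsPrime := RingHom.ker_isPrime _
  let M : Submonoid C := ((RingHom.ker (MvPolynomial.map (σ := Fin n) (Ideal.Quotient.mk p'))).primeCompl.map
    (MvPolynomial.aeval a).toRingHom.toMonoidHom).map mk.toMonoidHom
  have hne : ∀ Q : MvPolynomial (Fin n) A,
      Q ∉ RingHom.ker (MvPolynomial.map (Ideal.Quotient.mk p')) ↔ ∃ m, Q.coeff m ∉ p' := fun Q => by
    rw [RingHom.mem_ker, MvPolynomial.ext_iff, not_forall]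
    simp only [MvPolynomial.coeff_map, MvPolynomial.coeff_zero, Ideal.Quotient.eq_zero_iff_mem]
  have hdisj : Disjoint (J : Set C) (M : Set C) := by
    rw [Set.disjoint_left]
    rintro _ hJ ⟨_, ⟨Q, hQ, rfl⟩, rfl⟩
    obtain ⟨i, y, hy, hyp, hyQ⟩ := hd' Q ((hne Q).mp hQ)
    refine hyQ ((Ideal.map_le_iff_le_comap.mpr ?_) hJ)
    exact le_of_eq hyp.symm
  obtain ⟨y, hy, hJy, hdy⟩ := Ideal.exists_le_prime_disjoint J M hdisj
  haveI := hy
  refine ⟨⟨y.comap mk, Ideal.comap_isPrime _ _⟩, ?_, PrimeSpectrum.ext (le_antisymm ?_ ?_), ?_⟩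
  · rw [Module.mem_support_iff_of_finite]
    intro x hx
    show mk x ∈ y
    rw [Ideal.Quotient.eq_zero_iff_mem.mpr hx]
    exact zero_mem _
  · intro x hx
    by_contra hx'
    refine Set.disjoint_left.mp hdy (show mk (algebraMap A R x) ∈ y from hx)
      ⟨algebraMap A R x, ⟨MvPolynomial.C x, (hne _).mpr ⟨0, by simpa using hx'⟩, MvPolynomial.aeval_C _ _⟩, rfl⟩
  · intro x hx
    exact hJy (Ideal.mem_map_of_mem (algebraMap A C) hx)
  · intro Q hQ hmem
    exact Set.disjoint_left.mp hdy (show mk (MvPolynomial.aeval a Q) ∈ y from hmem)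
      ⟨_, ⟨Q, (hne Q).mpr hQ, rfl⟩, rfl⟩

end Indep

end Groth.Agent.FlatMisc.FlatSuppDim
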