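import Groth.Agent.FlatMisc.GenericFlat
import Groth.Agent.RedSub.Basic
import Mathlib.AlgebraicGeometry.Morphisms.UniversallyOpen
import Mathlib.AlgebraicGeometry.Fiber
import Mathlib.AlgebraicGeometry.Properties

/-! Near the generic point every point generalizes to a point of the generic fibre. -/

set_option autoImplicit false

universe u

open AlgebraicGeometry CategoryTheory Limits TopologicalSpace

namespace Groth.Agent.FlatMisc.NearGeneric

theorem exists_open_generalizing {X Y : Scheme.{u}} (f : X ⟶ Y) [IrreducibleSpace ↑Y]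
    [LocallyOfFiniteType f] [QuasiCompact f] :
    ∃ V : Y.Opens, (V : Set ↑Y).Nonempty ∧
      ∀ x : X, f x ∈ V → ∃ z : X, f z = genericPoint ↑Y ∧ z ⤳ x := by
  let i := (Scheme.IdealSheafData.vanishingIdeal (⊤ : Closeds Y)).subschemeι
  have hr : Set.range i = Set.univ := RedSub.range_vanishingIdeal_subschemeι ⊤
  have : Surjective i := ⟨Set.range_eq_univ.mp hr⟩
  obtain ⟨y₀, hy₀⟩ := i.surjective (genericPoint ↑Y)
  obtain ⟨W', -, hne, hflat, -⟩ :=
    GenericFlat.exists_open (pullback.snd f i) ⊤ ⟨y₀, trivial⟩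
  obtain ⟨V, hVo, hV⟩ := i.isEmbedding.isInducing.isOpen_iff.mp W'.2
  have hmem : ∀ y, i y ∈ V ↔ y ∈ W' := fun y => by
    show y ∈ i ⁻¹' V ↔ _
    rw [hV]; rfl
  have hVne : V.Nonempty := by
    obtain ⟨y, hy⟩ := hne
    exact ⟨i y, (hmem y).2 hy⟩
  refine ⟨⟨V, hVo⟩, hVne, fun x hx => ?_⟩
  obtain ⟨x', rfl⟩ := (pullback.fst f i).surjective x
  have hcomm : f (pullback.fst f i x') = i (pullback.snd f i x') := by
    rw [← Scheme.Hom.comp_apply, ← Scheme.Hom.comp_apply, pullback.condition]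
  have hx' : pullback.snd f i x' ∈ W' := (hmem _).1 (hcomm ▸ hx)
  have hy₀' : y₀ ∈ W' := (hmem _).1 (by
    rw [hy₀]
    exact ((genericPoint_spec ↑Y).mem_open_set_iff hVo).2 (by simpa using hVne))
  have hsp : (⟨y₀, hy₀'⟩ : W'.toScheme) ⤳ ⟨pullback.snd f i x', hx'⟩ := by
    refine Topology.IsInducing.subtypeVal.specializes_iff.mp (i.isEmbedding.isInducing.specializes_iff.mp ?_)
    show i y₀ ⤳ _
    rw [hy₀]
    exact genericPoint_specializes _
  have hrs : (pullback.snd f i ∣_ W') ⟨x', hx'⟩ = (⟨pullback.snd f i x', hx'⟩ : W'.toScheme) :=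
    Subtype.ext (morphismRestrict_base_coe _ _ _)
  obtain ⟨z, hz, hzy⟩ := (Flat.generalizingMap (pullback.snd f i ∣_ W')) (hrs ▸ hsp)
  refine ⟨pullback.fst f i z.1, ?_,
    (Topology.IsInducing.subtypeVal.specializes_iff.mpr hz).map (pullback.fst f i).continuous⟩
  rw [← Scheme.Hom.comp_apply, pullback.condition, Scheme.Hom.comp_apply, ← hy₀]
  congr 1
  rw [← morphismRestrict_base_coe (pullback.snd f i) W' z, hzy]

end Groth.Agent.FlatMisc.NearGeneric
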