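import Groth.Agent.FlatMisc.GenericFree
import Mathlib.RingTheory.Localization.BaseChange
import Mathlib.RingTheory.Ideal.Operations
import Mathlib.RingTheory.FiniteType

/-! An element avoiding the generic points of the generic fibre avoids the generic points of the
fibres near the generic point. -/

set_option autoImplicit false

universe u

open TensorProduct

namespace Groth.Agent.FlatMisc.NowhereDenseFib

variable {A B : Type u} [CommRing A] [IsDomain A] [CommRing B] [Algebra A B]

theorem exists_avoid [Algebra.FiniteType A B] (J : Ideal B)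
    (hgen : ∀ q : Ideal B, q.IsPrime → q.comap (algebraMap A B) = ⊥ → J ≤ q →
      ∃ q' : Ideal B, q'.IsPrime ∧ q' ≤ q ∧ q'.comap (algebraMap A B) = ⊥ ∧ ¬ J ≤ q') :
    ∃ f : A, f ≠ 0 ∧ ∀ q : Ideal B, q.IsPrime → algebraMap A B f ∉ q → J ≤ q →
      ∃ q' : Ideal B, q'.IsPrime ∧ q' ≤ q ∧ q'.comap (algebraMap A B) = q.comap (algebraMap A B) ∧
        ¬ J ≤ q' := by
  classical
  let M : Submonoid B := Algebra.algebraMapSubmonoid B (nonZeroDivisors A)
  have hM : ∀ q : Ideal B, q.IsPrime → (Disjoint (M : Set B) q ↔ q.comap (algebraMap A B) = ⊥) := by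
    intro q hq
    rw [Set.disjoint_left]
    constructor
    · intro h
      rw [eq_bot_iff]
      intro a ha
      by_contra ha0
      exact h ⟨a, mem_nonZeroDivisors_of_ne_zero ha0, rfl⟩ ha
    · rintro h _ ⟨a, ha, rfl⟩ haq
      have : a ∈ q.comap (algebraMap A B) := haq
      rw [h] at this
      exact nonZeroDivisors.ne_zero ha this
  let L := B ⊗[A] FractionRing A
  have hloc : IsLocalization M L := IsLocalization.tensor _ (nonZeroDivisors A)
  have : IsNoetherianRing (FractionRing A ⊗[A] B) :=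
    Algebra.FiniteType.isNoetherianRing (FractionRing A) _
  have : IsNoetherianRing L :=
    isNoetherianRing_of_ringEquiv (FractionRing A ⊗[A] B)
      (Algebra.TensorProduct.comm A (FractionRing A) B).toRingEquiv
  have hfin : (minimalPrimes L).Finite := minimalPrimes.finite_of_isNoetherianRing L
  -- the element
  have hmin : ∀ P ∈ minimalPrimes L, ¬ J ≤ P.comap (algebraMap B L) := by
    intro P hP hJ
    have hPp : P.IsPrime := hP.1.1
    have hd : Disjoint (M : Set B) (P.comap (algebraMap B L)) :=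
      ((IsLocalization.isPrime_iff_isPrime_disjoint M L P).mp hPp).2
    obtain ⟨q', hq', hle, hc, hJ'⟩ := hgen (P.comap (algebraMap B L)) inferInstance
      ((hM _ inferInstance).mp hd) hJ
    have hd' := (hM q' hq').mpr hc
    have hp' := IsLocalization.isPrime_of_isPrime_disjoint M L q' hq' hd'
    have hle' : q'.map (algebraMap B L) ≤ P := Ideal.map_le_iff_le_comap.mpr hle
    have heq := le_antisymm hle' (hP.2 ⟨hp', bot_le⟩ hle')
    refine hJ' (hJ.trans (le_of_eq ?_))
    rw [← heq]
    exact IsLocalization.under_map_of_isPrime_disjoint M L hq' hd'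
  obtain ⟨g, hgJ, hg⟩ : ∃ g ∈ J, ∀ P ∈ minimalPrimes L, algebraMap B L g ∉ P := by
    by_contra h
    push Not at h
    have hsub : (J : Set B) ⊆ ⋃ P ∈ (hfin.toFinset : Set (Ideal L)),
        (P.comap (algebraMap B L) : Set B) := fun x hx => by
      obtain ⟨P, hP, hxP⟩ := h x hx
      exact Set.mem_biUnion (hfin.mem_toFinset.mpr hP) hxP
    obtain ⟨P, hP, hJP⟩ := (Ideal.subset_union_prime (f := fun P : Ideal L => P.comap (algebraMap B L))
      ⊥ ⊥ (fun P hP _ _ => by
        have : P.IsPrime := (hfin.mem_toFinset.mp hP).1.1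
        exact inferInstance)).mp hsub
    exact hmin P (hfin.mem_toFinset.mp hP) hJP
  let I : Ideal B := (nilradical L).comap (algebraMap B L)
  have hgI : ∀ b, g * b ∈ I → b ∈ I := by
    intro b hb
    simp only [I, Ideal.mem_comap, nilradical, ← Ideal.sInf_minimalPrimes] at hb ⊢
    rw [Ideal.mem_sInf] at hb ⊢
    intro P hP
    have h1 := hb hP
    rw [map_mul] at h1
    exact (hP.1.1.mem_or_mem h1).resolve_left (hg P hP)
  -- generic freeness
  have hGF := GenericFree.genFree (R := A) B
  obtain ⟨f₀, -, hf₀, ι, v, hv, hs⟩ := hGF B 1 one_ne_zero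
  have hIq : ∀ q : Ideal B, q.IsPrime → algebraMap A B f₀ ∉ q → I ≤ q := by
    intro q hq hfq x hx
    obtain ⟨n, hn⟩ := (hx : IsNilpotent (algebraMap B L x))
    rw [← map_pow] at hn
    replace hn : algebraMap B L (x ^ n) = 0 := hn
    rw [IsLocalization.map_eq_zero_iff M L] at hn
    obtain ⟨⟨_, a, ha, rfl⟩, hax⟩ := hn
    obtain ⟨k, hk⟩ := hs (x ^ n)
    obtain ⟨c, hc⟩ := Finsupp.mem_span_range_iff_exists_finsupp.mp hk
    have h1 : Finsupp.linearCombination A v (a • c) = 0 := by
      rw [map_smul, Finsupp.linearCombination_apply, hc, smul_comm, Algebra.smul_def a, hax, smul_zero]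
    have h2 := hv _ h1
    rw [smul_comm] at h2
    have h3 : f₀ • c = 0 := (smul_eq_zero.mp h2).resolve_left (nonZeroDivisors.ne_zero ha)
    have h4 : c = 0 := (smul_eq_zero.mp h3).resolve_left hf₀
    rw [h4, Finsupp.sum_zero_index] at hc
    have h5 : algebraMap A B f₀ ^ k * x ^ n ∈ q := by
      rw [← map_pow, ← Algebra.smul_def, ← hc]
      exact q.zero_mem
    rcases hq.mem_or_mem h5 with h6 | h6
    · exact absurd (hq.mem_of_pow_mem _ h6) hfq
    · exact hq.mem_of_pow_mem _ h6
  obtain ⟨f, hff, hf, ι', w, hw, hsw⟩ := hGF (B ⧸ (I ⊔ Ideal.span {g})) f₀ hf₀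
  refine ⟨f, hf, fun q hq hfq hJq => ?_⟩
  have hf₀q : algebraMap A B f₀ ∉ q := by
    obtain ⟨d, rfl⟩ := hff
    intro h
    exact hfq (by rw [map_mul]; exact q.mul_mem_right _ h)
  set p := q.comap (algebraMap A B)
  set N : Ideal B := p.map (algebraMap A B) ⊔ I
  -- `g` is a nonzerodivisor on the fibre
  have hreg : ∀ c, g * c ∈ N → ∃ k, algebraMap A B (f ^ k) * c ∈ N := by
    intro c hc
    obtain ⟨u, hu, i, hi, hui⟩ := Submodule.mem_sup.mp hc
    rw [Ideal.map, Ideal.span, Submodule.mem_span_iff_exists_finset_subset] at hu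
    obtain ⟨e, T, hT, -, hu⟩ := hu
    choose! a ha hat using fun t (ht : t ∈ T) => hT ht
    choose k hk using fun t : B => hsw (Ideal.Quotient.mk (I ⊔ Ideal.span {g}) (e t))
    let K := T.sup k
    have hK : ∀ t ∈ T, f ^ K • Ideal.Quotient.mk (I ⊔ Ideal.span {g}) (e t) ∈
        Submodule.span A (Set.range w) := fun t ht => by
      obtain ⟨r, hr⟩ := Nat.exists_eq_add_of_le (Finset.le_sup (f := k) ht)
      rw [show K = k t + r from hr, add_comm, pow_add, mul_smul]
      exact Submodule.smul_mem _ _ (hk t)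
    choose! b hb using fun t ht => Finsupp.mem_span_range_iff_exists_finsupp.mp (hK t ht)
    have hsum : Finsupp.linearCombination A w (∑ t ∈ T, a t • b t) = 0 := by
      rw [map_sum]
      have : ∀ t ∈ T, Finsupp.linearCombination A w (a t • b t) =
          f ^ K • Ideal.Quotient.mk (I ⊔ Ideal.span {g}) (e t • t) := fun t ht => by
        rw [map_smul, Finsupp.linearCombination_apply, hb t ht, smul_comm]
        congr 1
        rw [smul_eq_mul, map_mul, mul_comm, Algebra.smul_def, ← Ideal.Quotient.mk_algebraMap, hat t ht]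
      rw [Finset.sum_congr rfl this, ← Finset.smul_sum, ← map_sum, hu,
        Ideal.Quotient.eq_zero_iff_mem.mpr, smul_zero]
      rw [show u = g * c - i by rw [← hui]; ring]
      exact Ideal.sub_mem _ (Ideal.mem_sup_right (Ideal.mem_span_singleton'.mpr ⟨c, mul_comm c g⟩))
        (Ideal.mem_sup_left hi)
    have hz := hw _ hsum
    -- lift everything to `B`
    choose W hW using fun j => Ideal.Quotient.mk_surjective (w j)
    have hlift : ∀ t ∈ T, ∃ d, algebraMap A B (f ^ K) * e t -
        Finsupp.linearCombination A W (b t) - g * d ∈ I := by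
      intro t ht
      have : algebraMap A B (f ^ K) * e t - Finsupp.linearCombination A W (b t) ∈
          I ⊔ Ideal.span {g} := by
        rw [← Ideal.Quotient.eq_zero_iff_mem, map_sub, sub_eq_zero, map_mul,
          Ideal.Quotient.mk_algebraMap, ← Algebra.smul_def, ← hb t ht,
          ← Finsupp.linearCombination_apply]
        have e1 : w = Ideal.Quotient.mkₐ A (I ⊔ Ideal.span {g}) ∘ W := funext fun j => (hW j).symm
        rw [e1]
        exact (Finsupp.apply_linearCombination A (Ideal.Quotient.mkₐ A _).toLinearMap W (b t)).symm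
      obtain ⟨x, hx, y, hy, hxy⟩ := Submodule.mem_sup.mp this
      obtain ⟨d, rfl⟩ := Ideal.mem_span_singleton'.mp hy
      exact ⟨d, by rw [← hxy]; simpa [mul_comm] using hx⟩
    choose! d hd using hlift

    refine ⟨K + 1, ?_⟩
    -- compare
    set s : B := ∑ t ∈ T, t * d t
    have key : g * (algebraMap A B (f ^ (K + 1)) * c - algebraMap A B f * s) ∈ I := by
      have h1 : ∑ t ∈ T, algebraMap A B f * t *
          (algebraMap A B (f ^ K) * e t - Finsupp.linearCombination A W (b t) - g * d t) ∈ I :=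
        Ideal.sum_mem _ fun t ht => I.mul_mem_left _ (hd t ht)
      have h2 : ∑ t ∈ T, algebraMap A B f * t * Finsupp.linearCombination A W (b t) = 0 := by
        have : Finsupp.linearCombination A W (f • ∑ t ∈ T, a t • b t) = 0 := by rw [hz, map_zero]
        rw [← this, map_smul, map_sum, Finset.smul_sum]
        refine Finset.sum_congr rfl fun t ht => ?_
        rw [map_smul, Algebra.smul_def, Algebra.smul_def, hat t ht, mul_assoc]
      simp only [mul_sub, Finset.sum_sub_distrib, h2, sub_zero] at h1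
      have e2 : ∑ t ∈ T, algebraMap A B f * t * (algebraMap A B (f ^ K) * e t) =
          algebraMap A B (f ^ (K + 1)) * u := by
        rw [← hu, Finset.mul_sum, pow_succ, map_mul]
        exact Finset.sum_congr rfl fun t _ => by rw [smul_eq_mul]; ring
      have e3 : ∑ t ∈ T, algebraMap A B f * t * (g * d t) = g * (algebraMap A B f * s) := by
        rw [show s = _ from rfl, Finset.mul_sum, Finset.mul_sum]
        exact Finset.sum_congr rfl fun t _ => by ring
      rw [e2, e3] at h1
      have := Ideal.add_mem _ h1 (I.mul_mem_left (algebraMap A B (f ^ (K + 1))) hi)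
      rwa [show algebraMap A B (f ^ (K + 1)) * u - g * (algebraMap A B f * s) +
          algebraMap A B (f ^ (K + 1)) * i = g * (algebraMap A B (f ^ (K + 1)) * c - algebraMap A B f * s)
        by linear_combination (algebraMap A B (f ^ (K + 1))) * hui] at this
    have h7 : algebraMap A B (f ^ (K + 1)) * c =
        algebraMap A B f * s + (algebraMap A B (f ^ (K + 1)) * c - algebraMap A B f * s) := by ring
    rw [h7]
    refine Submodule.add_mem_sup (Ideal.mul_mem_left _ _ (Ideal.sum_mem _ fun t ht => ?_)) (hgI _ key)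
    rw [← hat t ht]
    exact Ideal.mul_mem_right _ _ (Ideal.mem_map_of_mem _ (ha t ht))
  by_contra hno
  push Not at hno
  -- otherwise every prime over `p` inside `q` contains `g`
  let S : Submonoid B := q.primeCompl ⊔ Submonoid.powers g
  have hdisj : ¬ Disjoint (N : Set B) S := by
    intro hd
    obtain ⟨q', hq', hNq', hdq⟩ := Ideal.exists_le_prime_disjoint N S hd
    have hle : q' ≤ q := fun x hx => by
      by_contra hxq
      exact Set.disjoint_left.mp hdq hx (Submonoid.mem_sup_left hxq)
    refine Set.disjoint_left.mp hdq (hno q' hq' hle (le_antisymm ?_ ?_) hgJ)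
      (Submonoid.mem_sup_right ⟨1, pow_one g⟩)
    · exact Ideal.comap_mono hle
    · exact Ideal.map_le_iff_le_comap.mp (le_sup_left.trans hNq')
  rw [Set.not_disjoint_iff] at hdisj
  obtain ⟨x, hxN, hxS⟩ := hdisj
  obtain ⟨t, ht, _, ⟨n, rfl⟩, rfl⟩ := Submonoid.mem_sup.mp hxS
  have hind : ∀ n t, t ∉ q → t * g ^ n ∈ N → False := by
    intro n
    induction n with
    | zero =>
      intro t ht h
      rw [pow_zero, mul_one] at h
      exact ht (sup_le Ideal.map_comap_le (hIq q hq hf₀q) h)
    | succ n ih =>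
      intro t ht h
      rw [show t * g ^ (n + 1) = g * (t * g ^ n) by ring] at h
      obtain ⟨k, h'⟩ := hreg _ h
      refine ih (algebraMap A B (f ^ k) * t) (fun hm => ?_) (by rwa [mul_assoc])
      rcases hq.mem_or_mem hm with hm | hm
      · rw [map_pow] at hm
        exact hfq (hq.mem_of_pow_mem _ hm)
      · exact ht hm
  exact hind n t ht hxN

end Groth.Agent.FlatMisc.NowhereDenseFib

namespace Groth.Agent.FlatMisc.NowhereDenseFib

/-- Version over a ring whose nilradical is a prime `P`. -/
theorem exists_avoid' {A B : Type u} [CommRing A] [CommRing B] [Algebra A B]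
    [Algebra.FiniteType A B] (P : Ideal A) [P.IsPrime] (hP : P ≤ nilradical A) (J : Ideal B)
    (hgen : ∀ q : Ideal B, q.IsPrime → q.comap (algebraMap A B) = P → J ≤ q →
      ∃ q' : Ideal B, q'.IsPrime ∧ q' ≤ q ∧ q'.comap (algebraMap A B) = P ∧ ¬ J ≤ q') :
    ∃ f : A, f ∉ P ∧ ∀ q : Ideal B, q.IsPrime → algebraMap A B f ∉ q → J ≤ q →
      ∃ q' : Ideal B, q'.IsPrime ∧ q' ≤ q ∧ q'.comap (algebraMap A B) = q.comap (algebraMap A B) ∧
        ¬ J ≤ q' := by
  set Q : Ideal B := P.map (algebraMap A B)
  let π : B →+* B ⧸ Q := Ideal.Quotient.mk Q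
  have hπ : Function.Surjective π := Ideal.Quotient.mk_surjective
  have hmk : Function.Surjective (Ideal.Quotient.mk P) := Ideal.Quotient.mk_surjective
  have hQ : ∀ q : Ideal B, q.IsPrime → Q ≤ q := fun q hq =>
    Ideal.map_le_iff_le_comap.mpr (hP.trans (nilradical_le_prime _))
  have : Algebra.FiniteType (A ⧸ P) (B ⧸ Q) :=
    Algebra.FiniteType.of_restrictScalars_finiteType A (A ⧸ P) (B ⧸ Q)
  have hcc : ∀ Q' : Ideal (B ⧸ Q), (Q'.comap π).comap (algebraMap A B) =
      (Q'.comap (algebraMap (A ⧸ P) (B ⧸ Q))).comap (Ideal.Quotient.mk P) := fun Q' => by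
    rw [Ideal.comap_comap, Ideal.comap_comap]
    rfl
  have hJ : ∀ Q' : Ideal (B ⧸ Q), J.map π ≤ Q' ↔ J ≤ Q'.comap π :=
    fun Q' => Ideal.map_le_iff_le_comap
  have hback : ∀ q : Ideal B, q.IsPrime → (q.map π).comap π = q := fun q hq => by
    rw [Ideal.comap_map_of_surjective _ hπ, ← RingHom.ker_eq_comap_bot, Ideal.mk_ker, sup_eq_left]
    exact hQ q hq
  have hprime : ∀ q : Ideal B, q.IsPrime → (q.map π).IsPrime := fun q hq =>
    Ideal.map_isPrime_of_surjective hπ (by rw [Ideal.mk_ker]; exact hQ q hq)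
  obtain ⟨f, hf, hF⟩ := exists_avoid (A := A ⧸ P) (J.map π) fun Q' hQ' hc hJQ => by
    obtain ⟨q', hq', hle, hc', hJ'⟩ := hgen (Q'.comap π) inferInstance
      (by rw [hcc, hc, ← RingHom.ker_eq_comap_bot, Ideal.mk_ker]) ((hJ _).mp hJQ)
    refine ⟨q'.map π, hprime q' hq', Ideal.map_le_iff_le_comap.mpr hle, ?_, fun h => hJ' ?_⟩
    · refine Ideal.comap_injective_of_surjective _ hmk ?_
      rw [← hcc, hback q' hq', hc', ← RingHom.ker_eq_comap_bot, Ideal.mk_ker]
    · rw [← hback q' hq']
      exact (hJ _).mp h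
  obtain ⟨f, rfl⟩ := hmk f
  refine ⟨f, fun h => hf (Ideal.Quotient.eq_zero_iff_mem.mpr h), fun q hq hfq hJq => ?_⟩
  obtain ⟨Q', hQ', hle, hc, hJ'⟩ := hF (q.map π) (hprime q hq)
    (fun h => hfq (by rw [← hback q hq]; exact h)) (Ideal.map_mono hJq)
  exact ⟨Q'.comap π, inferInstance, (Ideal.comap_mono hle).trans (hback q hq).le,
    by rw [hcc, hc, ← hcc, hback q hq], fun h => hJ' ((hJ _).mpr h)⟩

end Groth.Agent.FlatMisc.NowhereDenseFib
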