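import Mathlib.RingTheory.Ideal.MinimalPrime.Basic
import Mathlib.RingTheory.Ideal.MinimalPrime.Localization
import Mathlib.RingTheory.QuasiFinite.Basic
import Mathlib.RingTheory.KrullDimension.Zero
import Mathlib.RingTheory.Localization.BaseChange
import Mathlib.RingTheory.Localization.Integral
import Mathlib.RingTheory.IntegralClosure.IsIntegralClosure.Basic
import Mathlib.RingTheory.Finiteness.Basic
import Mathlib.RingTheory.LocalProperties.Reduced

/-!
Quasi-finite algebras over reduced rings near minimal primes: generic finiteness, and closed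
nowhere dense subsets have nowhere dense image.
-/

set_option autoImplicit false

open TensorProduct Polynomial

namespace Groth.Agent.FlatMisc.QFGeneric

universe u

variable {A B : Type u} [CommRing A] [CommRing B] [Algebra A B]

theorem exists_minimal [IsReduced A] {a : A} (ha : a ≠ 0) : ∃ p ∈ minimalPrimes A, a ∉ p := by
  by_contra hc
  push Not at hc
  refine ha (IsReduced.eq_zero a ?_)
  rw [← mem_nilradical, nilradical_eq_sInf, Submodule.mem_sInf]
  intro q hq
  have : Ideal.IsPrime q := hq
  obtain ⟨q', hq', hle⟩ := Ideal.exists_minimalPrimes_le (I := ⊥) (J := q) bot_le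
  exact hle (hc q' hq')

/-- An element of a minimal prime of a reduced ring is killed outside of it. -/
theorem exists_mul_eq_zero [IsReduced A] {p : Ideal A} (hp : p ∈ minimalPrimes A) {c : A}
    (hc : c ∈ p) : ∃ s ∉ p, s * c = 0 := by
  have := hp.1.1
  by_contra hcon
  push Not at hcon
  obtain ⟨q, hq, -, hd⟩ := Ideal.exists_le_prime_disjoint (⊥ : Ideal A)
    (p.primeCompl ⊔ Submonoid.powers c) (Set.disjoint_left.mpr fun x hx hxs => by
      obtain ⟨s, hs, _, ⟨n, rfl⟩, rfl⟩ := Submonoid.mem_sup.mp hxs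
      rw [SetLike.mem_coe, Ideal.mem_bot] at hx
      refine hcon s hs (IsReduced.eq_zero _ ⟨n + 1, ?_⟩)
      calc (s * c) ^ (n + 1) = s ^ n * c * (s * c ^ n) := by ring
        _ = 0 := by simp only [] at hx; rw [hx, mul_zero])
  have hqp : q ≤ p := fun x hx => by
    by_contra hxp
    exact Set.disjoint_left.mp hd hx (Submonoid.mem_sup_left hxp)
  exact Set.disjoint_left.mp hd (hp.2 ⟨hq, bot_le⟩ hqp hc)
    (Submonoid.mem_sup_right (Submonoid.mem_powers c))

/-- Generic basis for a finite module over a reduced ring. -/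
theorem generic_basis [IsReduced A] (M : Type u) [AddCommGroup M] [Module A M] [Module.Finite A M]
    {a : A} (ha : a ≠ 0) :
    ∃ p ∈ minimalPrimes A, a ∉ p ∧ ∃ (d : ℕ) (v : Fin d → M) (g : A), g ∉ p ∧
      (∀ m, g • m ∈ Submodule.span A (Set.range v)) ∧
      (∀ w : Fin d → A, ∑ i, w i • v i = 0 → ∀ i, g * w i = 0) := by
  classical
  have hex : ∃ d, ∃ p ∈ minimalPrimes A, a ∉ p ∧ ∃ g, g ∉ p ∧ ∃ v : Fin d → M,
      ∀ m, g • m ∈ Submodule.span A (Set.range v) := by
    obtain ⟨n, v, hv⟩ := Module.Finite.exists_fin (R := A) (M := M)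
    obtain ⟨p, hp, hap⟩ := exists_minimal ha
    refine ⟨n, p, hp, hap, 1, fun h => hp.1.1.ne_top ((Ideal.eq_top_iff_one p).mpr h), v,
      fun m => ?_⟩
    rw [hv]; trivial
  obtain ⟨p, hp, hap, g, hg, v, hv⟩ := Nat.find_spec hex
  have := hp.1.1
  refine ⟨p, hp, hap, _, v, g * a, ‹p.IsPrime›.mul_notMem hg hap, fun m => ?_, fun w hw i => ?_⟩
  · rw [mul_comm, mul_smul]; exact Submodule.smul_mem _ _ (hv m)
  by_contra hne
  obtain ⟨p', hp', hgap⟩ := exists_minimal hne
  obtain ⟨k, hk⟩ : ∃ k, Nat.find hex = k + 1 := ⟨_, (Nat.sub_one_add_one (Nat.pos_iff_ne_zero.mp i.pos)).symm⟩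
  let i' : Fin (k + 1) := Fin.cast hk i
  refine Nat.find_min hex (m := k) (by omega) ⟨p', hp', fun h => hgap ?_, g * w i, fun h => hgap ?_,
    fun j => v (Fin.cast hk.symm (i'.succAbove j)), fun m => ?_⟩
  · exact p'.mul_mem_right _ (p'.mul_mem_left _ h)
  · rw [show g * a * w i = g * w i * a by ring]
    exact p'.mul_mem_right _ h
  · rw [mul_comm, mul_smul]
    have key : ∀ y ∈ Submodule.span A (Set.range v), w i • y ∈
        Submodule.span A (Set.range fun j => v (Fin.cast hk.symm (i'.succAbove j))) := by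
      intro y hy
      induction hy using Submodule.span_induction with
      | mem x hx =>
        obtain ⟨j, rfl⟩ := hx
        by_cases hji : j = i
        · subst hji
          rw [← Finset.sum_erase_add _ _ (Finset.mem_univ j), add_eq_zero_iff_neg_eq] at hw
          rw [← hw]
          refine neg_mem (sum_mem fun l hl => Submodule.smul_mem _ _ (Submodule.subset_span ?_))
          obtain ⟨j', hj'⟩ := Fin.exists_succAbove_eq (x := Fin.cast hk l) (y := i') (fun h =>
            (Finset.mem_erase.mp hl).1 (Fin.cast_injective _ h))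
          exact ⟨j', by simp [hj']⟩
        · obtain ⟨j', hj'⟩ := Fin.exists_succAbove_eq (x := Fin.cast hk j) (y := i')
            (fun h => hji (Fin.cast_injective _ h))
          exact Submodule.smul_mem _ _ (Submodule.subset_span ⟨j', by simp [hj']⟩)
      | zero => simp
      | add x y _ _ hx hy => rw [smul_add]; exact add_mem hx hy
      | smul r x _ hx => rw [smul_comm]; exact Submodule.smul_mem _ _ hx
    exact key _ (hv m)

/-- Von Neumann regularity at a minimal prime. -/
theorem exists_regular [IsReduced A] [IsReduced B] {p : Ideal A} (hp : p ∈ minimalPrimes A) (x : B)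
    (P : A[X]) (hP : ∃ i, P.coeff i ∉ p) (k : ℕ) (h : x ^ k * aeval x P = 0) :
    ∃ s ∉ p, ∃ y : B, algebraMap A B s * x = x * x * y := by
  induction hn : P.natDegree using Nat.strong_induction_on generalizing P k with
  | h n ih =>
    have hrec : aeval x P = x * aeval x P.divX + algebraMap A B (P.coeff 0) := by
      conv_lhs => rw [← X_mul_divX_add P]
      rw [map_add, map_mul, aeval_X, aeval_C]
    by_cases h0 : P.coeff 0 ∈ p
    · obtain ⟨i, hi⟩ := hP
      obtain ⟨s, hs, hsc⟩ := exists_mul_eq_zero hp h0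
      obtain ⟨j, rfl⟩ : ∃ j, i = j + 1 :=
        ⟨i - 1, by cases i with | zero => exact absurd h0 hi | succ j => simp⟩
      refine ih (C s * P.divX).natDegree ?_ (C s * P.divX) ⟨j, ?_⟩ (k + 1) ?_ rfl
      · have : P.natDegree ≠ 0 := fun h' => hi (by
          rw [coeff_eq_zero_of_natDegree_lt (by omega)]; exact p.zero_mem)
        have h1 := natDegree_C_mul_le s P.divX
        rw [natDegree_divX_eq_natDegree_tsub_one] at h1
        omega
      · rw [coeff_C_mul, coeff_divX]
        exact hp.1.1.mul_notMem hs hi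
      · rw [map_mul, aeval_C]
        calc x ^ (k + 1) * (algebraMap A B s * aeval x P.divX)
            = x ^ k * aeval x P * algebraMap A B s -
                x ^ k * algebraMap A B (s * P.coeff 0) := by
              rw [hrec, map_mul]; ring
          _ = 0 := by rw [h, hsc, map_zero]; ring
    · refine ⟨P.coeff 0, h0, -aeval x P.divX, ?_⟩
      have h1 : x * aeval x P = 0 := IsReduced.eq_zero _ ⟨k + 1, by
        rw [mul_pow]
        calc x ^ (k + 1) * aeval x P ^ (k + 1) =
            x * aeval x P ^ k * (x ^ k * aeval x P) := by ring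
          _ = 0 := by rw [h, mul_zero]⟩
      rw [hrec] at h1
      linear_combination h1

/-- The finite case: a nowhere dense closed subset avoids the preimage of some open. -/
theorem core_finite [IsReduced A] [IsReduced B] [Module.Finite A B] (I : Ideal B)
    (hI : ∀ z : B, (∀ q : Ideal B, q.IsPrime → z ∉ q → I ≤ q) → z = 0) {a : A} (ha : a ≠ 0) :
    ∃ g : A, a ∣ g ∧ g ≠ 0 ∧ ∀ q : Ideal B, q.IsPrime → I ≤ q → algebraMap A B g ∈ q := by
  classical
  obtain ⟨p, hp, hap, d, v, g, hg, hspan, hindep⟩ := generic_basis (B ⧸ I) ha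
  have := hp.1.1
  choose v' hv' using fun i => Ideal.Quotient.mk_surjective (I := I) (v i)
  obtain ⟨n, b, hb⟩ := Module.Finite.exists_fin (R := A) (M := B)
  choose c hc using fun k => (Submodule.mem_span_range_iff_exists_fun A).mp
    (hspan (Ideal.Quotient.mk I (b k)))
  let ι : Fin n → B := fun k => g • b k - ∑ j, c k j • v' j
  have hι : ∀ k, ι k ∈ I := fun k => by
    rw [← Ideal.Quotient.eq_zero_iff_mem]
    have : Ideal.Quotient.mkₐ A I (ι k) = 0 := by
      simp only [ι, map_sub, map_smul, map_sum, Ideal.Quotient.mkₐ_eq_mk, hv', hc, sub_self]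
    exact this
  have hIι : ∀ x ∈ I, algebraMap A B (g * g) * x ∈ Submodule.span A (Set.range ι) := by
    intro x hx
    obtain ⟨w, hw⟩ := (Submodule.mem_span_range_iff_exists_fun A).mp (hb.symm ▸ Submodule.mem_top :
      x ∈ Submodule.span A (Set.range b))
    have e1 : g • x = ∑ k, w k • ι k + ∑ j, (∑ k, w k * c k j) • v' j := by
      simp only [ι, smul_sub, Finset.sum_sub_distrib, Finset.smul_sum, Finset.sum_smul, mul_smul]
      rw [Finset.sum_comm (f := fun (j : Fin d) (k : Fin n) => w k • c k j • v' j), sub_add_cancel,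
        ← hw, Finset.smul_sum]
      exact Finset.sum_congr rfl fun k _ => smul_comm _ _ _
    have e2 : ∑ j, (∑ k, w k * c k j) • v j = 0 := by
      have e3 : Ideal.Quotient.mkₐ A I (g • x) = 0 := by
        rw [map_smul, Ideal.Quotient.mkₐ_eq_mk, Ideal.Quotient.eq_zero_iff_mem.mpr hx, smul_zero]
      rw [e1, map_add, map_sum, map_sum] at e3
      simpa only [map_smul, Ideal.Quotient.mkₐ_eq_mk, hv', Ideal.Quotient.eq_zero_iff_mem.mpr (hι _),
        smul_zero, Finset.sum_const_zero, zero_add] using e3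
    have e4 := hindep _ e2
    have : algebraMap A B (g * g) * x = ∑ k, (g * w k) • ι k := by
      rw [← Algebra.smul_def, mul_smul, e1, smul_add, Finset.smul_sum, Finset.smul_sum]
      simp only [← mul_smul, e4, zero_smul, Finset.sum_const_zero, add_zero]
    rw [this]
    exact sum_mem fun k _ => Submodule.smul_mem _ _ (Submodule.subset_span ⟨k, rfl⟩)
  choose P hPm hPx using fun k => Algebra.IsIntegral.isIntegral (R := A) (ι k)
  choose s hs y hy using fun k => exists_regular hp (ι k) (P k)
    ⟨(P k).natDegree, by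
      rw [coeff_natDegree, (hPm k).leadingCoeff]
      exact fun h => ‹p.IsPrime›.ne_top ((Ideal.eq_top_iff_one p).mpr h)⟩ 0
    (by rw [pow_zero, one_mul, aeval_def]; exact hPx k)
  let z : B := ∏ k, (algebraMap A B (s k) - ι k * y k)
  have hzmk : Ideal.Quotient.mk I z = Ideal.Quotient.mk I (algebraMap A B (∏ k, s k)) := by
    simp only [z, map_prod, map_sub, map_mul, Ideal.Quotient.eq_zero_iff_mem.mpr (hι _), zero_mul,
      sub_zero]
  have hzι : ∀ x ∈ Submodule.span A (Set.range ι), z * x = 0 := by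
    intro x hx
    induction hx using Submodule.span_induction with
    | mem x hx =>
      obtain ⟨k, rfl⟩ := hx
      simp only [z]
      rw [← Finset.prod_erase_mul _ _ (Finset.mem_univ k), mul_assoc]
      rw [show (algebraMap A B (s k) - ι k * y k) * ι k = 0 by linear_combination hy k, mul_zero]
    | zero => simp
    | add x y _ _ hx hy => rw [mul_add, hx, hy, add_zero]
    | smul r x _ hx => rw [mul_smul_comm, hx, smul_zero]
  let z' : B := z * algebraMap A B (g * g * a)
  have hz' : z' = 0 := by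
    refine hI z' fun q hq hzq x hx => (hq.mem_or_mem (x := z') (y := x) ?_).resolve_left hzq
    have : z' * x = z * (algebraMap A B (g * g) * x) * algebraMap A B a := by
      simp only [z', map_mul]; ring
    rw [this, hzι _ (hIι x hx), zero_mul]
    exact q.zero_mem
  refine ⟨(∏ k, s k) * (g * g * a), ⟨(∏ k, s k) * (g * g), by ring⟩, fun h0 => ?_, fun q hq hIq => ?_⟩
  · refine (‹p.IsPrime›.mul_notMem (fun h' => ?_)
      (‹p.IsPrime›.mul_notMem (‹p.IsPrime›.mul_notMem hg hg) hap)) (h0 ▸ p.zero_mem)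
    obtain ⟨k, -, hk⟩ := ‹p.IsPrime›.prod_mem_iff.mp h'
    exact hs k hk
  · have hd : algebraMap A B (∏ k, s k) - z ∈ q :=
      hIq (Ideal.Quotient.eq.mp hzmk.symm)
    have h' : z * algebraMap A B (g * g * a) ∈ q := by
      change z' ∈ q
      rw [hz']
      exact q.zero_mem
    have := q.add_mem (q.mul_mem_right (algebraMap A B (g * g * a)) hd) h'
    rwa [← add_mul, sub_add_cancel, ← map_mul] at this

/-- At a minimal prime of a reduced ring a quasi-finite algebra is finite. -/
theorem exists_integral [IsReduced A] [Algebra.QuasiFinite A B] {p : Ideal A} [p.IsPrime]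
    (hp : p ∈ minimalPrimes A) (b : B) :
    ∃ P : A[X], P.leadingCoeff ∉ p ∧ aeval b P = 0 := by
  let Ap := Localization.AtPrime p
  have : Ring.KrullDimLE 0 Ap := Ring.KrullDimLE.of_isLocalization p hp Ap
  have hf : IsField Ap := Ring.KrullDimLE.isField_of_isReduced
  let := hf.toField
  have : IsArtinianRing Ap := inferInstance
  have : Module.Finite Ap (Ap ⊗[A] B) := Module.Finite.of_quasiFinite
  obtain ⟨Q, hQm, hQ⟩ := Algebra.IsIntegral.isIntegral (R := Ap) ((1 : Ap) ⊗ₜ[A] b)
  obtain ⟨u, hu, hQ'⟩ := IsLocalization.integerNormalization_spec p.primeCompl Q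
  let P₀ := IsLocalization.integerNormalization p.primeCompl Q
  have h0 : aeval ((1 : Ap) ⊗ₜ[A] b) P₀ = 0 := by
    exact IsLocalization.integerNormalization_aeval_eq_zero (S := Ap) p.primeCompl Q hQ
  have hlift : TensorProduct.mk A Ap B 1 (aeval b P₀) = TensorProduct.mk A Ap B 1 0 := by
    rw [map_zero, ← h0]
    change Algebra.TensorProduct.includeRight (R := A) (A := Ap) (aeval b P₀) = _
    rw [← aeval_algHom_apply]
    rfl
  obtain ⟨⟨c, hc⟩, hc'⟩ := IsLocalizedModule.exists_of_eq (S := p.primeCompl) hlift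
  have hc0 : aeval b (C c * P₀) = 0 := by
    rw [map_mul, aeval_C, ← Algebra.smul_def]
    simpa [Submonoid.smul_def] using hc'
  have hmem : (C c * P₀).coeff Q.natDegree ∉ p := by
    rw [coeff_C_mul]
    refine ‹p.IsPrime›.mul_notMem hc fun h => ?_
    have h' := congrArg (fun R => R.coeff Q.natDegree) hQ'
    simp only [coeff_map, coeff_smul, coeff_natDegree, hQm.leadingCoeff] at h'
    rw [Algebra.smul_def, mul_one] at h'
    obtain ⟨⟨e, he⟩, he'⟩ := (IsLocalization.eq_iff_exists p.primeCompl Ap).mp h'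
    exact ‹p.IsPrime›.mul_notMem he hu (by rw [← he']; exact p.mul_mem_left _ h)
  generalize C c * P₀ = R at hc0 hmem
  induction hn : R.natDegree using Nat.strong_induction_on generalizing R with
  | h n ih =>
    by_cases hl : R.leadingCoeff ∈ p
    · obtain ⟨s, hs, hsl⟩ := exists_mul_eq_zero hp hl
      refine ih (C s * R).natDegree ?_ (C s * R) (by rw [map_mul, hc0, mul_zero]) (by
        rw [coeff_C_mul]; exact ‹p.IsPrime›.mul_notMem hs hmem) rfl
      have hne : C s * R ≠ 0 := fun h => ‹p.IsPrime›.mul_notMem hs hmem (by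
        rw [← coeff_C_mul, h, coeff_zero]; exact p.zero_mem)
      subst hn
      refine lt_of_le_of_ne (natDegree_C_mul_le s R) fun h => leadingCoeff_ne_zero.mpr hne ?_
      rw [← coeff_natDegree, h, coeff_C_mul, coeff_natDegree]
      exact hsl
    · exact ⟨R, hl, hc0⟩

/-- A quasi-finite finite type algebra is finite over some basic open in any nonempty open. -/
theorem exists_finite_away [Algebra.FiniteType A B] [Algebra.QuasiFinite A B] {a : A}
    (ha : ¬ IsNilpotent a) :
    ∃ g : A, a ∣ g ∧ ¬ IsNilpotent g ∧ ∀ (A' B' : Type u) [CommRing A'] [CommRing B']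
      [Algebra A A'] [Algebra B B'] [Algebra A' B'] [Algebra A B'] [IsScalarTower A A' B']
      [IsScalarTower A B B'] [IsLocalization.Away g A']
      [IsLocalization.Away (algebraMap A B g) B'], Module.Finite A' B' := by
  classical
  let A' := A ⧸ nilradical A
  let B' := B ⧸ nilradical B
  let : Algebra A' B' := (Ideal.quotientMap (nilradical B) (algebraMap A B) (fun x hx => by
    rw [Ideal.mem_comap, mem_nilradical]; exact (mem_nilradical.mp hx).map _)).toAlgebra
  have : IsScalarTower A A' B' := IsScalarTower.of_algebraMap_eq fun x => rfl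
  have : IsReduced A' := (Ideal.isRadical_iff_quotient_reduced _).mp (Ideal.radical_isRadical _)
  have : IsReduced B' := (Ideal.isRadical_iff_quotient_reduced _).mp (Ideal.radical_isRadical _)
  have : Algebra.QuasiFinite A' B' := Algebra.QuasiFinite.of_restrictScalars A A' B'
  have ha' : Ideal.Quotient.mk (nilradical A) a ≠ 0 := fun h =>
    ha (mem_nilradical.mp (Ideal.Quotient.eq_zero_iff_mem.mp h))
  obtain ⟨p, hp, hap⟩ := exists_minimal ha'
  have := hp.1.1
  obtain ⟨S, hS⟩ := Algebra.FiniteType.out (R := A) (A := B)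
  choose P hPl hP0 using fun b : B => exists_integral hp (Ideal.Quotient.mk (nilradical B) b)
  choose Q hQ hQd using fun b => Polynomial.exists_degree_eq_of_mem_lifts
    (Polynomial.lifts_iff_coeff_lifts (P b) |>.mpr fun n => Ideal.Quotient.mk_surjective _)
  let g : A := a * ∏ b ∈ S, (Q b).leadingCoeff
  have hlc : ∀ b, Ideal.Quotient.mk (nilradical A) (Q b).leadingCoeff = (P b).leadingCoeff := by
    intro b
    rw [leadingCoeff, leadingCoeff, natDegree_eq_of_degree_eq (hQd b)]
    rw [← coeff_map, hQ b]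
  have hg : Ideal.Quotient.mk (nilradical A) g ∉ p := by
    simp only [g, map_mul, map_prod, hlc]
    refine ‹p.IsPrime›.mul_notMem hap fun h => ?_
    obtain ⟨b, -, hb⟩ := ‹p.IsPrime›.prod_mem_iff.mp h
    exact hPl b hb
  refine ⟨g, dvd_mul_right _ _, fun h => hg ?_, ?_⟩
  · rw [Ideal.Quotient.eq_zero_iff_mem.mpr (mem_nilradical.mpr h)]; exact p.zero_mem
  intro A₁ B₁ _ _ _ _ _ _ _ _ _ _
  have hint : ∀ b ∈ S, IsIntegral A₁ (algebraMap B B₁ b) := by
    intro b hb
    obtain ⟨N, hN⟩ : IsNilpotent (aeval b (Q b)) := by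
      rw [← mem_nilradical, ← Ideal.Quotient.eq_zero_iff_mem, ← hP0 b, ← hQ b, Polynomial.aeval_def,
        Polynomial.aeval_def, eval₂_map, hom_eval₂]
      rfl
    have hunit : IsUnit (algebraMap A A₁ (Q b).leadingCoeff) := by
      have : IsUnit (algebraMap A A₁ g) := IsLocalization.Away.algebraMap_isUnit g
      obtain ⟨c, hc⟩ : (Q b).leadingCoeff ∣ g := dvd_mul_of_dvd_right (Finset.dvd_prod_of_mem _ hb) _
      rw [hc, map_mul] at this
      exact isUnit_of_mul_isUnit_left this
    have hu := hunit.pow (N + 1)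
    let R := C (↑hu.unit⁻¹ : A₁) * ((Q b).map (algebraMap A A₁)) ^ (N + 1)
    rcases subsingleton_or_nontrivial A₁ with hA | hA
    · refine ⟨1, monic_one, ?_⟩
      have : Subsingleton B₁ := Module.subsingleton A₁ B₁
      exact Subsingleton.elim _ _
    refine ⟨R, ?_, ?_⟩
    · have hm : ((Q b).map (algebraMap A A₁)).leadingCoeff = algebraMap A A₁ (Q b).leadingCoeff :=
        leadingCoeff_map_of_leadingCoeff_ne_zero _ hunit.ne_zero
      refine monic_C_mul_of_mul_leadingCoeff_eq_one ?_
      rw [leadingCoeff_pow' (by rw [hm]; exact hu.ne_zero), hm]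
      exact hu.val_inv_mul
    · change eval₂ (algebraMap A₁ B₁) (algebraMap B B₁ b) R = 0
      rw [← aeval_def, map_mul, map_pow (aeval (algebraMap B B₁ b)), aeval_map_algebraMap,
        aeval_algebraMap_apply B₁ b (Q b), ← map_pow (algebraMap B B₁),
        show aeval b (Q b) ^ (N + 1) = 0 by rw [pow_succ, hN, zero_mul], map_zero, mul_zero]
  have : Module.Finite A₁ (Algebra.adjoin A₁ (algebraMap B B₁ '' (S : Set B))) :=
    Algebra.finite_adjoin_of_finite_of_isIntegral (S.finite_toSet.image _) (by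
      rintro x ⟨b, hb, rfl⟩; exact hint b hb)
  have htop : Algebra.adjoin A₁ (algebraMap B B₁ '' (S : Set B)) = ⊤ := by
    rw [eq_top_iff]
    intro x _
    have hB : ∀ b : B, algebraMap B B₁ b ∈ Algebra.adjoin A₁ (algebraMap B B₁ '' (S : Set B)) := by
      intro b
      have hb : b ∈ Algebra.adjoin A (S : Set B) := hS ▸ Algebra.mem_top
      induction hb using Algebra.adjoin_induction with
      | mem x hx => exact Algebra.subset_adjoin ⟨x, hx, rfl⟩
      | algebraMap r =>
        rw [← IsScalarTower.algebraMap_apply, IsScalarTower.algebraMap_apply A A₁ B₁]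
        exact Subalgebra.algebraMap_mem _ _
      | add x y _ _ hx hy => rw [map_add]; exact add_mem hx hy
      | mul x y _ _ hx hy => rw [map_mul]; exact mul_mem hx hy
    obtain ⟨n, b, hb⟩ := IsLocalization.Away.surj (algebraMap A B g) x
    have hu : IsUnit (algebraMap A A₁ g) := IsLocalization.Away.algebraMap_isUnit g
    have : x = algebraMap A₁ B₁ ↑((hu.pow n).unit⁻¹) * algebraMap B B₁ b := by
      rw [← hb, ← IsScalarTower.algebraMap_apply, IsScalarTower.algebraMap_apply A A₁ B₁,
        ← map_pow (algebraMap A₁ B₁), mul_left_comm, ← map_mul, IsUnit.val_inv_mul, map_one, mul_one]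
    rw [this]
    exact mul_mem (Subalgebra.algebraMap_mem _ _) (hB b)
  exact Module.Finite.equiv ((Subalgebra.equivOfEq _ _ htop).trans Subalgebra.topEquiv).toLinearEquiv

/-- A closed nowhere dense subset has nowhere dense image. -/
theorem exists_avoid [Algebra.FiniteType A B] [Algebra.QuasiFinite A B] (I : Ideal B)
    (hI : ∀ z : B, (∀ q : Ideal B, q.IsPrime → z ∉ q → I ≤ q) → IsNilpotent z) {a : A}
    (ha : ¬ IsNilpotent a) :
    ∃ g : A, a ∣ g ∧ ¬ IsNilpotent g ∧ ∀ q : Ideal B, q.IsPrime → I ≤ q → algebraMap A B g ∈ q := by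
  classical
  obtain ⟨a₁, haa, ha₁, hfin⟩ := exists_finite_away (B := B) ha
  let A₁ := Localization.Away a₁
  let B₁ := Localization.Away (algebraMap A B a₁)
  let e : A₁ →+* B₁ := IsLocalization.Away.lift a₁
    (g := (algebraMap B B₁).comp (algebraMap A B))
    (IsLocalization.Away.algebraMap_isUnit (algebraMap A B a₁))
  let : Algebra A₁ B₁ := e.toAlgebra
  have : IsScalarTower A A₁ B₁ := IsScalarTower.of_algebraMap_eq fun x => by
    rw [IsScalarTower.algebraMap_apply A B B₁]
    exact (IsLocalization.Away.lift_eq (g := (algebraMap B B₁).comp (algebraMap A B)) a₁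
      (IsLocalization.Away.algebraMap_isUnit (algebraMap A B a₁)) x).symm
  have hfin' : Module.Finite A₁ B₁ := hfin A₁ B₁
  let A₂ := A₁ ⧸ nilradical A₁
  let B₂ := B₁ ⧸ nilradical B₁
  let : Algebra A₂ B₂ := (Ideal.quotientMap (nilradical B₁) (algebraMap A₁ B₁) (fun x hx => by
    rw [Ideal.mem_comap, mem_nilradical]; exact (mem_nilradical.mp hx).map _)).toAlgebra
  have : IsScalarTower A₁ A₂ B₂ := ⟨fun x y z => by
    obtain ⟨y, rfl⟩ := Ideal.Quotient.mk_surjective y
    obtain ⟨z, rfl⟩ := Ideal.Quotient.mk_surjective z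
    show Ideal.Quotient.mk _ (algebraMap A₁ B₁ (x * y)) * Ideal.Quotient.mk _ z =
      Ideal.Quotient.mk _ (x • (algebraMap A₁ B₁ y * z))
    rw [← map_mul, map_mul (algebraMap A₁ B₁), Algebra.smul_def, mul_assoc]⟩
  have : IsReduced A₂ := (Ideal.isRadical_iff_quotient_reduced _).mp (Ideal.radical_isRadical _)
  have : IsReduced B₂ := (Ideal.isRadical_iff_quotient_reduced _).mp (Ideal.radical_isRadical _)
  have : Module.Finite A₂ B₂ := Module.Finite.of_restrictScalars_finite A₁ A₂ B₂
  let φ : B →+* B₂ := (Ideal.Quotient.mk (nilradical B₁)).comp (algebraMap B B₁)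
  have hφa : IsUnit (φ (algebraMap A B a₁)) :=
    (IsLocalization.Away.algebraMap_isUnit (S := B₁) (algebraMap A B a₁)).map
      (Ideal.Quotient.mk (nilradical B₁))
  -- every prime not containing `a₁` comes from `B₂`
  have hlift : ∀ q : Ideal B, q.IsPrime → algebraMap A B a₁ ∉ q →
      ∃ q₂ : Ideal B₂, q₂.IsPrime ∧ q₂.comap φ = q := by
    intro q hq haq
    let χ : B₁ →+* q.ResidueField := IsLocalization.Away.lift (algebraMap A B a₁)
      (g := algebraMap B q.ResidueField)
      (IsUnit.mk0 _ fun h => haq (Ideal.algebraMap_residueField_eq_zero.mp h))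
    refine ⟨RingHom.ker (Ideal.Quotient.lift (nilradical B₁) χ
      fun x hx => ((mem_nilradical.mp hx).map χ).eq_zero), RingHom.ker_isPrime _, ?_⟩
    ext b
    rw [Ideal.mem_comap, RingHom.mem_ker]
    show χ (algebraMap B B₁ b) = 0 ↔ _
    rw [IsLocalization.Away.lift_eq, Ideal.algebraMap_residueField_eq_zero]
  have hI₂ : ∀ z : B₂, (∀ q : Ideal B₂, q.IsPrime → z ∉ q → I.map φ ≤ q) → z = 0 := by
    intro z hz
    obtain ⟨z₁, rfl⟩ := Ideal.Quotient.mk_surjective z
    obtain ⟨n, b, hb⟩ := IsLocalization.Away.surj (algebraMap A B a₁) z₁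
    have hbz : φ b = Ideal.Quotient.mk _ z₁ * φ (algebraMap A B a₁) ^ n := by
      simp only [φ, RingHom.comp_apply, ← hb, map_mul, map_pow]
    obtain ⟨N, hN⟩ : IsNilpotent (b * algebraMap A B a₁) := by
      refine hI _ fun q hq hnot x hx => ?_
      obtain ⟨q₂, hq₂, rfl⟩ := hlift q hq fun h => hnot (Ideal.mul_mem_left _ _ h)
      refine Ideal.map_le_iff_le_comap.mp (hz q₂ hq₂ fun h => hnot ?_) hx
      rw [Ideal.mem_comap, map_mul, hbz]
      exact q₂.mul_mem_right _ (q₂.mul_mem_right _ h)
    have h0 : φ (b * algebraMap A B a₁) = 0 := IsReduced.eq_zero _ ⟨N, by rw [← map_pow, hN, map_zero]⟩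
    rw [map_mul, hbz, mul_assoc] at h0
    exact ((hφa.pow n).mul hφa).mul_left_eq_zero.mp h0
  have hne : Nontrivial A₂ := by
    refine Ideal.Quotient.nontrivial_iff.mpr fun h => ha₁ ?_
    obtain ⟨N, hN⟩ : IsNilpotent (1 : A₁) := mem_nilradical.mp ((Ideal.eq_top_iff_one _).mp h)
    rw [one_pow] at hN
    obtain ⟨⟨_, n, rfl⟩, hn⟩ :=
      (IsLocalization.map_eq_zero_iff (Submonoid.powers a₁) A₁ (1 : A)).mp (by rw [map_one, hN])
    exact ⟨n, by simpa using hn⟩
  obtain ⟨g₂, -, hg₂, hq⟩ := core_finite (A := A₂) (I.map φ) hI₂ (one_ne_zero (α := A₂))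
  obtain ⟨g₁, rfl⟩ := Ideal.Quotient.mk_surjective g₂
  obtain ⟨n, h, hh⟩ := IsLocalization.Away.surj a₁ g₁
  refine ⟨a₁ * h, dvd_mul_of_dvd_left haa _, fun hnil => hg₂ ?_, fun q hqp hIq => ?_⟩
  · have h1 := (hnil.map (algebraMap A A₁)).map (Ideal.Quotient.mk (nilradical A₁))
    have h2 := h1.eq_zero
    rw [map_mul, map_mul, ← hh, map_mul, map_pow] at h2
    have hu : IsUnit (Ideal.Quotient.mk (nilradical A₁) (algebraMap A A₁ a₁)) :=
      (IsLocalization.Away.algebraMap_isUnit a₁).map _
    exact (hu.pow n).mul_left_eq_zero.mp (hu.mul_right_eq_zero.mp h2)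
  · by_cases haq : algebraMap A B a₁ ∈ q
    · rw [map_mul]; exact q.mul_mem_right _ haq
    obtain ⟨q₂, hq₂, rfl⟩ := hlift q hqp haq
    have hmem := hq q₂ hq₂ (Ideal.map_le_iff_le_comap.mpr hIq)
    rw [map_mul]
    refine Ideal.mul_mem_left _ _ ?_
    rw [Ideal.mem_comap]
    have : φ (algebraMap A B h) = algebraMap A₂ B₂ (Ideal.Quotient.mk _ g₁) *
        φ (algebraMap A B a₁) ^ n := by
      show Ideal.Quotient.mk _ (algebraMap B B₁ (algebraMap A B h)) =
        Ideal.Quotient.mk _ (algebraMap A₁ B₁ g₁) * Ideal.Quotient.mk _ _ ^ n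
      rw [← IsScalarTower.algebraMap_apply A B B₁ h, IsScalarTower.algebraMap_apply A A₁ B₁ h, ← hh,
        map_mul, map_mul, map_pow, map_pow, ← IsScalarTower.algebraMap_apply A A₁ B₁ a₁,
        ← IsScalarTower.algebraMap_apply A B B₁ a₁]
    rw [this]
    exact q₂.mul_mem_right _ hmem

end Groth.Agent.FlatMisc.QFGeneric
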