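import Groth.Agent.S6917
import Mathlib.AlgebraicGeometry.AffineScheme
import Mathlib.AlgebraicGeometry.GammaSpecAdjunction
import Mathlib.Topology.Sheaves.SheafCondition.Sites

/-!
A locally ringed space covered by two affine schemes, with sections given by fibre products,
is affine.
-/

set_option autoImplicit false
set_option linter.unusedSectionVars false

universe u

open CategoryTheory AlgebraicGeometry Limits TopologicalSpace Opposite

namespace Groth.Agent.FlatMisc.SchemePushoutAffine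

variable {X Y Z : Scheme.{u}} [IsAffine X] [IsAffine Y] [IsAffine Z] (i : Z ⟶ X) (j : Z ⟶ Y)
  {Q : LocallyRingedSpace.{u}} (a : X.toLocallyRingedSpace ⟶ Q) (b : Y.toLocallyRingedSpace ⟶ Q)

/-- The global sections of a locally ringed space. -/
abbrev GQ (T : LocallyRingedSpace.{u}) : CommRingCat.{u} := LocallyRingedSpace.Γ.obj (op T)

/-- The global sections pulled back. -/
noncomputable def glob (S : Scheme.{u}) (f : S.toLocallyRingedSpace ⟶ Q) : (GQ Q) →+* Γ(S, ⊤) :=
  (f.c.app (op ⊤)).hom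

theorem preimage_basicOpen {S : Scheme.{u}} (f : S.toLocallyRingedSpace ⟶ Q) (r : (GQ Q)) :
    (Opens.map f.base).obj (Q.toRingedSpace.basicOpen r) = S.basicOpen (glob S f r) :=
  LocallyRingedSpace.preimage_basicOpen f r

theorem toΓSpec_comp {S : Scheme.{u}} (f : S.toLocallyRingedSpace ⟶ Q) (x : S) :
    Q.toΓSpec.base (f.base x) = PrimeSpectrum.comap (glob S f) (S.toSpecΓ x) := by
  refine PrimeSpectrum.ext (Ideal.ext fun r => not_iff_not.mp ?_)
  show r ∉ (Q.toΓSpecFun (f.base x)).asIdeal ↔ glob S f r ∉ (S.toLocallyRingedSpace.toΓSpecFun x).asIdeal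
  have h1 : ∀ (T : LocallyRingedSpace.{u}) (s : (GQ T)) (t : T), s ∉ (T.toΓSpecFun t).asIdeal ↔
      t ∈ T.toRingedSpace.basicOpen s := fun T s t => by
    have := congrArg (fun A : Set T => t ∈ A) (T.toΓSpec_preimage_basicOpen_eq s)
    simp only [eq_iff_iff] at this
    exact this
  refine (h1 Q r (f.base x)).trans (Iff.trans ?_ (h1 S.toLocallyRingedSpace (glob S f r) x).symm)
  exact Iff.of_eq (congrArg (fun V : S.Opens => x ∈ V) (preimage_basicOpen f r))

variable (hsurj : ∀ q : Q, (∃ x : X, a.base x = q) ∨ ∃ y : Y, b.base y = q)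
  (hw : i.toLRSHom ≫ a = j.toLRSHom ≫ b)
  (hinj : ∀ (V : Opens Q) (s t : Q.presheaf.obj (op V)), a.c.app (op V) s = a.c.app (op V) t →
    b.c.app (op V) s = b.c.app (op V) t → s = t)
  (hexists : ∀ (V : Opens Q) (e : i ⁻¹ᵁ ((Opens.map a.base).obj V) = j ⁻¹ᵁ ((Opens.map b.base).obj V))
    (s : Γ(X, (Opens.map a.base).obj V)) (t : Γ(Y, (Opens.map b.base).obj V)),
    i.appLE _ _ le_rfl s = j.appLE _ (i ⁻¹ᵁ ((Opens.map a.base).obj V)) e.le t →
    ∃ r : Q.presheaf.obj (op V), a.c.app (op V) r = s ∧ b.c.app (op V) r = t)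
  (hi : Function.Surjective i.appTop)

include hw in
theorem preimage_eq (V : Opens Q) :
    i ⁻¹ᵁ ((Opens.map a.base).obj V) = j ⁻¹ᵁ ((Opens.map b.base).obj V) :=
  congrArg (fun k : Z.toLocallyRingedSpace ⟶ Q => (Opens.map k.base).obj V) hw

include hw in
theorem glob_comp : i.appTop.hom.comp (glob X a) = j.appTop.hom.comp (glob Y b) := by
  have h := congrArg (fun k : Z.toLocallyRingedSpace ⟶ Q => LocallyRingedSpace.Γ.map k.op) hw
  simp only [op_comp, Functor.map_comp] at h
  exact congrArg CommRingCat.Hom.hom h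

include hsurj hw hinj hexists hi in
theorem isIso_base : IsIso Q.toΓSpec.base := by
  letI : Algebra (GQ Q) Γ(X, ⊤) := (glob X a).toAlgebra
  letI : Algebra (GQ Q) Γ(Y, ⊤) := (glob Y b).toAlgebra
  letI : Algebra Γ(X, ⊤) Γ(Z, ⊤) := i.appTop.hom.toAlgebra
  letI : Algebra Γ(Y, ⊤) Γ(Z, ⊤) := j.appTop.hom.toAlgebra
  letI : Algebra (GQ Q) Γ(Z, ⊤) := (i.appTop.hom.comp (glob X a)).toAlgebra
  haveI : IsScalarTower (GQ Q) Γ(X, ⊤) Γ(Z, ⊤) := IsScalarTower.of_algebraMap_eq' rfl
  haveI : IsScalarTower (GQ Q) Γ(Y, ⊤) Γ(Z, ⊤) := IsScalarTower.of_algebraMap_eq' (glob_comp i j a b hw)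
  have hsq : EtMil.IsFibreSquare (GQ Q) Γ(Y, ⊤) Γ(X, ⊤) Γ(Z, ⊤) := by
    refine ⟨hi, fun t s hts => ?_⟩
    obtain ⟨r, hrs, hrt⟩ := hexists ⊤ rfl s t (by
      show i.appLE ⊤ (i ⁻¹ᵁ ⊤) le_rfl s = j.appLE ⊤ (j ⁻¹ᵁ ⊤) le_rfl t
      rw [Scheme.Hom.appLE_eq_app, Scheme.Hom.appLE_eq_app]
      exact hts.symm)
    exact ⟨r, ⟨hrt, hrs⟩, fun r' hr' => hinj ⊤ r' r (hr'.2.trans hrs.symm) (hr'.1.trans hrt.symm)⟩
  have hpo := S6917.result (GQ Q) Γ(Y, ⊤) Γ(X, ⊤) Γ(Z, ⊤) hsq
  let bck : ∀ (S : Scheme.{u}) [IsAffine S] (f : S.toLocallyRingedSpace ⟶ Q),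
      TopCat.of (PrimeSpectrum Γ(S, ⊤)) ⟶ Q.toTopCat := fun S _ f =>
    (inv S.toSpecΓ).base ≫ f.base
  have hback : ∀ (S : Scheme.{u}) [IsAffine S] (f : S.toLocallyRingedSpace ⟶ Q) (x : S),
      bck S f (S.toSpecΓ x) = f.base x := fun S _ f x => by
    show f.base ((inv S.toSpecΓ) (S.toSpecΓ x)) = f.base x
    rw [← Scheme.Hom.comp_apply, IsIso.hom_inv_id]
    rfl
  have hcond : TopCat.ofHom (ContinuousMap.mk (PrimeSpectrum.comap (algebraMap Γ(Y, ⊤) Γ(Z, ⊤)))
      (PrimeSpectrum.continuous_comap _)) ≫ bck Y b =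
      TopCat.ofHom (ContinuousMap.mk (PrimeSpectrum.comap (algebraMap Γ(X, ⊤) Γ(Z, ⊤)))
      (PrimeSpectrum.continuous_comap _)) ≫ bck X a := by
    refine TopCat.hom_ext (ContinuousMap.ext fun z => ?_)
    obtain ⟨w, rfl⟩ := Z.toSpecΓ.surjective z
    show bck Y b (PrimeSpectrum.comap j.appTop.hom (Z.toSpecΓ w)) = bck X a (PrimeSpectrum.comap i.appTop.hom (Z.toSpecΓ w))
    have hn : ∀ {S : Scheme.{u}} (k : Z ⟶ S), PrimeSpectrum.comap k.appTop.hom (Z.toSpecΓ w) = S.toSpecΓ (k w) :=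
      fun {S} k => (congrArg (fun g : Z ⟶ _ => g w) (Scheme.toSpecΓ_naturality k)).symm
    rw [hn, hn, hback, hback]
    exact congrArg (fun k : Z.toLocallyRingedSpace ⟶ Q => k.base w) hw.symm
  let ht := hpo.desc (bck Y b) (bck X a) hcond
  have htX : ∀ p, ht (PrimeSpectrum.comap (glob X a) p) = bck X a p := fun p =>
    ConcreteCategory.congr_hom (hpo.inr_desc (bck Y b) (bck X a) hcond) p
  have htY : ∀ p, ht (PrimeSpectrum.comap (glob Y b) p) = bck Y b p := fun p =>
    ConcreteCategory.congr_hom (hpo.inl_desc (bck Y b) (bck X a) hcond) p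
  refine ⟨⟨ht, TopCat.hom_ext (ContinuousMap.ext fun q => ?_), TopCat.hom_ext (ContinuousMap.ext fun p => ?_)⟩⟩
  · show ht (Q.toΓSpec.base q) = q
    rcases hsurj q with ⟨x, rfl⟩ | ⟨y, rfl⟩
    · rw [toΓSpec_comp]; exact (htX _).trans (hback X a x)
    · rw [toΓSpec_comp]; exact (htY _).trans (hback Y b y)
  · show Q.toΓSpec.base (ht p) = p
    rcases S6917.mem_range_or hsq p with ⟨P, rfl⟩ | ⟨P, rfl⟩
    · obtain ⟨y, rfl⟩ := Y.toSpecΓ.surjective P
      rw [show ht (PrimeSpectrum.comap (algebraMap (GQ Q) Γ(Y, ⊤)) (Y.toSpecΓ y)) = b.base y from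
        (htY _).trans (hback Y b y)]
      exact toΓSpec_comp b y
    · obtain ⟨x, rfl⟩ := X.toSpecΓ.surjective P
      rw [show ht (PrimeSpectrum.comap (algebraMap (GQ Q) Γ(X, ⊤)) (X.toSpecΓ x)) = a.base x from
        (htX _).trans (hback X a x)]
      exact toΓSpec_comp a x

/-- The restriction to a basic open. -/
noncomputable def resB (r : GQ Q) : GQ Q →+* Q.presheaf.obj (op (Q.toRingedSpace.basicOpen r)) :=
  (Q.presheaf.map (Q.toRingedSpace.basicOpen r).leTop.op).hom

theorem glob_res {S : Scheme.{u}} (f : S.toLocallyRingedSpace ⟶ Q) (V : Opens Q) (x : GQ Q) :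
    f.c.app (op V) (Q.presheaf.map V.leTop.op x) =
      S.presheaf.map ((Opens.map f.base).obj V).leTop.op (glob S f x) :=
  ConcreteCategory.congr_hom (f.c.naturality V.leTop.op) x

theorem res_surj {S : Scheme.{u}} [IsAffine S] (f : S.toLocallyRingedSpace ⟶ Q) (r : GQ Q)
    (s : Γ(S, (Opens.map f.base).obj (Q.toRingedSpace.basicOpen r))) :
    ∃ (n : ℕ) (s₀ : Γ(S, ⊤)), s * S.presheaf.map (Opens.leTop _).op (glob S f r) ^ n =
      S.presheaf.map (Opens.leTop _).op s₀ := by
  letI := (S.presheaf.map (Opens.leTop ((Opens.map f.base).obj (Q.toRingedSpace.basicOpen r))).op).hom.toAlgebra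
  haveI : IsLocalization.Away (glob S f r) Γ(S, (Opens.map f.base).obj (Q.toRingedSpace.basicOpen r)) :=
    (isAffineOpen_top S).isLocalization_of_eq_basicOpen _ (Opens.leTop _) (preimage_basicOpen f r)
  exact IsLocalization.Away.surj (glob S f r) s

theorem res_eq_zero {S : Scheme.{u}} [IsAffine S] (f : S.toLocallyRingedSpace ⟶ Q) (r : GQ Q)
    {W : S.Opens} (hW : W = S.basicOpen (glob S f r)) (s₀ : Γ(S, ⊤))
    (h : S.presheaf.map W.leTop.op s₀ = 0) : ∃ n : ℕ, glob S f r ^ n * s₀ = 0 := by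
  letI := (S.presheaf.map W.leTop.op).hom.toAlgebra
  haveI : IsLocalization.Away (glob S f r) Γ(S, W) :=
    (isAffineOpen_top S).isLocalization_of_eq_basicOpen _ W.leTop hW
  obtain ⟨⟨_, n, rfl⟩, hn⟩ := (IsLocalization.map_eq_zero_iff (Submonoid.powers (glob S f r)) Γ(S, W) s₀).mp h
  exact ⟨n, hn⟩

include hsurj hw hinj hexists in
theorem isLocalization_res (r : GQ Q) :
    letI := (resB r).toAlgebra
    IsLocalization.Away r (Q.presheaf.obj (op (Q.toRingedSpace.basicOpen r))) := by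
  set V := Q.toRingedSpace.basicOpen r with hV
  letI := (resB r).toAlgebra
  have hpre := preimage_eq i j a b hw V
  have hra := glob_res a V
  have hrb := glob_res b V
  refine (isLocalization_iff _ _).mpr ⟨fun y => ?_, fun s => ?_, fun {x y} hxy => ?_⟩
  · obtain ⟨_, n, rfl⟩ := y
    rw [map_pow]
    exact (Q.toRingedSpace.isUnit_res_basicOpen r).pow n
  · obtain ⟨n, s₀, hs⟩ := res_surj a r (a.c.app (op V) s)
    obtain ⟨m, t₀, ht⟩ := res_surj b r (b.c.app (op V) s)
    let σ := glob X a r ^ m * s₀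
    let τ := glob Y b r ^ n * t₀
    have hσ : X.presheaf.map ((Opens.map a.base).obj V).leTop.op σ =
        a.c.app (op V) (s * resB r r ^ (n + m)) := by
      rw [map_mul, map_pow, ← hs, map_mul, map_pow, show resB r r = Q.presheaf.map V.leTop.op r from rfl,
        hra, pow_add]
      ring
    have hτ : Y.presheaf.map ((Opens.map b.base).obj V).leTop.op τ =
        b.c.app (op V) (s * resB r r ^ (n + m)) := by
      rw [map_mul, map_pow, ← ht, map_mul, map_pow, show resB r r = Q.presheaf.map V.leTop.op r from rfl,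
        hrb, pow_add]
      ring
    -- the difference of the two lifts dies on the basic open of `Z`
    let fZ : Z.toLocallyRingedSpace ⟶ Q := i.toLRSHom ≫ a
    have hglob : glob Z fZ r = i.appTop (glob X a r) := rfl
    have h0 : Z.presheaf.map (i ⁻¹ᵁ ((Opens.map a.base).obj V)).leTop.op (i.appTop σ - j.appTop τ) = 0 := by
      rw [map_sub, sub_eq_zero]
      have hi' : Z.presheaf.map (i ⁻¹ᵁ ((Opens.map a.base).obj V)).leTop.op (i.appTop σ) =
          i.app ((Opens.map a.base).obj V) (X.presheaf.map ((Opens.map a.base).obj V).leTop.op σ) :=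
        (ConcreteCategory.congr_hom (i.naturality ((Opens.map a.base).obj V).leTop.op) σ).symm
      have hj' : Z.presheaf.map (j ⁻¹ᵁ ((Opens.map b.base).obj V)).leTop.op (j.appTop τ) =
          j.app ((Opens.map b.base).obj V) (Y.presheaf.map ((Opens.map b.base).obj V).leTop.op τ) :=
        (ConcreteCategory.congr_hom (j.naturality ((Opens.map b.base).obj V).leTop.op) τ).symm
      rw [hi', hσ, show Z.presheaf.map (i ⁻¹ᵁ ((Opens.map a.base).obj V)).leTop.op (j.appTop τ) =
          Z.presheaf.map (homOfLE hpre.le).op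
            (Z.presheaf.map (j ⁻¹ᵁ ((Opens.map b.base).obj V)).leTop.op (j.appTop τ)) from
        ((CommRingCat.comp_apply _ _ _).symm.trans
          (ConcreteCategory.congr_hom (Z.presheaf.map_comp _ _).symm _)).symm, hj', hτ]
      have hc : ∀ (f g : Z.toLocallyRingedSpace ⟶ Q) (e : f = g), f.c.app (op V) (s * resB r r ^ (n + m)) =
          Z.presheaf.map (homOfLE (le_of_eq (congrArg (fun k : Z.toLocallyRingedSpace ⟶ Q =>
            (Opens.map k.base).obj V) e))).op (g.c.app (op V) (s * resB r r ^ (n + m))) := by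
        rintro f g rfl
        exact (ConcreteCategory.congr_hom (Z.presheaf.map_id _) _).symm
      exact hc _ _ hw
    obtain ⟨k, hk⟩ := res_eq_zero fZ r (preimage_basicOpen fZ r) _ h0
    rw [hglob] at hk
    obtain ⟨x, hxX, hxY⟩ := hexists ⊤ rfl (glob X a r ^ k * σ) (glob Y b r ^ k * τ) (by
      show i.appLE ⊤ (i ⁻¹ᵁ ⊤) le_rfl (glob X a r ^ k * σ) = j.appLE ⊤ (j ⁻¹ᵁ ⊤) le_rfl (glob Y b r ^ k * τ)
      rw [Scheme.Hom.appLE_eq_app, Scheme.Hom.appLE_eq_app]
      show i.appTop.hom (glob X a r ^ k * σ) = j.appTop.hom (glob Y b r ^ k * τ)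
      have hjr : j.appTop.hom (glob Y b r) = i.appTop.hom (glob X a r) :=
        (RingHom.congr_fun (glob_comp i j a b hw) r).symm
      rw [map_mul i.appTop.hom (glob X a r ^ k), map_mul j.appTop.hom (glob Y b r ^ k), map_pow, map_pow, hjr, ← sub_eq_zero, ← mul_sub]
      exact hk)
    refine ⟨(x, ⟨r ^ (k + (n + m)), _, rfl⟩), hinj V _ _ ?_ ?_⟩
    · show a.c.app (op V) (s * resB r (r ^ (k + (n + m)))) = a.c.app (op V) (Q.presheaf.map V.leTop.op x)
      rw [hra, show glob X a x = glob X a r ^ k * σ from hxX, map_mul (X.presheaf.map _).hom, map_pow, hσ,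
        pow_add, ← map_pow (glob X a) r k]
      erw [← hra]
      erw [← map_mul (a.c.app (op V)).hom]
      exact congrArg _ (by
        rw [show (Q.presheaf.map V.leTop.op).hom (r ^ k) = resB r r ^ k from map_pow (resB r) r k]
        ring)
    · show b.c.app (op V) (s * resB r (r ^ (k + (n + m)))) = b.c.app (op V) (Q.presheaf.map V.leTop.op x)
      rw [hrb, show glob Y b x = glob Y b r ^ k * τ from hxY, map_mul (Y.presheaf.map _).hom, map_pow, hτ,
        pow_add, ← map_pow (glob Y b) r k]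
      erw [← hrb]
      erw [← map_mul (b.c.app (op V)).hom]
      exact congrArg _ (by
        rw [show (Q.presheaf.map V.leTop.op).hom (r ^ k) = resB r r ^ k from map_pow (resB r) r k]
        ring)
  · change resB r x = resB r y at hxy
    have h1 : resB r (x - y) = 0 := by rw [map_sub, hxy, sub_self]
    obtain ⟨k, hk⟩ := res_eq_zero a r (preimage_basicOpen a r) (glob X a (x - y)) (by
      rw [← hra, show Q.presheaf.map V.leTop.op (x - y) = 0 from h1, map_zero])
    obtain ⟨l, hl⟩ := res_eq_zero b r (preimage_basicOpen b r) (glob Y b (x - y)) (by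
      rw [← hrb, show Q.presheaf.map V.leTop.op (x - y) = 0 from h1, map_zero])
    refine ⟨⟨r ^ (k + l), _, rfl⟩, ?_⟩
    have h2 : r ^ (k + l) * (x - y) = 0 := hinj ⊤ _ _ ?_ ?_
    · show r ^ (k + l) * x = r ^ (k + l) * y
      rwa [mul_sub, sub_eq_zero] at h2
    · show glob X a (r ^ (k + l) * (x - y)) = glob X a 0
      rw [map_mul, map_pow, map_zero, pow_add, mul_right_comm, hk, zero_mul]
    · show glob Y b (r ^ (k + l) * (x - y)) = glob Y b 0
      rw [map_mul, map_pow, map_zero, pow_add, mul_assoc, hl, mul_zero]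

include hsurj hw hinj hexists hi in
theorem isIso_toΓSpec : IsIso Q.toΓSpec := by
  haveI := isIso_base i j a b hsurj hw hinj hexists hi
  haveI : IsIso Q.toΓSpec.c := by
    haveI : ∀ r : GQ Q, IsIso (Q.toΓSpec.c.app (op (PrimeSpectrum.basicOpen r))) := fun r => by
      let W := Q.toΓSpecMapBasicOpen r
      letI : Algebra (GQ Q) (Q.presheaf.obj (op W)) := (Q.toToΓSpecMapBasicOpen r).hom.toAlgebra
      haveI : IsLocalization.Away r (Q.presheaf.obj (op W)) := by
        have key : ∀ (V : Opens Q) (e : V = Q.toRingedSpace.basicOpen r),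
            @IsLocalization.Away (GQ Q) _ r (Q.presheaf.obj (op V)) _
              (Q.presheaf.map V.leTop.op).hom.toAlgebra := by
          rintro V rfl
          exact isLocalization_res i j a b hsurj hw hinj hexists r
        exact key W (Q.toΓSpecMapBasicOpen_eq r)
      have hloc : IsLocalization.Away r ((Spec.structureSheaf (GQ Q)).obj.obj (op (PrimeSpectrum.basicOpen r))) :=
        StructureSheaf.IsLocalization.to_basicOpen _ r
      let e := IsLocalization.algEquiv (Submonoid.powers r)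
        ((Spec.structureSheaf (GQ Q)).obj.obj (op (PrimeSpectrum.basicOpen r))) (Q.presheaf.obj (op W))
      refine (ConcreteCategory.isIso_iff_bijective _).mpr ?_
      have he : ∀ z, Q.toΓSpecCApp r z = e z := by
        refine RingHom.congr_fun (IsLocalization.ringHom_ext (Submonoid.powers r)
          (j := (Q.toΓSpecCApp r).hom) (k := e.toRingEquiv.toRingHom) (RingHom.ext fun w => ?_))
        exact (ConcreteCategory.congr_hom (Q.toΓSpecCApp_spec r) w).trans (e.commutes w).symm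
      show Function.Bijective (Q.toΓSpecSheafedSpace.hom.c.app (op (PrimeSpectrum.basicOpen r)))
      rw [Q.toΓSpecSheafedSpace_app_eq r]
      exact (congrArg Function.Bijective (funext he)).mpr e.bijective
    let φ : Spec.structureSheaf (GQ Q) ⟶
        (TopCat.Sheaf.pushforward CommRingCat Q.toΓSpec.base).obj ⟨Q.presheaf, Q.IsSheaf⟩ := ⟨Q.toΓSpec.c⟩
    have hφ : IsIso φ :=
      TopCat.Sheaf.isIso_iff_isIso_basis PrimeSpectrum.isBasis_basic_opens fun r => ‹∀ r : GQ Q, IsIso (Q.toΓSpec.c.app (op (PrimeSpectrum.basicOpen r)))› r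
    refine ⟨(@inv _ _ _ _ φ hφ).hom, ?_, ?_⟩
    · exact congrArg (fun f => f.hom) (@IsIso.hom_inv_id _ _ _ _ φ hφ)
    · exact congrArg (fun f => f.hom) (@IsIso.inv_hom_id _ _ _ _ φ hφ)
  haveI : IsIso Q.toΓSpec.toHom := PresheafedSpace.isIso_of_components _
  haveI : IsIso (LocallyRingedSpace.forgetToSheafedSpace.map Q.toΓSpec) := by
    refine (isIso_iff_of_reflects_iso _ SheafedSpace.forgetToPresheafedSpace).mp ?_
    exact ‹IsIso Q.toΓSpec.toHom›
  exact isIso_of_reflects_iso Q.toΓSpec LocallyRingedSpace.forgetToSheafedSpace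

end Groth.Agent.FlatMisc.SchemePushoutAffine
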