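import Mathlib.LinearAlgebra.TensorProduct.RightExactness
import Mathlib.RingTheory.Finiteness.Nakayama
import Mathlib.RingTheory.Nakayama
import Mathlib.RingTheory.LocalRing.MaximalIdeal.Basic
import Mathlib.RingTheory.OrzechProperty
import Mathlib.RingTheory.FiniteType
import Mathlib.Algebra.Module.Projective
import Mathlib.LinearAlgebra.TensorProduct.Finiteness
import Mathlib.LinearAlgebra.Finsupp.Supported
import Mathlib.RingTheory.Finiteness.Finsupp
import Mathlib.Algebra.Module.LinearMap.End
import Mathlib.RingTheory.Ideal.Maps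
import Mathlib.RingTheory.Jacobson.Ideal
import Mathlib.RingTheory.Finiteness.Basic

set_option autoImplicit false

universe u

open TensorProduct

namespace Groth.Agent.FlatMisc.SmulTensor

variable {R : Type u} [CommRing R] [IsLocalRing R] {N : Type u} [AddCommGroup N] [Module R N]

/-- If every tensor lives on a finite retract of `N`, then an endomorphism of `N` with image in
`𝔪N` has no nonzero fixed tensor. -/
theorem eq_zero_of_fixed (T : N →ₗ[R] N)
    (hT : ∀ n, T n ∈ (IsLocalRing.maximalIdeal R • ⊤ : Submodule R N))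
    (M : Type u) [AddCommGroup M] [Module R M] (x : N ⊗[R] M) (hx : T.rTensor M x = x)
    (hfin : ∃ (P : Type u) (_ : AddCommGroup P) (_ : Module R P) (_ : Module.Finite R P)
      (i : P →ₗ[R] N) (p : N →ₗ[R] P), p ∘ₗ i = LinearMap.id ∧ x ∈ LinearMap.range (i.rTensor M)) :
    x = 0 := by
  obtain ⟨P, _, _, _, i, p, hpi, y, rfl⟩ := hfin
  set U : P →ₗ[R] P := LinearMap.id - p ∘ₗ T ∘ₗ i
  have hUs : Function.Surjective U := by
    rw [← LinearMap.range_eq_top, eq_top_iff]
    refine Submodule.le_of_le_smul_of_le_jacobson_bot Module.Finite.fg_top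
      (IsLocalRing.jacobson_eq_maximalIdeal (R := R) ⊥ bot_ne_top).ge ?_
    intro v _
    have h1 : p (T (i v)) ∈ (IsLocalRing.maximalIdeal R • ⊤ : Submodule R P) := by
      have := Submodule.mem_map_of_mem (f := p) (hT (i v))
      rw [Submodule.map_smul''] at this
      exact Submodule.smul_mono le_rfl le_top this
    have : v = U v + p (T (i v)) := by simp [U]
    rw [this]
    exact Submodule.add_mem_sup ⟨v, rfl⟩ h1
  have hUb : Function.Bijective U := ⟨OrzechProperty.injective_of_surjective_endomorphism U hUs, hUs⟩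
  have hy : U.rTensor M y = 0 := by
    simp only [U, LinearMap.rTensor_sub, LinearMap.rTensor_id, LinearMap.sub_apply, LinearMap.id_coe,
      id_eq, LinearMap.rTensor_comp, LinearMap.comp_apply]
    rw [hx, ← LinearMap.comp_apply, ← LinearMap.rTensor_comp, hpi, LinearMap.rTensor_id,
      LinearMap.id_coe, id_eq, sub_self]
  have : y = 0 := ((LinearEquiv.ofBijective U hUb).rTensor M).injective
    (hy.trans (map_zero _).symm)
  rw [this, map_zero]

omit [IsLocalRing R] in
theorem exists_finite_retract {ι : Type u} (M : Type u) [AddCommGroup M] [Module R M]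
    (z : (ι →₀ R) ⊗[R] M) :
    ∃ (P : Type u) (_ : AddCommGroup P) (_ : Module R P) (_ : Module.Finite R P)
      (i : P →ₗ[R] (ι →₀ R)) (p : (ι →₀ R) →ₗ[R] P), p ∘ₗ i = LinearMap.id ∧
      z ∈ LinearMap.range (i.rTensor M) := by
  classical
  obtain ⟨S, rfl⟩ := TensorProduct.exists_finset z
  let U : Finset ι := S.biUnion fun q => q.1.support
  let i : (U →₀ R) →ₗ[R] (ι →₀ R) := Finsupp.lmapDomain R R Subtype.val
  let p : (ι →₀ R) →ₗ[R] (U →₀ R) := Finsupp.lcomapDomain Subtype.val Subtype.val_injective
  have hip : ∀ a : ι →₀ R, a.support ⊆ U → i (p a) = a := fun a ha => by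
    show Finsupp.mapDomain Subtype.val (Finsupp.comapDomain Subtype.val a _) = a
    rw [Finsupp.mapDomain_comapDomain _ Subtype.val_injective]
    intro x hx
    exact ⟨⟨x, ha hx⟩, rfl⟩
  refine ⟨U →₀ R, inferInstance, inferInstance, inferInstance, i, p, ?_, ?_⟩
  · refine LinearMap.ext fun v => ?_
    exact Finsupp.comapDomain_mapDomain _ Subtype.val_injective v
  · refine Submodule.sum_mem _ fun q hq => ⟨p q.1 ⊗ₜ q.2, ?_⟩
    rw [LinearMap.rTensor_tmul, hip q.1 (Finset.subset_biUnion_of_mem (fun q => q.1.support) hq)]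

/-- Version for a projective module. -/
theorem eq_zero_of_fixed_of_projective [Module.Projective R N] (T : N →ₗ[R] N)
    (hT : ∀ n, T n ∈ (IsLocalRing.maximalIdeal R • ⊤ : Submodule R N))
    (M : Type u) [AddCommGroup M] [Module R M] (x : N ⊗[R] M) (hx : T.rTensor M x = x) : x = 0 := by
  classical
  obtain ⟨s, hs⟩ := Module.Projective.out (R := R) (P := N)
  set p : (N →₀ R) →ₗ[R] N := Finsupp.linearCombination R id
  have hps : p ∘ₗ s = LinearMap.id := LinearMap.ext hs
  have h := eq_zero_of_fixed (s ∘ₗ T ∘ₗ p) (fun v => by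
    have := Submodule.mem_map_of_mem (f := s) (hT (p v))
    rw [Submodule.map_smul''] at this
    exact Submodule.smul_mono le_rfl le_top this) M (s.rTensor M x) ?_ ?_
  · have := congrArg (p.rTensor M) h
    rwa [map_zero, ← LinearMap.comp_apply, ← LinearMap.rTensor_comp, hps, LinearMap.rTensor_id,
      LinearMap.id_coe, id_eq] at this
  · simp only [LinearMap.rTensor_comp, LinearMap.comp_apply]
    rw [← LinearMap.comp_apply (p.rTensor M), ← LinearMap.rTensor_comp, hps, LinearMap.rTensor_id,
      LinearMap.id_coe, id_eq, hx]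
  · exact exists_finite_retract M (s.rTensor M x)

end Groth.Agent.FlatMisc.SmulTensor
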