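import Groth.Agent.S6917
import Mathlib.AlgebraicGeometry.AffineScheme
import Mathlib.AlgebraicGeometry.Pullbacks
import Mathlib.AlgebraicGeometry.Gluing

/-!
The spectrum of a fibre product of rings along a surjection is a pushout of schemes.
-/

set_option autoImplicit false

universe u

open CategoryTheory AlgebraicGeometry Limits TopologicalSpace

namespace Groth.Agent.FlatMisc.SpecPushout

variable {B' B A' A : Type u} [CommRing B'] [CommRing B] [CommRing A'] [CommRing A]
  [Algebra B' B] [Algebra B' A'] [Algebra B A] [Algebra A' A] [Algebra B' A]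
  [IsScalarTower B' B A] [IsScalarTower B' A' A]

/-- The morphism of spectra given by an algebra. -/
noncomputable abbrev sp (R S : Type u) [CommRing R] [CommRing S] [Algebra R S] :
    Spec (CommRingCat.of S) ⟶ Spec (CommRingCat.of R) :=
  Spec.map (CommRingCat.ofHom (algebraMap R S))

instance sp_away_isOpenImmersion (R : Type u) [CommRing R] (t : R) :
    IsOpenImmersion (sp R (Localization.Away t)) :=
  IsOpenImmersion.of_isLocalization t

theorem range_sp_away (R : Type u) [CommRing R] (t : R) :
    Set.range (sp R (Localization.Away t)) = (PrimeSpectrum.basicOpen t : Set (PrimeSpectrum R)) :=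
  PrimeSpectrum.localization_away_comap_range (Localization.Away t) t

/-- The map of localisations. -/
noncomputable abbrev aw (R S : Type u) [CommRing R] [CommRing S] [Algebra R S] (t : R) :
    Localization.Away t →+* Localization.Away (algebraMap R S t) :=
  Localization.awayMap (algebraMap R S) t

theorem aw_algebraMap (R S : Type u) [CommRing R] [CommRing S] [Algebra R S] (t r : R) :
    aw R S t (algebraMap R _ r) = algebraMap S _ (algebraMap R S r) :=
  IsLocalization.map_eq _ r

theorem aw_comp (R S : Type u) [CommRing R] [CommRing S] [Algebra R S] (t : R) :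
    Spec.map (CommRingCat.ofHom (aw R S t)) ≫ sp R (Localization.Away t) =
      sp S (Localization.Away (algebraMap R S t)) ≫ sp R S := by
  rw [← Spec.map_comp, ← Spec.map_comp]
  congr 1
  exact CommRingCat.hom_ext (RingHom.ext fun r => aw_algebraMap R S t r)

variable (hsq : EtMil.IsFibreSquare B' B A' A)

include hsq in
theorem away_injective (t : B') (z : Localization.Away t) (hB : aw B' B t z = 0) (hA : aw B' A' t z = 0) :
    z = 0 := by
  obtain ⟨n, x, hx⟩ := IsLocalization.Away.surj t z
  have hB' : algebraMap B (Localization.Away (algebraMap B' B t)) (algebraMap B' B x) = 0 := by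
    rw [← aw_algebraMap, ← hx, map_mul, hB, zero_mul]
  have hA' : algebraMap A' (Localization.Away (algebraMap B' A' t)) (algebraMap B' A' x) = 0 := by
    rw [← aw_algebraMap, ← hx, map_mul, hA, zero_mul]
  rw [IsLocalization.map_eq_zero_iff (Submonoid.powers (algebraMap B' B t))] at hB'
  rw [IsLocalization.map_eq_zero_iff (Submonoid.powers (algebraMap B' A' t))] at hA'
  obtain ⟨⟨_, k, rfl⟩, hk⟩ := hB'
  obtain ⟨⟨_, l, rfl⟩, hl⟩ := hA'
  have h0 : t ^ (k + l) * x = 0 := by
    refine EtMilLib.eq_of_maps_eq hsq ?_ ?_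
    · rw [map_mul, map_pow, map_zero, pow_add, mul_right_comm, hk, zero_mul]
    · rw [map_mul, map_pow, map_zero, pow_add, mul_assoc, hl, mul_zero]
  have hu : IsUnit (algebraMap B' (Localization.Away t) t) := IsLocalization.Away.algebraMap_isUnit t
  refine (IsUnit.mul_left_eq_zero (hu.pow n)).mp (hx.trans ((IsUnit.mul_right_eq_zero (hu.pow (k + l))).mp ?_))
  rw [← map_pow, ← map_mul, h0, map_zero]

include hsq in
theorem away_exists (t : B') (b : Localization.Away (algebraMap B' B t)) (a : Localization.Away (algebraMap B' A' t))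
    (h : ∀ (T : Type u) [CommRing T] (fB : Localization.Away (algebraMap B' B t) →+* T)
      (fA : Localization.Away (algebraMap B' A' t) →+* T), fB.comp ((algebraMap B _).comp (algebraMap B' B)) =
        fA.comp ((algebraMap A' _).comp (algebraMap B' A')) →
        (∀ x y, algebraMap B A x = algebraMap A' A y → fB (algebraMap B _ x) = fA (algebraMap A' _ y)) → fB b = fA a) :
    ∃ z : Localization.Away t, aw B' B t z = b ∧ aw B' A' t z = a := by
  let tA := algebraMap B' A t
  have htB : algebraMap B A (algebraMap B' B t) = tA := (IsScalarTower.algebraMap_apply B' B A t).symm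
  have htA : algebraMap A' A (algebraMap B' A' t) = tA := (IsScalarTower.algebraMap_apply B' A' A t).symm
  have huA : IsUnit (algebraMap A (Localization.Away tA) tA) := IsLocalization.Away.algebraMap_isUnit tA
  let gB : Localization.Away (algebraMap B' B t) →+* Localization.Away tA :=
    IsLocalization.Away.lift (algebraMap B' B t) (g := (algebraMap A _).comp (algebraMap B A))
      (by rw [RingHom.comp_apply, htB]; exact huA)
  let gA : Localization.Away (algebraMap B' A' t) →+* Localization.Away tA :=
    IsLocalization.Away.lift (algebraMap B' A' t) (g := (algebraMap A _).comp (algebraMap A' A))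
      (by rw [RingHom.comp_apply, htA]; exact huA)
  have hgB : ∀ x, gB (algebraMap B _ x) = algebraMap A _ (algebraMap B A x) := fun x =>
    IsLocalization.Away.lift_eq _ _ x
  have hgA : ∀ x, gA (algebraMap A' _ x) = algebraMap A _ (algebraMap A' A x) := fun x =>
    IsLocalization.Away.lift_eq _ _ x
  have hab : gB b = gA a := h _ gB gA (RingHom.ext fun x => by
      simp only [RingHom.comp_apply, hgB, hgA, ← IsScalarTower.algebraMap_apply B' B A,
        ← IsScalarTower.algebraMap_apply B' A' A])
    fun x y hxy => by rw [hgB, hgA, hxy]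
  obtain ⟨n, b₀, hb⟩ := IsLocalization.Away.surj (algebraMap B' B t) b
  obtain ⟨m, a₀, ha⟩ := IsLocalization.Away.surj (algebraMap B' A' t) a
  have hb' : b * algebraMap B _ (algebraMap B' B t) ^ (n + m) = algebraMap B _ (b₀ * algebraMap B' B t ^ m) := by
    rw [pow_add, ← mul_assoc, hb, map_mul, map_pow]
  have ha' : a * algebraMap A' _ (algebraMap B' A' t) ^ (n + m) = algebraMap A' _ (a₀ * algebraMap B' A' t ^ n) := by
    rw [Nat.add_comm, pow_add, ← mul_assoc, ha, map_mul, map_pow]
  have heq : algebraMap A (Localization.Away tA) (algebraMap B A (b₀ * algebraMap B' B t ^ m)) =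
      algebraMap A (Localization.Away tA) (algebraMap A' A (a₀ * algebraMap B' A' t ^ n)) := by
    rw [← hgB, ← hgA, ← hb', ← ha', map_mul, map_mul, map_pow, map_pow, hgB, hgA, htB, htA, hab]
  obtain ⟨⟨_, k, rfl⟩, hk⟩ := (IsLocalization.eq_iff_exists (Submonoid.powers tA) _).mp heq
  obtain ⟨x, ⟨hxB, hxA⟩, -⟩ := hsq.2 (algebraMap B' B t ^ k * (b₀ * algebraMap B' B t ^ m))
    (algebraMap B' A' t ^ k * (a₀ * algebraMap B' A' t ^ n)) (by
      rw [map_mul _ (_ ^ k), map_mul (algebraMap A' A) (_ ^ k), map_pow (algebraMap B A),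
        map_pow (algebraMap A' A), htB, htA]
      exact hk)
  have hu : IsUnit (algebraMap B' (Localization.Away t) t) := IsLocalization.Away.algebraMap_isUnit t
  obtain ⟨w, hw⟩ := hu.pow (k + (n + m))
  refine ⟨algebraMap B' _ x * (↑w⁻¹ : Localization.Away t), ?_, ?_⟩
  · have h1 : aw B' B t (algebraMap B' _ x) = b * aw B' B t w := by
      rw [hw, map_pow, aw_algebraMap, aw_algebraMap, hxB, map_mul, map_pow, ← hb', pow_add]
      ring
    rw [map_mul, h1, mul_assoc, ← map_mul, Units.mul_inv, map_one, mul_one]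
  · have h1 : aw B' A' t (algebraMap B' _ x) = a * aw B' A' t w := by
      rw [hw, map_pow, aw_algebraMap, aw_algebraMap, hxA, map_mul, map_pow, ← ha', pow_add]
      ring
    rw [map_mul, h1, mul_assoc, ← map_mul, Units.mul_inv, map_one, mul_one]

variable {Y : Scheme.{u}}

include hsq in
theorem hom_ext_open {Z : Scheme.{u}} (j : Z ⟶ Spec (CommRingCat.of B')) [IsOpenImmersion j] (f₁ f₂ : Z ⟶ Y)
    (hB : ∀ {T : Scheme.{u}} (a : T ⟶ Z) (b : T ⟶ Spec (CommRingCat.of B)), a ≫ j = b ≫ sp B' B → a ≫ f₁ = a ≫ f₂)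
    (hA : ∀ {T : Scheme.{u}} (a : T ⟶ Z) (b : T ⟶ Spec (CommRingCat.of A')), a ≫ j = b ≫ sp B' A' → a ≫ f₁ = a ≫ f₂) :
    f₁ = f₂ := by
  have hpt : ∀ z, f₁ z = f₂ z := fun z => by
    have key : ∀ (S : Scheme.{u}) (i : S ⟶ Spec (CommRingCat.of B')) (q : S), i q = j z →
        (∀ {T : Scheme.{u}} (a : T ⟶ Z) (b : T ⟶ S), a ≫ j = b ≫ i → a ≫ f₁ = a ≫ f₂) → f₁ z = f₂ z := by
      intro S i q hq H
      have hr : Set.range (S.fromSpecResidueField q ≫ i) ⊆ Set.range j := by
        rintro _ ⟨s, rfl⟩
        exact ⟨z, by rw [Scheme.Hom.comp_apply, Scheme.fromSpecResidueField_apply, hq]⟩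
      let a := IsOpenImmersion.lift j (S.fromSpecResidueField q ≫ i) hr
      have ha : a ≫ j = S.fromSpecResidueField q ≫ i := IsOpenImmersion.lift_fac _ _ _
      obtain ⟨s⟩ : Nonempty (Spec (S.residueField q)) := inferInstance
      have haz : a s = z := j.isOpenEmbedding.injective (by
        rw [← Scheme.Hom.comp_apply, ha, Scheme.Hom.comp_apply, Scheme.fromSpecResidueField_apply, hq])
      have := congrArg (fun k : _ ⟶ Y => k s) (H a _ ha)
      simp only [Scheme.Hom.comp_apply, haz] at this
      exact this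
    rcases S6917.mem_range_or hsq (j z) with ⟨Q, hQ⟩ | ⟨Q, hQ⟩
    · exact key _ (sp B' B) Q hQ hB
    · exact key _ (sp B' A') Q hQ hA
  have hloc : ∀ z : Z, ∃ (s : B') (k : Spec (CommRingCat.of (Localization.Away s)) ⟶ Z) (_ : IsOpenImmersion k),
      z ∈ Set.range k ∧ k ≫ f₁ = k ≫ f₂ := by
    intro z
    obtain ⟨W, hW, hzW, -⟩ := exists_isAffineOpen_mem_and_subset (x := f₁ z) (U := ⊤) trivial
    obtain ⟨_, ⟨_, ⟨s, rfl⟩, rfl⟩, hzs, hsub⟩ := PrimeSpectrum.isBasis_basic_opens.exists_subset_of_mem_open
      (show j z ∈ j '' (f₁ ⁻¹' (W : Set Y)) from ⟨z, hzW, rfl⟩)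
      (j.isOpenEmbedding.isOpenMap _ (W.2.preimage f₁.continuous))
    have hr : Set.range (sp B' (Localization.Away s)) ⊆ Set.range j := by
      rw [range_sp_away]; exact hsub.trans (Set.image_subset_range _ _)
    let k := IsOpenImmersion.lift j (sp B' (Localization.Away s)) hr
    have hk : k ≫ j = sp B' (Localization.Away s) := IsOpenImmersion.lift_fac _ _ _
    haveI : IsOpenImmersion k :=
      haveI : IsOpenImmersion (k ≫ j) := by rw [hk]; infer_instance
      IsOpenImmersion.of_comp k j
    refine ⟨s, k, ‹_›, ?_, ?_⟩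
    · obtain ⟨w, hw⟩ : j z ∈ Set.range (sp B' (Localization.Away s)) := by rw [range_sp_away]; exact hzs
      exact ⟨w, j.isOpenEmbedding.injective (by rw [← Scheme.Hom.comp_apply, hk, hw])⟩
    have hin : Set.range (k ≫ f₁) ⊆ Set.range hW.fromSpec := by
      rw [hW.range_fromSpec]
      rintro _ ⟨w, rfl⟩
      obtain ⟨z', hz', hjz'⟩ := hsub (show (k ≫ j) w ∈ _ by
        rw [hk]; exact range_sp_away B' s ▸ Set.mem_range_self w)
      rw [Scheme.Hom.comp_apply] at hjz' ⊢
      rw [← j.isOpenEmbedding.injective hjz']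
      exact hz'
    have hin₂ : Set.range (k ≫ f₂) ⊆ Set.range hW.fromSpec := by
      refine subset_trans ?_ hin
      rintro _ ⟨w, rfl⟩
      exact ⟨w, by simp [hpt]⟩
    obtain ⟨ρ₁, hρ₁⟩ := Spec.map_surjective (IsOpenImmersion.lift hW.fromSpec (k ≫ f₁) hin)
    obtain ⟨ρ₂, hρ₂⟩ := Spec.map_surjective (IsOpenImmersion.lift hW.fromSpec (k ≫ f₂) hin₂)
    have e₁ : Spec.map ρ₁ ≫ hW.fromSpec = k ≫ f₁ := by rw [hρ₁, IsOpenImmersion.lift_fac]
    have e₂ : Spec.map ρ₂ ≫ hW.fromSpec = k ≫ f₂ := by rw [hρ₂, IsOpenImmersion.lift_fac]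
    suffices ρ₁ = ρ₂ by rw [← e₁, ← e₂, this]
    have hc : ∀ (C : Type u) [CommRing C] [Algebra B' C],
        (∀ {T : Scheme.{u}} (a : T ⟶ Z) (b : T ⟶ Spec (CommRingCat.of C)), a ≫ j = b ≫ sp B' C → a ≫ f₁ = a ≫ f₂) →
        ρ₁ ≫ CommRingCat.ofHom (aw B' C s) = ρ₂ ≫ CommRingCat.ofHom (aw B' C s) := by
      intro C _ _ H
      apply Spec.map_injective
      rw [Spec.map_comp, Spec.map_comp, ← cancel_mono hW.fromSpec, Category.assoc, Category.assoc, e₁, e₂,
        ← Category.assoc, ← Category.assoc]
      refine H _ (sp C (Localization.Away (algebraMap B' C s))) ?_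
      rw [Category.assoc, hk, aw_comp]
    refine CommRingCat.hom_ext (RingHom.ext fun r => sub_eq_zero.mp (away_injective hsq s _ ?_ ?_))
    · have h3 := congrArg (fun φ : _ ⟶ CommRingCat.of (Localization.Away (algebraMap B' B s)) => φ r) (hc B hB)
      rw [map_sub, sub_eq_zero]
      exact h3
    · have h3 := congrArg (fun φ : _ ⟶ CommRingCat.of (Localization.Away (algebraMap B' A' s)) => φ r) (hc A' hA)
      rw [map_sub, sub_eq_zero]
      exact h3
  choose s k hk hz he using hloc
  let 𝒰 : Z.OpenCover := Scheme.Cover.mkOfCovers Z (fun z => Spec (CommRingCat.of (Localization.Away (s z)))) k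
    (fun z => ⟨z, hz z⟩) hk
  exact 𝒰.hom_ext f₁ f₂ he

include hsq in
theorem isPushout : IsPushout (sp B A) (sp A' A) (sp B' B) (sp B' A') := by
  have w : sp B A ≫ sp B' B = sp A' A ≫ sp B' A' := by
    rw [← Spec.map_comp, ← Spec.map_comp]
    congr 1
    exact CommRingCat.hom_ext ((IsScalarTower.algebraMap_eq B' B A).symm.trans (IsScalarTower.algebraMap_eq B' A' A))
  have hex : ∀ (Y : Scheme.{u}) (v : Spec (CommRingCat.of B) ⟶ Y) (u : Spec (CommRingCat.of A') ⟶ Y),
      sp B A ≫ v = sp A' A ≫ u → ∃ g, sp B' B ≫ g = v ∧ sp B' A' ≫ g = u := by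
    intro Y v u hvu
    let vt : TopCat.of (PrimeSpectrum B) ⟶ Y.toTopCat := TopCat.ofHom ⟨fun z => v z, v.continuous⟩
    let ut : TopCat.of (PrimeSpectrum A') ⟶ Y.toTopCat := TopCat.ofHom ⟨fun z => u z, u.continuous⟩
    have hpo := S6917.result B' B A' A hsq
    let ht := hpo.desc vt ut (TopCat.hom_ext (ContinuousMap.ext fun z =>
      congrArg (fun k : _ ⟶ Y => k z) hvu))
    have hvh : ∀ Q, ht (PrimeSpectrum.comap (algebraMap B' B) Q) = v Q := fun Q =>
      ConcreteCategory.congr_hom (hpo.inl_desc vt ut _) Q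
    have huh : ∀ Q, ht (PrimeSpectrum.comap (algebraMap B' A') Q) = u Q := fun Q =>
      ConcreteCategory.congr_hom (hpo.inr_desc vt ut _) Q
    have hloc : ∀ P : PrimeSpectrum B', ∃ (t : B') (m : Spec (CommRingCat.of (Localization.Away t)) ⟶ Y),
        t ∉ P.asIdeal ∧
        (∀ {T : Scheme.{u}} (c : T ⟶ Spec (CommRingCat.of (Localization.Away t))) (b : T ⟶ Spec (CommRingCat.of B)),
          c ≫ sp B' (Localization.Away t) = b ≫ sp B' B → c ≫ m = b ≫ v) ∧
        (∀ {T : Scheme.{u}} (c : T ⟶ Spec (CommRingCat.of (Localization.Away t))) (b : T ⟶ Spec (CommRingCat.of A')),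
          c ≫ sp B' (Localization.Away t) = b ≫ sp B' A' → c ≫ m = b ≫ u) := by
      intro P
      obtain ⟨W, hW, hPW, -⟩ := exists_isAffineOpen_mem_and_subset (x := ht P) (U := ⊤) trivial
      obtain ⟨_, ⟨_, ⟨t, rfl⟩, rfl⟩, hPt, hsub⟩ := PrimeSpectrum.isBasis_basic_opens.exists_subset_of_mem_open
        (show P ∈ ht ⁻¹' (W : Set Y) from hPW) (W.2.preimage ht.hom.continuous)
      have hr : ∀ (C : Type u) [CommRing C] [Algebra B' C] (k : Spec (CommRingCat.of C) ⟶ Y),
          (∀ Q, ht (PrimeSpectrum.comap (algebraMap B' C) Q) = k Q) →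
          Set.range (sp C (Localization.Away (algebraMap B' C t)) ≫ k) ⊆ Set.range hW.fromSpec := by
        intro C _ _ k hk
        rw [hW.range_fromSpec]
        rintro _ ⟨q, rfl⟩
        have h1 : (sp C (Localization.Away (algebraMap B' C t)) q : PrimeSpectrum C) ∈ PrimeSpectrum.basicOpen (algebraMap B' C t) := by
          have : (sp C (Localization.Away (algebraMap B' C t)) q : PrimeSpectrum C) ∈ (PrimeSpectrum.basicOpen (algebraMap B' C t) : Set (PrimeSpectrum C)) :=
            range_sp_away C (algebraMap B' C t) ▸ Set.mem_range_self q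
          exact this
        rw [Scheme.Hom.comp_apply, ← hk]
        exact hsub (show PrimeSpectrum.comap (algebraMap B' C) _ ∈ PrimeSpectrum.basicOpen t from h1)
      obtain ⟨ρB, hρB⟩ := Spec.map_surjective (IsOpenImmersion.lift hW.fromSpec _ (hr B v hvh))
      obtain ⟨ρA, hρA⟩ := Spec.map_surjective (IsOpenImmersion.lift hW.fromSpec _ (hr A' u huh))
      have eB : Spec.map ρB ≫ hW.fromSpec = sp B _ ≫ v := by rw [hρB, IsOpenImmersion.lift_fac]
      have eA : Spec.map ρA ≫ hW.fromSpec = sp A' _ ≫ u := by rw [hρA, IsOpenImmersion.lift_fac]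
      have hex' : ∀ r, ∃ z, aw B' B t z = ρB r ∧ aw B' A' t z = ρA r := fun r =>
        away_exists hsq t _ _ fun T _ fB fA hcomm hfib => by
          have h1 : Spec.map (CommRingCat.ofHom fB) ≫ Spec.map ρB = Spec.map (CommRingCat.ofHom fA) ≫ Spec.map ρA := by
            rw [← cancel_mono hW.fromSpec, Category.assoc, Category.assoc, eB, eA, ← Category.assoc, ← Category.assoc]
            -- both factor through `Spec A`
            obtain ⟨φ, hφB, hφA⟩ : ∃ φ : A →+* T, φ.comp (algebraMap B A) = fB.comp (algebraMap B _) ∧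
                φ.comp (algebraMap A' A) = fA.comp (algebraMap A' _) := by
              have hker : ∀ y, algebraMap A' A y = 0 → fA (algebraMap A' _ y) = 0 := fun y hy => by
                rw [← hfib 0 y (by rw [map_zero, hy]), map_zero, map_zero]
              let φ : A →+* T := RingHom.liftOfSurjective (algebraMap A' A) hsq.1
                ⟨fA.comp (algebraMap A' _), fun y hy => RingHom.mem_ker.mpr (hker y (RingHom.mem_ker.mp hy))⟩
              have hφ : ∀ y, φ (algebraMap A' A y) = fA (algebraMap A' _ y) := fun y =>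
                RingHom.liftOfRightInverse_comp_apply _ _ _ _ y
              refine ⟨φ, RingHom.ext fun x => ?_, RingHom.ext hφ⟩
              obtain ⟨y, hy⟩ := hsq.1 (algebraMap B A x)
              rw [RingHom.comp_apply, ← hy, hφ, RingHom.comp_apply, hfib x y hy.symm]
            have eB' : Spec.map (CommRingCat.ofHom fB) ≫ sp B (Localization.Away (algebraMap B' B t)) =
                Spec.map (CommRingCat.ofHom φ) ≫ sp B A := by
              rw [← Spec.map_comp, ← Spec.map_comp, ← CommRingCat.ofHom_comp, ← CommRingCat.ofHom_comp, hφB]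
            have eA' : Spec.map (CommRingCat.ofHom fA) ≫ sp A' (Localization.Away (algebraMap B' A' t)) =
                Spec.map (CommRingCat.ofHom φ) ≫ sp A' A := by
              rw [← Spec.map_comp, ← Spec.map_comp, ← CommRingCat.ofHom_comp, ← CommRingCat.ofHom_comp, hφA]
            rw [eB', eA', Category.assoc, Category.assoc, hvu]
          rw [← Spec.map_comp, ← Spec.map_comp] at h1
          exact congrArg (fun k : _ ⟶ CommRingCat.of T => k r) (Spec.map_injective h1)
      let e := (aw B' B t).prod (aw B' A' t)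
      have he : Function.Injective e := (injective_iff_map_eq_zero e).mpr fun z hz =>
        away_injective hsq t z (congrArg Prod.fst hz) (congrArg Prod.snd hz)
      let eE := RingEquiv.ofBijective e.rangeRestrict
        ⟨fun a b hab => he (congrArg Subtype.val hab), e.rangeRestrict_surjective⟩
      let ρ : Γ(Y, W) →+* Localization.Away t := eE.symm.toRingHom.comp
        ((ρB.hom.prod ρA.hom).codRestrict e.range fun r => by
          obtain ⟨z, h1, h2⟩ := hex' r
          exact ⟨z, Prod.ext h1 h2⟩)
      have hρ : ∀ r, e (ρ r) = (ρB r, ρA r) := fun r =>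
        congrArg Subtype.val (eE.apply_symm_apply _)
      refine ⟨t, Spec.map (CommRingCat.ofHom ρ) ≫ hW.fromSpec, hPt, fun c b hcb => ?_, fun c b hcb => ?_⟩
      · have hb : Set.range b ⊆ Set.range (sp B (Localization.Away (algebraMap B' B t))) := by
          rw [range_sp_away]
          rintro _ ⟨q, rfl⟩
          have h2 : sp B' (Localization.Away t) (c q) ∈ (PrimeSpectrum.basicOpen t : Set (PrimeSpectrum B')) :=
            range_sp_away B' t ▸ Set.mem_range_self (c q)
          rw [← Scheme.Hom.comp_apply, hcb] at h2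
          exact h2
        have hc : c = IsOpenImmersion.lift _ b hb ≫ Spec.map (CommRingCat.ofHom (aw B' B t)) := by
          rw [← cancel_mono (sp B' (Localization.Away t)), Category.assoc, aw_comp, ← Category.assoc,
            IsOpenImmersion.lift_fac, hcb]
        conv_rhs => rw [← IsOpenImmersion.lift_fac (sp B (Localization.Away (algebraMap B' B t))) b hb]
        rw [hc, Category.assoc, ← Category.assoc (Spec.map _) (Spec.map _), ← Spec.map_comp, Category.assoc, ← eB]
        congr 3
        exact CommRingCat.hom_ext (RingHom.ext fun r => congrArg Prod.fst (hρ r))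
      · have hb : Set.range b ⊆ Set.range (sp A' (Localization.Away (algebraMap B' A' t))) := by
          rw [range_sp_away]
          rintro _ ⟨q, rfl⟩
          have h2 : sp B' (Localization.Away t) (c q) ∈ (PrimeSpectrum.basicOpen t : Set (PrimeSpectrum B')) :=
            range_sp_away B' t ▸ Set.mem_range_self (c q)
          rw [← Scheme.Hom.comp_apply, hcb] at h2
          exact h2
        have hc : c = IsOpenImmersion.lift _ b hb ≫ Spec.map (CommRingCat.ofHom (aw B' A' t)) := by
          rw [← cancel_mono (sp B' (Localization.Away t)), Category.assoc, aw_comp, ← Category.assoc,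
            IsOpenImmersion.lift_fac, hcb]
        conv_rhs => rw [← IsOpenImmersion.lift_fac (sp A' (Localization.Away (algebraMap B' A' t))) b hb]
        rw [hc, Category.assoc, ← Category.assoc (Spec.map _) (Spec.map _), ← Spec.map_comp, Category.assoc, ← eA]
        congr 3
        exact CommRingCat.hom_ext (RingHom.ext fun r => congrArg Prod.snd (hρ r))
    choose t m ht' hmB hmA using hloc
    let 𝒰 : (Spec (CommRingCat.of B')).OpenCover := Scheme.Cover.mkOfCovers (PrimeSpectrum B')
      (fun P => Spec (CommRingCat.of (Localization.Away (t P)))) (fun P => sp B' (Localization.Away (t P)))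
      (fun P => ⟨P, (show P ∈ Set.range (sp B' (Localization.Away (t P))) by rw [range_sp_away]; exact ht' P)⟩) (fun P => sp_away_isOpenImmersion B' (t P))
    let g := 𝒰.glueMorphisms m fun P Q => by
      haveI : IsOpenImmersion (𝒰.f P) := sp_away_isOpenImmersion B' (t P)
      haveI : IsOpenImmersion (𝒰.f Q) := sp_away_isOpenImmersion B' (t Q)
      refine hom_ext_open hsq (pullback.fst (𝒰.f P) (𝒰.f Q) ≫ 𝒰.f P) _ _ (fun a b hab => ?_) (fun a b hab => ?_)
      · refine ((Category.assoc _ _ _).symm.trans (hmB P (a ≫ pullback.fst _ _) b ((Category.assoc _ _ _).trans hab))).trans ?_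
        refine (hmB Q (a ≫ pullback.snd _ _) b ?_).symm.trans (Category.assoc _ _ _)
        refine (Category.assoc _ _ _).trans ?_
        exact (congrArg (a ≫ ·) pullback.condition.symm).trans hab
      · refine ((Category.assoc _ _ _).symm.trans (hmA P (a ≫ pullback.fst _ _) b ((Category.assoc _ _ _).trans hab))).trans ?_
        refine (hmA Q (a ≫ pullback.snd _ _) b ?_).symm.trans (Category.assoc _ _ _)
        refine (Category.assoc _ _ _).trans ?_
        exact (congrArg (a ≫ ·) pullback.condition.symm).trans hab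
    refine ⟨g, ?_, ?_⟩
    · refine Scheme.Cover.hom_ext (𝒰.pullback₁ (sp B' B)) _ _ fun P => ?_
      show pullback.fst (sp B' B) (𝒰.f P) ≫ sp B' B ≫ g = pullback.fst (sp B' B) (𝒰.f P) ≫ v
      rw [pullback.condition_assoc, Scheme.Cover.ι_glueMorphisms]
      exact hmB P _ _ pullback.condition.symm
    · refine Scheme.Cover.hom_ext (𝒰.pullback₁ (sp B' A')) _ _ fun P => ?_
      show pullback.fst (sp B' A') (𝒰.f P) ≫ sp B' A' ≫ g = pullback.fst (sp B' A') (𝒰.f P) ≫ u
      rw [pullback.condition_assoc, Scheme.Cover.ι_glueMorphisms]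
      exact hmA P _ _ pullback.condition.symm
  refine IsPushout.of_isColimit (c := PushoutCocone.mk _ _ w) (PushoutCocone.IsColimit.mk _
    (fun s => (hex s.pt s.inl s.inr s.condition).choose)
    (fun s => (hex s.pt s.inl s.inr s.condition).choose_spec.1)
    (fun s => (hex s.pt s.inl s.inr s.condition).choose_spec.2) fun s g hgB hgA => ?_)
  obtain ⟨hB, hA⟩ := (hex s.pt s.inl s.inr s.condition).choose_spec
  refine hom_ext_open hsq (𝟙 _) _ _ (fun a b hab => ?_) (fun a b hab => ?_)
  · rw [Category.comp_id] at hab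
    rw [hab, Category.assoc, Category.assoc, hgB, hB]
  · rw [Category.comp_id] at hab
    rw [hab, Category.assoc, Category.assoc, hgA, hA]

end Groth.Agent.FlatMisc.SpecPushout
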