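import Mathlib.RingTheory.Valuation.LocalSubring
import Mathlib.RingTheory.Bezout
import Mathlib.RingTheory.Localization.FractionRing
import Mathlib.RingTheory.Valuation.ValuationRing

set_option autoImplicit false

universe u

namespace Groth.Agent.FlatMisc.Valuation

/-- In a domain, no nonzero nonunit `x` lies in every power of some finitely generated ideal inside
each prime containing `x`. -/
theorem false_of_mem_pow (A : Type u) [CommRing A] [IsDomain A] (x : A) (hx0 : x ≠ 0) (hxu : ¬ IsUnit x)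
    (h : ∀ p : Ideal A, p.IsPrime → x ∈ p → ∃ J : Ideal A, J.FG ∧ J ≤ p ∧ ∀ n, 1 ≤ n → x ∈ J ^ n) :
    False := by
  let g := algebraMap A (FractionRing A)
  let x' : g.range := g.rangeRestrict x
  have hxu' : Ideal.span {x'} ≠ ⊤ := by
    rw [Ne, Ideal.span_singleton_eq_top]
    intro hu
    apply hxu
    exact (isUnit_map_iff (RingEquiv.ofBijective g.rangeRestrict
      ⟨fun a b hab => IsFractionRing.injective A (FractionRing A) (congrArg Subtype.val hab),
        g.rangeRestrict_surjective⟩) x).mp hu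
  obtain ⟨V, hV, hV'⟩ := Ideal.image_subset_nonunits_valuationSubring (Ideal.span {x'}) hxu'
  let φ : A →+* V := g.codRestrict V.toSubring (fun a => hV ⟨a, rfl⟩)
  have hφ0 : ∀ a : A, φ a = 0 → a = 0 := fun a ha =>
    IsFractionRing.injective A (FractionRing A) ((congrArg Subtype.val ha).trans (map_zero g).symm)
  set Q : Ideal V := (Ideal.span {φ x}).radical
  have hxV : ¬ IsUnit (φ x) := by
    have : g x ∈ V.nonunits := hV' ⟨x', Ideal.mem_span_singleton_self _, rfl⟩
    rw [ValuationSubring.mem_nonunits_iff_exists_mem_maximalIdeal] at this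
    obtain ⟨_, hm⟩ := this
    exact hm
  have hne : Ideal.span {φ x} ≠ ⊤ := by rwa [Ne, Ideal.span_singleton_eq_top]
  have hQ : Q.IsPrime := by
    refine ⟨fun htop => hne (Ideal.radical_eq_top.mp htop), fun {a b} hab => ?_⟩
    obtain ⟨k, hk⟩ := hab
    rcases ValuationRing.dvd_total a b with ⟨c, rfl⟩ | ⟨c, rfl⟩
    · exact Or.inr ⟨2 * k, by
        have he : (a * c) ^ (2 * k) = (a * (a * c)) ^ k * c ^ k := by ring
        rw [he]; exact Ideal.mul_mem_right _ _ hk⟩
    · exact Or.inl ⟨2 * k, by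
        have he : (b * c) ^ (2 * k) = (b * c * b) ^ k * c ^ k := by ring
        rw [he]; exact Ideal.mul_mem_right _ _ hk⟩
  obtain ⟨J, hJfg, hJp, hJx⟩ := h (Q.comap φ) inferInstance
    (Ideal.le_radical (Ideal.mem_span_singleton_self (φ x)))
  obtain ⟨t, ht⟩ := IsBezout.isPrincipal_of_FG (J.map φ) (hJfg.map φ)
  have htQ : t ∈ Q := Ideal.map_le_iff_le_comap.mpr hJp (by rw [ht]; exact Submodule.mem_span_singleton_self t)
  have hdvd : ∀ n, 1 ≤ n → t ^ n ∣ φ x := fun n hn => by
    rw [← Ideal.mem_span_singleton, ← Ideal.span_singleton_pow]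
    have := Ideal.mem_map_of_mem φ (hJx n hn)
    rwa [Ideal.map_pow, ht] at this
  obtain ⟨k, hk⟩ := htQ
  rw [Ideal.mem_span_singleton] at hk
  have h2 : t ^ (k + 1) ∣ t ^ k := (hdvd (k + 1) (Nat.le_add_left 1 k)).trans hk
  by_cases ht0 : t = 0
  · apply hx0
    apply hφ0
    have := hdvd 1 le_rfl
    rwa [ht0, pow_one, zero_dvd_iff] at this
  · have htu : IsUnit t := by
      obtain ⟨c, hc⟩ := h2
      refine IsUnit.of_mul_eq_one c ?_
      have : t ^ k * 1 = t ^ k * (t * c) := by rw [mul_one, ← mul_assoc, ← pow_succ]; exact hc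
      exact (mul_left_cancel₀ (pow_ne_zero k ht0) this).symm
    have htQ : t ∈ Q := ⟨k, Ideal.mem_span_singleton.mpr hk⟩
    exact hQ.ne_top (Ideal.eq_top_of_isUnit_mem _ htQ htu)

end Groth.Agent.FlatMisc.Valuation
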